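import Mathlib

/-!
Elementary lemmas on elements of prime order acting on subgroups by conjugation.
-/

set_option autoImplicit false

open scoped Classical

namespace Cfsg.Agent.H90.MTwentyThree

open Subgroup

universe u

variable {G : Type u} [Group G] [Finite G]

/-- Frattini: a Sylow subgroup `S` of a subgroup `C` normalised by `g` is normalised by `c g` for
some `c ∈ C`. -/
theorem exists_mul_normalizes {q : ℕ} [Fact q.Prime] {C : Subgroup G} (S : Sylow q C) {g : G}
    (hg : g ∈ normalizer (C : Set G)) :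
    ∃ c ∈ C, c * g ∈ normalizer (((S : Subgroup C).map C.subtype : Subgroup G) : Set G) := by
  set S' : Subgroup G := (S : Subgroup C).map C.subtype with hS'
  set T : Subgroup G := S'.map (MulAut.conj g).toMonoidHom with hT
  have hTC : T ≤ C := by
    rintro _ ⟨a, ha, rfl⟩
    exact (mem_normalizer_iff.1 hg a).1 (map_subtype_le _ ha)
  have hTcard : Nat.card (T.subgroupOf C) = Nat.card S := by
    rw [Nat.card_congr (subgroupOfEquivOfLe hTC).toEquiv, hT,
      ← Nat.card_congr (equivMapOfInjective _ _ (MulAut.conj g).injective).toEquiv, hS',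
      ← Nat.card_congr (equivMapOfInjective _ _ C.subtype_injective).toEquiv]
  obtain ⟨k, hk⟩ := IsPGroup.iff_card.1 S.isPGroup'
  have hTp : IsPGroup q (T.subgroupOf C) := IsPGroup.of_card (n := k) (by rw [hTcard, hk])
  obtain ⟨R, hR⟩ := hTp.exists_le_sylow
  have hRe : (R : Subgroup C) = T.subgroupOf C := (eq_of_le_of_card_ge hR (by
    rw [hTcard, R.card_eq_multiplicity, S.card_eq_multiplicity])).symm
  obtain ⟨c, hc⟩ := MulAction.exists_smul_eq C R S
  have hc' : (S : Subgroup C) = (T.subgroupOf C).map (MulAut.conj c).toMonoidHom := by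
    rw [← hc, ← hRe]; rfl
  refine ⟨c, c.2, mem_normalizer_iff.2 fun a => ?_⟩
  have hmem : ∀ b : G, b ∈ S' → (c : G) * g * b * ((c : G) * g)⁻¹ ∈ S' := by
    intro b hb
    have hbT : g * b * g⁻¹ ∈ T := ⟨b, hb, rfl⟩
    have h1 : (MulAut.conj c).toMonoidHom ⟨g * b * g⁻¹, hTC hbT⟩ ∈ (S : Subgroup C) := by
      rw [hc']
      exact ⟨_, mem_subgroupOf.2 hbT, rfl⟩
    refine ⟨_, h1, ?_⟩
    show (c : G) * (g * b * g⁻¹) * (c : G)⁻¹ = _
    group
  constructor
  · exact hmem a
  · intro h
    let f : S' → S' := fun b => ⟨_, hmem b b.2⟩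
    have hf : Function.Injective f := fun b b' hbb => by
      have h' := congrArg Subtype.val hbb
      simp only [f] at h'
      exact Subtype.ext (mul_left_cancel (mul_right_cancel h'))
    obtain ⟨b, hb⟩ := (Finite.injective_iff_surjective.1 hf) ⟨_, h⟩
    have hb' := congrArg Subtype.val hb
    simp only [f] at hb'
    have : (b : G) = a := mul_left_cancel (mul_right_cancel hb')
    exact this ▸ b.2

/-- If `M` normalises `C` and has an element of prime order `r` outside `C`, then an element of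
order `r` in `M` normalises a given Sylow subgroup of `C`. -/
theorem exists_prime_normalizes {q r : ℕ} [Fact q.Prime] [hr : Fact r.Prime] {M C : Subgroup G}
    (hCM : C ≤ M) (hMC : M ≤ normalizer (C : Set G)) (S : Sylow q C) {g : G} (hgM : g ∈ M)
    (hg : orderOf g = r) (hgC : g ∉ C) :
    ∃ g' ∈ M, orderOf g' = r ∧
      g' ∈ normalizer (((S : Subgroup C).map C.subtype : Subgroup G) : Set G) := by
  obtain ⟨c, hc, hcg⟩ := exists_mul_normalizes S (hMC hgM)
  set k := c * g with hk
  have hkM : k ∈ M := mul_mem (hCM hc) hgM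
  haveI : (C.subgroupOf M).Normal := (normal_subgroupOf_iff_le_normalizer hCM).2 hMC
  set φ := QuotientGroup.mk' (C.subgroupOf M) with hφ
  have hgne : φ ⟨g, hgM⟩ ≠ 1 := fun h => hgC (by
    rw [hφ, QuotientGroup.mk'_apply, QuotientGroup.eq_one_iff, mem_subgroupOf] at h
    exact h)
  have hgo : orderOf (φ ⟨g, hgM⟩) = r := by
    refine orderOf_eq_prime ?_ hgne
    rw [← map_pow, show (⟨g, hgM⟩ : M) ^ r = 1 from
      Subtype.ext (by rw [SubmonoidClass.coe_pow, ← hg, pow_orderOf_eq_one]; rfl), map_one]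
  have hkq : φ ⟨k, hkM⟩ = φ ⟨g, hgM⟩ := by
    rw [show (⟨k, hkM⟩ : M) = ⟨c, hCM hc⟩ * ⟨g, hgM⟩ from rfl, map_mul,
      show φ ⟨c, hCM hc⟩ = 1 from (QuotientGroup.eq_one_iff _).2 (mem_subgroupOf.2 hc), one_mul]
  have hdvd : r ∣ orderOf k := by
    have h := orderOf_map_dvd φ ⟨k, hkM⟩
    rw [hkq, hgo, Subgroup.orderOf_mk] at h
    exact h
  obtain ⟨m, hm⟩ := hdvd
  have hm0 : m ≠ 0 := fun e => (orderOf_pos k).ne' (by rw [hm, e, mul_zero])
  refine ⟨k ^ m, pow_mem hkM m, ?_, pow_mem hcg m⟩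
  rw [orderOf_pow' k hm0, hm, Nat.gcd_eq_right (dvd_mul_left m r),
    Nat.mul_div_cancel _ (Nat.pos_of_ne_zero hm0)]

/-- An element of prime order `r` normalising a subgroup of order not `1` modulo `r` commutes with
a nonidentity element of it. -/
theorem exists_commute_of_normalizes {r : ℕ} [Fact r.Prime] {U : Subgroup G} {g : G}
    (hg : g ^ r = 1) (hgU : g ∈ normalizer (U : Set G)) (hU : ¬ r ∣ Nat.card U - 1) :
    ∃ u ∈ U, u ≠ 1 ∧ Commute g u := by
  letI := Fintype.ofFinite G
  let α := {u : G // u ∈ U ∧ u ≠ 1}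
  let σ : Equiv.Perm α := (MulAut.conj g).toEquiv.subtypeEquiv fun u => by
    show (u ∈ U ∧ u ≠ 1) ↔ (g * u * g⁻¹ ∈ U ∧ g * u * g⁻¹ ≠ 1)
    rw [Ne, Ne, conj_eq_one_iff]
    exact and_congr_left' (mem_normalizer_iff.1 hgU u)
  have hpow : ∀ (n : ℕ) (u : α), ((σ ^ n) u : G) = g ^ n * (u : G) * (g ^ n)⁻¹ := by
    intro n
    induction n with
    | zero => intro u; simp
    | succ n ih =>
      intro u
      rw [pow_succ', Equiv.Perm.mul_apply]
      show g * ((σ ^ n) u : G) * g⁻¹ = _
      rw [ih, pow_succ']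
      group
  have hσ : σ ^ r ^ 1 = 1 := Equiv.ext fun u => Subtype.ext (by
    rw [pow_one, hpow, hg, inv_one, mul_one, one_mul]; rfl)
  have hcard : Fintype.card α = Nat.card U - 1 := by
    rw [← Nat.card_eq_fintype_card]
    have e : α ≃ {u : U // u ≠ 1} :=
      { toFun := fun u => ⟨⟨u, u.2.1⟩, fun h => u.2.2 (congrArg Subtype.val h)⟩
        invFun := fun u => ⟨u.1, u.1.2, fun h => u.2 (Subtype.ext h)⟩
        left_inv := fun u => rfl
        right_inv := fun u => rfl }
    rw [Nat.card_congr e, Nat.card_eq_fintype_card, Nat.card_eq_fintype_card, Fintype.card_subtype_compl,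
      Fintype.card_subtype_eq]
  obtain ⟨⟨u, hu, hu1⟩, hfix⟩ := Equiv.Perm.exists_fixed_point_of_prime (hcard ▸ hU) hσ
  refine ⟨u, hu, hu1, ?_⟩
  have h : g * u * g⁻¹ = u := congrArg Subtype.val hfix
  exact mul_inv_eq_iff_eq_mul.1 h

/-- A power of a nonidentity element of a `q`-group of prime order `q` commuting with whatever the
element commutes with. -/
theorem exists_prime_order_commute {q : ℕ} [hq : Fact q.Prime] {U : Subgroup G} (hU : IsPGroup q U)
    {g u : G} (hu : u ∈ U) (hu1 : u ≠ 1) (hc : Commute g u) :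
    ∃ z ∈ U, orderOf z = q ∧ Commute g z := by
  obtain ⟨k, hk⟩ := hU ⟨u, hu⟩
  have hk' : u ^ q ^ k = 1 := congrArg Subtype.val hk
  obtain ⟨i, -, hi⟩ := (Nat.dvd_prime_pow hq.out).1 (orderOf_dvd_of_pow_eq_one hk')
  have hi0 : i ≠ 0 := fun e => hu1 (orderOf_eq_one_iff.1 (by rw [hi, e, pow_zero]))
  refine ⟨u ^ q ^ (i - 1), pow_mem hu _, ?_, hc.pow_right _⟩
  rw [orderOf_pow' u (pow_ne_zero _ hq.out.ne_zero), hi, Nat.gcd_eq_right (pow_dvd_pow q (Nat.sub_le i 1)),
    Nat.pow_div (Nat.sub_le i 1) hq.out.pos, show i - (i - 1) = 1 by omega, pow_one]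

/-- A group larger than the nonidentity part of a subgroup it normalises centralises one of its
nonidentity elements by one of its own nonidentity elements. -/
theorem exists_commute_of_card_lt {S Q : Subgroup G} (hS : S ≤ normalizer (Q : Set G))
    (hQ : 1 < Nat.card Q) (h : Nat.card Q - 1 < Nat.card S) :
    ∃ s ∈ S, ∃ u ∈ Q, s ≠ 1 ∧ u ≠ 1 ∧ Commute s u := by
  haveI : Nontrivial Q := Finite.one_lt_card_iff_nontrivial.1 hQ
  obtain ⟨u, hu⟩ := exists_ne (1 : Q)
  let f : S → {v : Q // v ≠ 1} := fun s => ⟨⟨(s : G) * (u : G) * (s : G)⁻¹,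
    (mem_normalizer_iff.1 (hS s.2) u).1 u.2⟩,
    fun e => hu (Subtype.ext (conj_eq_one_iff.1 (congrArg Subtype.val e)))⟩
  have hcard : Nat.card {v : Q // v ≠ 1} = Nat.card Q - 1 := by
    letI := Fintype.ofFinite G
    rw [Nat.card_eq_fintype_card, Nat.card_eq_fintype_card, Fintype.card_subtype_compl,
      Fintype.card_subtype_eq]
  have hni : ¬ Function.Injective f := fun hf => by
    have := Nat.card_le_card_of_injective f hf
    omega
  obtain ⟨s, t, hst, hne⟩ := Function.not_injective_iff.1 hni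
  have he : (s : G) * (u : G) * (s : G)⁻¹ = (t : G) * (u : G) * (t : G)⁻¹ :=
    congrArg (fun v : {v : Q // v ≠ 1} => ((v.1 : Q) : G)) hst
  refine ⟨(t : G)⁻¹ * s, mul_mem (inv_mem t.2) s.2, u, u.2, fun e => hne (Subtype.ext ?_),
    fun e => hu (Subtype.ext e), ?_⟩
  · exact (inv_mul_eq_one.1 e).symm
  · show (t : G)⁻¹ * s * u = u * ((t : G)⁻¹ * s)
    calc (t : G)⁻¹ * s * u = (t : G)⁻¹ * ((s : G) * u * (s : G)⁻¹) * s := by group
      _ = (u : G) * ((t : G)⁻¹ * s) := by rw [he]; group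

/-- A group acting on the nonidentity part of a subgroup, whose number is no multiple of its
order, has a nonidentity element commuting with one of them. -/
theorem exists_commute_of_not_dvd {S Q : Subgroup G} (hQ : Q ≤ normalizer (S : Set G))
    (h : ¬ Nat.card Q ∣ Nat.card S - 1) :
    ∃ q ∈ Q, ∃ s ∈ S, q ≠ 1 ∧ s ≠ 1 ∧ Commute q s := by
  by_contra hcon
  push Not at hcon
  let α := {s : G // s ∈ S ∧ s ≠ 1}
  letI : MulAction Q α :=
    { smul := fun q s => ⟨(q : G) * s * (q : G)⁻¹, (mem_normalizer_iff.1 (hQ q.2) s).1 s.2.1,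
        fun e => s.2.2 (conj_eq_one_iff.1 e)⟩
      one_smul := fun s => Subtype.ext (by
        show ((1 : Q) : G) * s * ((1 : Q) : G)⁻¹ = s
        simp)
      mul_smul := fun a b s => Subtype.ext (by
        show ((a * b : Q) : G) * s * ((a * b : Q) : G)⁻¹ =
          (a : G) * ((b : G) * s * (b : G)⁻¹) * (a : G)⁻¹
        push_cast; group) }
  have hstab : ∀ s : α, MulAction.stabilizer Q s = ⊥ := by
    intro s
    refine (eq_bot_iff_forall _).2 fun q hq => ?_
    by_contra hq1
    have he : (q : G) * s * (q : G)⁻¹ = s := congrArg Subtype.val (MulAction.mem_stabilizer_iff.1 hq)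
    exact hcon q q.2 s s.2.1 (fun e => hq1 (Subtype.ext e)) s.2.2 (mul_inv_eq_iff_eq_mul.1 he)
  have hcard : Nat.card α = Nat.card S - 1 := by
    letI := Fintype.ofFinite G
    have e : α ≃ {u : S // u ≠ 1} :=
      { toFun := fun u => ⟨⟨u, u.2.1⟩, fun h => u.2.2 (congrArg Subtype.val h)⟩
        invFun := fun u => ⟨u.1, u.1.2, fun h => u.2 (Subtype.ext h)⟩
        left_inv := fun u => rfl
        right_inv := fun u => rfl }
    rw [Nat.card_congr e, Nat.card_eq_fintype_card, Nat.card_eq_fintype_card, Fintype.card_subtype_compl,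
      Fintype.card_subtype_eq]
  refine h ⟨Nat.card (MulAction.orbitRel.Quotient Q α), ?_⟩
  rw [← hcard, mul_comm, ← Nat.card_prod]
  refine Nat.card_congr ((MulAction.selfEquivSigmaOrbitsQuotientStabilizer Q α).trans
    ((Equiv.sigmaCongrRight fun ω => ?_).trans (Equiv.sigmaEquivProd _ _)))
  rw [hstab]
  exact QuotientGroup.quotientBot.toEquiv

end Cfsg.Agent.H90.MTwentyThree
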