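import Mathlib.Data.List.Sort
import Mathlib.Tactic.Linarith
import Mathlib.Tactic.Ring
import Mathlib.Tactic.Positivity

/-!
A search over the pairs of signed values, at `1` and at an involution centralising a Sylow subgroup
of prime order, of the non-exceptional characters of a principal block, for the order 10200960.
-/

set_option autoImplicit false

namespace Cfsg.Agent.H90.MTwentyThree.Search

/-- The group order. -/
def N : ℕ := 10200960

/-- An option: signed degree, signed value, and a lower bound on the squares of later values. -/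
structure Opt where
  /-- Signed degree. -/
  F : ℤ
  /-- Signed value. -/
  u : ℤ
  /-- Lower bound for the squares of the values from here on. -/
  mu : ℤ

/-- Sums over the options chosen so far. -/
structure St where
  /-- Sum of signed degrees. -/
  s : ℤ
  /-- Sum of squares of degrees. -/
  q : ℤ
  /-- Sum of signed values. -/
  su : ℤ
  /-- Sum of squares of values. -/
  r : ℤ
  /-- Weighted sum of squares of values, times the group order. -/
  S : ℤ

/-- Adding an option. -/
def St.add (st : St) (o : ℤ × ℤ) : St :=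
  ⟨st.s + o.1, st.q + o.1 * o.1, st.su + o.2, st.r + o.2 * o.2, st.S + (N : ℤ) / o.1 * (o.2 * o.2)⟩

/-- Adding several options. -/
def St.addL (st : St) (L : List (ℤ × ℤ)) : St := L.foldl St.add st

/-- The state of the trivial character. -/
def St.init : St := ⟨1, 1, 1, 1, (N : ℤ)⟩

theorem addL_map {α : Type*} (g : α → ℤ × ℤ) : ∀ (l : List α) (st : St),
    st.addL (l.map g) = ⟨st.s + (l.map fun a => (g a).1).sum,
      st.q + (l.map fun a => (g a).1 * (g a).1).sum, st.su + (l.map fun a => (g a).2).sum,
      st.r + (l.map fun a => (g a).2 * (g a).2).sum,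
      st.S + (l.map fun a => (N : ℤ) / (g a).1 * ((g a).2 * (g a).2)).sum⟩
  | [], st => by simp [St.addL]
  | a :: l, st => by
    show (st.add (g a)).addL (l.map g) = _
    rw [addL_map g l]
    simp only [St.add, List.map_cons, List.sum_cons, St.mk.injEq]
    exact ⟨by ring, by ring, by ring, by ring, by ring⟩

/-- The inner loop. -/
def loop (c : ℕ) (rec : List Opt → St → Bool) (k : ℕ) : List Opt → St → Bool
  | [], _ => true
  | o :: os, st =>
    if (N : ℤ) < st.q + (k : ℤ) * (o.F * o.F) then true
    else if (c : ℤ) < st.r + (k : ℤ) * o.mu then true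
    else
      (if st.r + o.u * o.u ≤ (c : ℤ) then rec (o :: os) (st.add (o.F, o.u)) else true) &&
        loop c rec k os st

/-- The search over multisets of `k` options, each checked by `leaf`. -/
def go (c : ℕ) (leaf : St → Bool) : ℕ → List Opt → St → Bool
  | 0, _, st => leaf st
  | k + 1, os, st => loop c (go c leaf k) (k + 1) os st

/-- The options are sorted by the squares of the degrees, and the bounds are correct. -/
def okOpts : List Opt → Bool
  | [] => true
  | [a] => decide (a.mu ≤ a.u * a.u)
  | a :: b :: l => decide (a.F * a.F ≤ b.F * b.F) && decide (a.mu ≤ a.u * a.u) &&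
      decide (a.mu ≤ b.mu) && okOpts (b :: l)

theorem ok_head {a : Opt} {l : List Opt} (h : okOpts (a :: l) = true) :
    (∀ b ∈ a :: l, a.F * a.F ≤ b.F * b.F ∧ a.mu ≤ b.u * b.u) ∧ okOpts l = true := by
  induction l generalizing a with
  | nil =>
    simp only [okOpts, decide_eq_true_eq] at h
    refine ⟨fun b hb => ?_, rfl⟩
    rw [List.mem_singleton.1 hb]
    exact ⟨le_rfl, h⟩
  | cons b l ih =>
    rw [okOpts, Bool.and_eq_true, Bool.and_eq_true, Bool.and_eq_true, decide_eq_true_eq,
      decide_eq_true_eq, decide_eq_true_eq] at h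
    obtain ⟨⟨⟨h1, h2⟩, h3⟩, h4⟩ := h
    refine ⟨fun d hd => ?_, h4⟩
    rcases List.mem_cons.1 hd with rfl | hd
    · exact ⟨le_rfl, h2⟩
    · exact ⟨le_trans h1 ((ih h4).1 d hd).1, le_trans h3 ((ih h4).1 d hd).2⟩

theorem addL_perm {L L' : List (ℤ × ℤ)} (h : L.Perm L') : ∀ st : St, st.addL L = st.addL L' := by
  induction h with
  | nil => exact fun _ => rfl
  | cons a _ ih => exact fun st => ih (st.add a)
  | swap a b l =>
    intro st
    show ((st.add b).add a).addL l = ((st.add a).add b).addL l
    congr 1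
    simp only [St.add, St.mk.injEq]
    exact ⟨by ring, by ring, by ring, by ring, by ring⟩
  | trans _ _ ih1 ih2 => exact fun st => (ih1 st).trans (ih2 st)

theorem addL_q (L : List (ℤ × ℤ)) (st : St) :
    (st.addL L).q = st.q + (L.map fun o => o.1 * o.1).sum := by
  have h := addL_map id L st
  rw [List.map_id] at h
  rw [h]; rfl

theorem addL_r (L : List (ℤ × ℤ)) (st : St) :
    (st.addL L).r = st.r + (L.map fun o => o.2 * o.2).sum := by
  have h := addL_map id L st
  rw [List.map_id] at h
  rw [h]; rfl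

theorem sum_ge {α : Type*} (f : α → ℤ) (b : ℤ) : ∀ L : List α, (∀ x ∈ L, b ≤ f x) →
    (L.length : ℤ) * b ≤ (L.map f).sum
  | [], _ => by simp
  | x :: L, h => by
    have h1 := sum_ge f b L fun y hy => h y (List.mem_cons_of_mem _ hy)
    have h2 := h x List.mem_cons_self
    simp only [List.length_cons, List.map_cons, List.sum_cons, Nat.cast_add, Nat.cast_one]
    linarith

/-- The pairs of a list of options. -/
def pairs (os : List Opt) : List (ℤ × ℤ) := os.map fun o => (o.F, o.u)

/-- Soundness of the search. -/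
theorem go_sound {c : ℕ} {leaf : St → Bool} : ∀ (k : ℕ) (os : List Opt) (st : St),
    okOpts os = true → go c leaf k os st = true →
      ∀ L : List (ℤ × ℤ), L.length = k → (∀ p ∈ L, p ∈ pairs os) →
        (st.addL L).q ≤ (N : ℤ) → (st.addL L).r ≤ (c : ℤ) → leaf (st.addL L) = true := by
  intro k
  induction k with
  | zero =>
    intro os st _ h L hL _ _ _
    rw [List.length_eq_zero_iff.1 hL]
    exact h
  | succ k ihk =>
    intro os
    induction os with
    | nil =>
      intro st _ _ L hL hmem _ _
      cases L with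
      | nil => simp at hL
      | cons a L => exact absurd (hmem a (by simp)) List.not_mem_nil
    | cons o os iho =>
      intro st hs h L hL hmem hq hr
      obtain ⟨hle, hs'⟩ := ok_head hs
      have hL' : (L.length : ℤ) = (k + 1 : ℕ) := by rw [hL]
      have hbd : ∀ p ∈ L, o.F * o.F ≤ p.1 * p.1 ∧ o.mu ≤ p.2 * p.2 := fun p hp => by
        obtain ⟨b, hb, rfl⟩ := List.mem_map.1 (hmem p hp)
        exact hle b hb
      have hq' := sum_ge (fun p : ℤ × ℤ => p.1 * p.1) _ L fun p hp => (hbd p hp).1
      have hr' := sum_ge (fun p : ℤ × ℤ => p.2 * p.2) _ L fun p hp => (hbd p hp).2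
      rw [hL'] at hq' hr'
      have hq2 := hq
      have hr2 := hr
      rw [addL_q] at hq2
      rw [addL_r] at hr2
      simp only [go, loop] at h
      rw [if_neg (not_lt.2 (by linarith)), if_neg (not_lt.2 (by linarith)), Bool.and_eq_true] at h
      by_cases ho : (o.F, o.u) ∈ L
      · have hp : L.Perm ((o.F, o.u) :: L.erase (o.F, o.u)) := List.perm_cons_erase ho
        rw [addL_perm hp] at hq hr ⊢
        have hle1 : st.r + o.u * o.u ≤ (c : ℤ) := by
          have hr3 : ((st.add (o.F, o.u)).addL (L.erase (o.F, o.u))).r ≤ (c : ℤ) := hr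
          rw [addL_r] at hr3
          have h0 : (0 : ℤ) ≤ ((L.erase (o.F, o.u)).map fun p : ℤ × ℤ => p.2 * p.2).sum :=
            List.sum_nonneg fun x hx => by
              obtain ⟨p, -, rfl⟩ := List.mem_map.1 hx
              exact mul_self_nonneg _
          have : (st.add (o.F, o.u)).r = st.r + o.u * o.u := rfl
          linarith
        rw [if_pos hle1] at h
        exact ihk (o :: os) (st.add (o.F, o.u)) hs h.1 (L.erase (o.F, o.u))
          (by rw [List.length_erase_of_mem ho, hL]; rfl)
          (fun b hb => hmem b (List.mem_of_mem_erase hb)) hq hr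
      · refine iho st hs' ?_ L hL (fun b hb => ?_) hq hr
        · simpa only [go] using h.2
        · refine (List.mem_cons.1 (hmem b hb)).resolve_left fun e => ho ?_
          have e' : b = (o.F, o.u) := e
          exact e' ▸ hb

/-- The values congruent to `1` modulo `|step|`, found by walking from `u` while they are small. -/
def walk (c : ℕ) (h : ℕ) (F : ℤ) (step : ℤ) : ℕ → ℤ → List ℤ
  | 0, _ => []
  | fuel + 1, u =>
    if u * u < (c : ℤ) && u.natAbs < F.natAbs then
      if (F - u) % 4 == 0 && (h : ℤ) * u % F == 0 then u :: walk c h F step fuel (u + step)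
      else walk c h F step fuel (u + step)
    else []

theorem mem_walk {c h : ℕ} {F step : ℤ} : ∀ (fuel i : ℕ) (u : ℤ), i < fuel →
    (∀ j ≤ i, (u + step * j) * (u + step * j) < (c : ℤ) ∧ (u + step * j).natAbs < F.natAbs) →
    (F - (u + step * i)) % 4 = 0 → (h : ℤ) * (u + step * i) % F = 0 →
    u + step * i ∈ walk c h F step fuel u
  | 0, i, u, hi, _, _, _ => absurd hi (Nat.not_lt_zero i)
  | fuel + 1, i, u, hi, hsm, h4, hd => by
    obtain ⟨h0, h1⟩ := hsm 0 (Nat.zero_le i)
    simp only [Nat.cast_zero, mul_zero, add_zero] at h0 h1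
    have hcond : (decide (u * u < (c : ℤ)) && decide (u.natAbs < F.natAbs)) = true := by
      simp [h0, h1]
    rw [walk, if_pos hcond]
    cases i with
    | zero =>
      simp only [Nat.cast_zero, mul_zero, add_zero] at h4 hd ⊢
      rw [if_pos (by simp [h4, hd])]
      exact List.mem_cons_self
    | succ i =>
      have he : u + step * ((i + 1 : ℕ) : ℤ) = u + step + step * (i : ℤ) := by push_cast; ring
      have hm := mem_walk fuel i (u + step) (by omega)
        (fun j hj => by
          have := hsm (j + 1) (by omega)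
          rw [show u + step * ((j + 1 : ℕ) : ℤ) = u + step + step * (j : ℤ) by push_cast; ring] at this
          exact this)
        (he ▸ h4) (he ▸ hd)
      rw [he]
      split_ifs
      · exact List.mem_cons_of_mem _ hm
      · exact hm

/-- Both directions. -/
def vals (p c h : ℕ) (F : ℤ) : List ℤ :=
  walk c h F (-(p : ℤ)) 300 (1 - p) ++ walk c h F p 300 1

theorem mem_vals {p c h : ℕ} (hp : 11 ≤ p) {F u : ℤ} (hF : F.natAbs < 3194)
    (hu : (p : ℤ) ∣ u - 1) (hc : u * u < (c : ℤ)) (hlt : u.natAbs < F.natAbs)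
    (h4 : (F - u) % 4 = 0) (hd : (h : ℤ) * u % F = 0) : u ∈ vals p c h F := by
  obtain ⟨k, hk⟩ := hu
  have hu' : u = 1 + (p : ℤ) * k := by linarith
  rcases le_or_gt 0 k with hk0 | hk0
  · obtain ⟨i, rfl⟩ : ∃ i : ℕ, k = i := ⟨k.toNat, by omega⟩
    refine List.mem_append_right _ ?_
    rw [hu'] at h4 hd hc hlt ⊢
    refine mem_walk 300 i 1 ?_ (fun j hj => ?_) h4 hd
    · have h11 : (11 : ℤ) * i ≤ (p : ℤ) * i := by gcongr; exact_mod_cast hp
      omega
    · have h1 : (p : ℤ) * j ≤ (p : ℤ) * i := by gcongr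
      have h2 : (0 : ℤ) ≤ (p : ℤ) * j := by positivity
      constructor
      · have h3 : (1 + (p : ℤ) * j) * (1 + (p : ℤ) * j) ≤ (1 + (p : ℤ) * i) * (1 + (p : ℤ) * i) :=
          mul_self_le_mul_self (by omega) (by omega)
        linarith
      · omega
  · obtain ⟨i, rfl⟩ : ∃ i : ℕ, k = -((i : ℤ) + 1) := ⟨(-k - 1).toNat, by omega⟩
    refine List.mem_append_left _ ?_
    rw [show u = 1 - (p : ℤ) + -(p : ℤ) * (i : ℤ) by rw [hu']; ring] at h4 hd hc hlt ⊢
    refine mem_walk 300 i _ ?_ (fun j hj => ?_) h4 hd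
    · have h11 : (11 : ℤ) * i ≤ (p : ℤ) * i := by gcongr; exact_mod_cast hp
      have : -(p : ℤ) * i = -((p : ℤ) * i) := by ring
      omega
    · have h1 : (p : ℤ) * j ≤ (p : ℤ) * i := by gcongr
      have h2 : (0 : ℤ) ≤ (p : ℤ) * j := by positivity
      have e1 : -(p : ℤ) * i = -((p : ℤ) * i) := by ring
      have e2 : -(p : ℤ) * j = -((p : ℤ) * j) := by ring
      constructor
      · have h3 : ((p : ℤ) - 1 + p * j) * ((p : ℤ) - 1 + p * j) ≤
            ((p : ℤ) - 1 + p * i) * ((p : ℤ) - 1 + p * i) :=
          mul_self_le_mul_self (by omega) (by omega)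
        calc _ = ((p : ℤ) - 1 + p * j) * ((p : ℤ) - 1 + p * j) := by ring
          _ ≤ _ := h3
          _ = (1 - (p : ℤ) + -(p : ℤ) * i) * (1 - (p : ℤ) + -(p : ℤ) * i) := by ring
          _ < _ := hc
      · omega

/-- Attach the bounds to a list of pairs. -/
def withMu : List (ℤ × ℤ) → List Opt
  | [] => []
  | (F, u) :: l =>
    match withMu l with
    | [] => [⟨F, u, u * u⟩]
    | o :: os => ⟨F, u, if u * u ≤ o.mu then u * u else o.mu⟩ :: o :: os

theorem pairs_withMu : ∀ l : List (ℤ × ℤ), pairs (withMu l) = l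
  | [] => rfl
  | (F, u) :: l => by
    have h := pairs_withMu l
    rw [withMu]
    split
    · rename_i h'; rw [h'] at h; simp [pairs] at h ⊢; exact h
    · rename_i h'; rw [h'] at h; simp [pairs] at h ⊢; exact h

/-- The options for a prime `p`, the signed degrees `Fs`, and an involution centraliser of order `c`. -/
def opts (p : ℕ) (Fs : List ℤ) (c : ℕ) : List Opt :=
  withMu (Fs.flatMap fun F => (vals p c (N / c) F).map fun u => (F, u))

theorem mem_opts {p c h : ℕ} (hp : 11 ≤ p) {Fs : List ℤ} (hh : N / c = h) {F u : ℤ} (hFs : F ∈ Fs)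
    (hF : F.natAbs < 3194) (hu : (p : ℤ) ∣ u - 1) (hc : u * u < (c : ℤ))
    (hlt : u.natAbs < F.natAbs) (h4 : (F - u) % 4 = 0) (hd : (h : ℤ) * u % F = 0) :
    (F, u) ∈ pairs (opts p Fs c) := by
  rw [opts, pairs_withMu, List.mem_flatMap]
  exact ⟨F, hFs, List.mem_map.2 ⟨u, mem_vals hp hF hu hc hlt h4 (hh ▸ hd), rfl⟩⟩

/-- The divisors of `n`, by trial. -/
def divs (n : ℕ) : List ℕ := (List.range (n + 1)).filter fun d => n % d == 0

theorem mem_divs {n d : ℕ} (hn : 0 < n) (h : d ∣ n) : d ∈ divs n :=
  List.mem_filter.2 ⟨List.mem_range.2 (Nat.lt_succ_of_le (Nat.le_of_dvd hn h)),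
    by simp [Nat.mod_eq_zero_of_dvd h]⟩

/-- The products of divisors of the factors. -/
def divProd : List ℕ → List ℕ
  | [] => [1]
  | n :: l => (divs n).flatMap fun a => (divProd l).map (a * ·)

theorem mem_divProd : ∀ (l : List ℕ), (∀ n ∈ l, 0 < n) → ∀ d, d ∣ l.prod → d ∈ divProd l
  | [], _, d, h => by simpa [divProd] using h
  | n :: l, hl, d, h => by
    rw [List.prod_cons, Nat.dvd_mul] at h
    obtain ⟨a, b, ha, hb, rfl⟩ := h
    exact List.mem_flatMap.2 ⟨a, mem_divs (hl n List.mem_cons_self) ha,
      List.mem_map.2 ⟨b, mem_divProd l (fun m hm => hl m (List.mem_cons_of_mem _ hm)) b hb, rfl⟩⟩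

/-- The excluded signed degrees at `p`. -/
def small (p : ℕ) (F : ℤ) : Bool := F == 1 - p || F == 1 - 2 * p || F == p + 1

/-- Conditions on the exceptional signed degree and value. -/
def excOK (p e t c : ℕ) (st : St) : Bool :=
  (st.s.natAbs ≥ 2) && (N % st.s.natAbs == 0) && ((st.s - e) % p == 0) &&
    !(small p (-(t : ℤ) * st.s)) && (st.q + (t : ℤ) * (st.s * st.s) ≤ (N : ℤ)) &&
    ((st.su - e) % p == 0) && (st.su.natAbs < st.s.natAbs) && ((st.s - st.su) % 4 == 0) &&
    (((N / c : ℕ) : ℤ) * st.su % st.s == 0) && (st.r + (t : ℤ) * (st.su * st.su) ≤ (c : ℤ))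

/-- The numerator of the square sum. -/
def sqNum (st : St) : ℤ := st.S - (N : ℤ) / st.s * (st.su * st.su)

end Cfsg.Agent.H90.MTwentyThree.Search
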