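import Cfsg.Agent.H86.MTwentyTwo.Eleven
import Cfsg.Agent.H86.MTwentyTwo.BlockData
import Cfsg.Agent.H43.Galois
import Cfsg.Agent.H90.MTwentyThree.Search
import Cfsg.Prelude.Def_Sporadic

/-!
Generalities on a simple group of order 10200960.
-/

set_option autoImplicit false
set_option linter.unusedSectionVars false
set_option linter.style.haveILetI false

open scoped ComplexConjugate Classical

namespace Cfsg.Agent.H90.MTwentyThree

open CharBasic Subgroup BlockBasic H86 H86.MTwentyTwo

universe u

variable {G : Type u} [Group G]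

theorem finite_of_isM23 (hG : IsM23 G) : Finite G :=
  Nat.finite_of_card_ne_zero (by rw [hG.2]; norm_num)

theorem card_eq (hG : IsM23 G) : Nat.card G = Search.N := hG.2

theorem not_comm (hG : IsM23 G) : ¬ IsMulCommutative G := by
  haveI := hG.1
  haveI := finite_of_isM23 hG
  exact H36.not_isMulCommutative_of_dvd Nat.prime_two Nat.prime_three (by norm_num)
    (by rw [hG.2]; norm_num) (by rw [hG.2]; norm_num)

theorem exists_blk [Fintype G] (hG : IsM23 G) (p : ℕ) [hp : Fact p.Prime] {m : ℕ}
    (hN : p * m = Search.N) (hm : ¬ p ∣ m) : Nonempty (SmallExc.PBlk G p) := by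
  haveI := finite_of_isM23 hG
  let P : Sylow p G := default
  have hP : Nat.card P = p := by
    rw [H36.card_sylow_eq (card_eq hG) P (a := 1) (m := m) (by rw [pow_one, hN]) hm, pow_one]
  obtain ⟨D, -⟩ := SmallExc.exists_pblk P hP
  exact ⟨D⟩

/-- The relative index of a Sylow normaliser is the number of Sylow subgroups. -/
theorem relIndex_normalizer_mod [Finite G] {p : ℕ} [Fact p.Prime] (P : Sylow p G) (M : Subgroup G)
    (hM : normalizer ((P : Subgroup G) : Set G) ≤ M) :
    (normalizer ((P : Subgroup G) : Set G)).relIndex M % p = 1 := by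
  have hle : (P : Subgroup G) ≤ M := le_normalizer.trans hM
  have h := card_sylow_modEq_one p M
  rw [(P.subtype hle).card_eq_index_normalizer] at h
  have he : normalizer ((P.subtype hle : Sylow p M) : Set M) =
      (normalizer ((P : Subgroup G) : Set G)).subgroupOf M := by
    show normalizer (((P.subtype hle : Sylow p M) : Subgroup M) : Set M) = _
    rw [Sylow.coe_subtype, subgroupOf_normalizer_eq hle]
  rw [he] at h
  exact Eq.trans h (Nat.mod_eq_of_lt (Fact.out : p.Prime).one_lt)

section Block

variable [Fintype G] {p : ℕ} [hp : Fact p.Prime] (D : SmallExc.PBlk G p)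

/-- Degree of a character. -/
noncomputable abbrev deg (χ : IrrCharacter G) : ℕ := charDegree (χ : G → ℂ)

/-- The number of Sylow subgroups of a block. -/
theorem sylow_arith {m : ℕ} (hN : Nat.card G = p * m) :
    Nat.card (Sylow p G) * D.e * coSize D = m ∧ Nat.card (Sylow p G) % p = 1 := by
  refine ⟨?_, Eq.trans (card_sylow_modEq_one p G) (Nat.mod_eq_of_lt hp.out.one_lt)⟩
  have h1 := (centralizer ((D.P : Subgroup G) : Set G)).card_mul_index
  rw [FewSylowReduce.index_centralizer D.P, hN] at h1
  have h2 := card_cent D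
  unfold Cent at h2
  rw [h2] at h1
  have hr : (centralizer ((D.P : Subgroup G) : Set G)).relIndex (normalizer (D.P : Set G)) = D.e := rfl
  rw [hr] at h1
  refine Nat.eq_of_mul_eq_mul_left hp.out.pos ?_
  calc p * (Nat.card (Sylow p G) * D.e * coSize D)
      = p * coSize D * (D.e * Nat.card (Sylow p G)) := by ring
    _ = p * m := h1

include D in
theorem card_sylow_ne_one [IsSimpleGroup G] (hG : IsM23 G) (hp' : p ≠ Search.N) :
    Nat.card (Sylow p G) ≠ 1 := by
  intro h1
  have hnorm : (D.P : Subgroup G).Normal := by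
    rw [← normalizer_eq_top_iff, ← index_eq_one]
    exact (Sylow.card_eq_index_normalizer D.P).symm.trans h1
  rcases hnorm.eq_bot_or_eq_top with e | e
  · have := D.card_P
    rw [e, card_bot] at this
    exact hp.out.ne_one this.symm
  · have := D.card_P
    rw [e, card_top, card_eq hG] at this
    exact hp' this.symm

/-- An element of the centraliser with order prime to `p`, from a divisor of the cofactor. -/
theorem exists_mem_cent {q : ℕ} [Fact q.Prime] (hq : q ∣ coSize D) :
    ∃ y ∈ Cent D, orderOf y = q := by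
  obtain ⟨z, hz⟩ := exists_prime_orderOf_dvd_card' (G := ↥(Cent D)) q
    (by rw [card_cent D]; exact hq.mul_left _)
  exact ⟨z, z.2, (Subgroup.orderOf_coe z).trans hz⟩

theorem cent_eq_of_coSize (h1 : coSize D = 1) : Cent D = (D.P : Subgroup G) := by
  refine (eq_of_le_of_card_ge (le_cent D) ?_).symm
  rw [card_cent D, h1, mul_one]
  exact D.card_P.ge

/-- An element of prime order `q ≠ p` centralising the Sylow subgroup lies in no group of
order `p` and its centraliser order is divisible by `p q`. -/
theorem mul_dvd_card_centralizer {q : ℕ} (hq : q.Prime) (hpq : p ≠ q) {y : G} (hy : y ∈ Cent D)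
    (hoy : orderOf y = q) : p * q ∣ Nat.card (centralizer ({y} : Set G)) := by
  obtain ⟨x, hx, hx1⟩ := D.exists_ne_one
  refine Nat.Coprime.mul_dvd_of_dvd_of_dvd ((Nat.coprime_primes hp.out hq).2 hpq) ?_ ?_
  · rw [← orderOf_mem D hx hx1]
    exact orderOf_dvd_natCard _ (mem_centralizer_singleton_iff.2 (commute_mem D hx hy).eq)
  · rw [← hoy]
    exact orderOf_dvd_natCard _ (mem_centralizer_singleton_iff.2 rfl)

end Block

section Invol

variable [Fintype G] [IsSimpleGroup G]

/-- The integral values at an involution. -/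
theorem exists_vals (hG : IsM23 G) {z : G} (hz : orderOf z = 2) :
    ∃ v : IrrCharacter G → ℤ, (∀ χ : IrrCharacter G, (χ : G → ℂ) z = v χ) ∧ v trivialIrr = 1 ∧
      ∀ χ : IrrCharacter G, χ ≠ trivialIrr → (4 : ℤ) ∣ (deg χ : ℤ) - v χ ∧
        -(deg χ : ℤ) < v χ ∧ v χ < (deg χ : ℤ) := by
  have hval : ∀ χ : IrrCharacter G, ∃ a : ℤ, (χ : G → ℂ) z = a ∧ (χ ≠ trivialIrr →
      (4 : ℤ) ∣ (deg χ : ℤ) - a ∧ -(deg χ : ℤ) < a ∧ a < (deg χ : ℤ)) := by
    intro χ
    by_cases hχ : χ = trivialIrr
    · exact ⟨1, by rw [hχ, Int.cast_one]; rfl, fun h => absurd hχ h⟩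
    · obtain ⟨a, h1, h2⟩ := Compute.G22.invol_value (exists_ne_mul (not_comm hG)) (χ := χ)
        (fun h => hχ (Subtype.ext h)) rfl hz
      exact ⟨a, h1, fun _ => h2⟩
  choose v hv hvr using hval
  refine ⟨v, hv, ?_, hvr⟩
  have h' : ((v trivialIrr : ℤ) : ℂ) = ((1 : ℤ) : ℂ) := by rw [← hv, Int.cast_one]; rfl
  exact Int.cast_injective h'

/-- The centraliser of a nontrivial element is proper. -/
theorem card_centralizer_ne (hG : IsM23 G) {z : G} (hz : z ≠ 1) :
    Nat.card (centralizer ({z} : Set G)) ≠ Search.N := by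
  intro hcN
  have htop : centralizer ({z} : Set G) = ⊤ := eq_top_of_card_eq _ (hcN.trans (card_eq hG).symm)
  have hzc : z ∈ center G := mem_center_iff.2 fun g => by
    have hg : g ∈ centralizer ({z} : Set G) := htop ▸ mem_top g
    exact mem_centralizer_singleton_iff.1 hg
  rw [H36.center_eq_bot_of_simple (not_comm hG), mem_bot] at hzc
  exact hz hzc

theorem index_centralizer_eq (hG : IsM23 G) (z : G) :
    Search.N / Nat.card (centralizer ({z} : Set G)) = (centralizer ({z} : Set G)).index := by
  have h := (centralizer ({z} : Set G)).card_mul_index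
  rw [card_eq hG] at h
  exact Nat.div_eq_of_eq_mul_right Nat.card_pos h.symm

/-- Degrees are below `3194`. -/
theorem deg_lt (hG : IsM23 G) (χ : IrrCharacter G) : deg χ < 3194 := by
  have h := sum_deg_sq_le ({χ} : Finset (IrrCharacter G))
  rw [Finset.sum_singleton, card_eq hG] at h
  by_contra hge
  have h1 : (3194 : ℤ) ^ 2 ≤ (deg χ : ℤ) ^ 2 :=
    pow_le_pow_left₀ (by norm_num) (by exact_mod_cast Nat.le_of_not_lt hge) 2
  unfold Search.N at h
  norm_num at h h1
  exact absurd (le_trans h1 h) (by norm_num)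

theorem deg_dvd (hG : IsM23 G) (χ : IrrCharacter G) : deg χ ∣ Search.N :=
  card_eq hG ▸ H83.charDegree_dvd_card χ.2

end Invol

end Cfsg.Agent.H90.MTwentyThree
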