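import Cfsg.Agent.H90.MTwentyThree.NoEleven

/-!
The degrees in the principal block at 11: two of degree 45, two of degree 896, and one of two pairs.
-/

set_option autoImplicit false
set_option linter.unusedSectionVars false
set_option linter.style.haveILetI false
set_option maxRecDepth 100000

open scoped ComplexConjugate Classical

namespace Cfsg.Agent.H90.MTwentyThree

open CharBasic Subgroup BlockBasic H86 H86.MTwentyTwo

universe u

namespace Search

/-- The signed degrees of nontrivial nonexceptional characters in the block at 11. -/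
def fEleven : List ℤ := [12, 23, 45, -230, -252, 276, -483, -736, 1035, 1288, -2760]

theorem fEleven_complete : (candT.all fun d =>
    (!(d % 11 == 1) || fEleven.contains (d : ℤ)) && (!(d % 11 == 10) || fEleven.contains (-(d : ℤ)))) = true := by
  decide +kernel

/-- The signed doubled rational part at an element of order 23. -/
def ga (F : ℤ) : ℤ := F.sign * ((kinds 23 11 F.natAbs).headD (0, 0)).1

/-- The two possibilities. -/
def fA (A : Bool) : List ℤ := if A then [45, 45, -230, 1035] else [45, 45, -483, 1288]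

theorem kinds_head : (candT.all fun d => (kinds 23 11 d).all fun k =>
    k.1 == ((kinds 23 11 d).headD (0, 0)).1) = true := by
  decide +kernel

theorem eleven_check : ((H69.MTwentyTwo.CaseE.msets fEleven 4).all fun l =>
    !(l.sum == 895 && (l.map ga).sum == -4) || l.isPerm (fA true) || l.isPerm (fA false)) = true := by
  decide +kernel

end Search

local instance : Fact (Nat.Prime 11) := ⟨by norm_num⟩
local instance : Fact (Nat.Prime 23) := ⟨by norm_num⟩

variable {G : Type u} [Group G] [Fintype G] [IsSimpleGroup G] (K : Ctx G)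

namespace Ctx

include K in
theorem deg_triv : deg (trivialIrr : IrrCharacter G) = 1 := SmallExc.PBlk.charDegree_triv K.D11

theorem eps11 : K.D11.ε = 1 ∧ ∀ θ ∈ K.D11.Y, deg θ = 896 := by
  obtain ⟨⟨θ, hθ⟩, -⟩ := K.exists_big
  have hY : θ ∈ K.D11.Y := (K.mem_Y11 θ).2 (by rw [hθ]; norm_num)
  refine ⟨?_, fun θ' hθ' => ?_⟩
  · rw [H69.MTwentyTwo.CaseE.ε_eq K.D11 hY K.he11 (by norm_num),
      show H69.MTwentyTwo.CaseE.deg θ = 896 from hθ]
    rfl
  · rw [← hθ]; exact K.D11.degree_Y hθ' hY

theorem mem_fEleven {F : ℤ} (hF : F ∈ signedX K.D11) : F ∈ Search.fEleven := by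
  obtain ⟨χ, hχ, hne, rfl⟩ := mem_signedX K.D11 hF
  have h := List.all_eq_true.1 Search.fEleven_complete _ (K.mem_candT hne)
  rcases H69.MTwentyTwo.CaseE.X_res K.D11 hχ with ⟨e, r⟩ | ⟨e, r⟩ <;>
    (rw [e]; change deg χ % 11 = _ at r)
  · simpa [r] using h
  · simpa [r] using h

/-- The relation at the element of order 23. -/
theorem ga_sum : ((signedX K.D11).map Search.ga).sum = -4 := by
  obtain ⟨θ, hθ⟩ := K.D11.Y_nonempty
  obtain ⟨hε, hY⟩ := K.eps11
  have h := (rel_coord K.D11 K.reg_x K.hr23 K.eq_x hθ).1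
  have hθk := K.kind_x θ
  rw [hY θ hθ] at hθk
  simp [Search.kinds] at hθk
  rw [hθk, ← Finset.add_sum_erase _ _ K.D11.trivX, SmallExc.PBlk.εX_triv K.D11, K.triv_coord.2,
    hε] at h
  rw [signedX, List.map_map, Finset.sum_map_toList]
  rw [Finset.sum_congr rfl (g := fun χ => K.D11.εX χ * (K.cx χ).1) fun χ hχ => ?_]
  · simp only at h; linarith
  obtain ⟨hne, hX⟩ := Finset.mem_erase.1 hχ
  have hk := List.all_eq_true.1 (List.all_eq_true.1 Search.kinds_head _ (K.mem_candT hne)) _ (K.kind_x χ)
  rw [beq_iff_eq] at hk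
  have hn := natAbs_sign_mul (K.D11.sign χ hX) (deg χ)
  simp only [Function.comp, Search.ga]
  rw [hn, ← hk]
  have hd : 0 < deg χ := by
    have : 2 ≤ deg χ := two_le_degree (not_comm K.isM23) hne
    omega
  rcases K.D11.sign χ hX with e | e <;> rw [e]
  · rw [one_mul, Int.sign_eq_one_of_pos (by exact_mod_cast hd)]
  · rw [neg_one_mul, Int.sign_neg, Int.sign_eq_one_of_pos (by exact_mod_cast hd)]

/-- The signed degrees. -/
theorem signedX11 : ∃ A : Bool, (signedX K.D11).Perm (Search.fA A) := by
  obtain ⟨θ, hθ⟩ := K.D11.Y_nonempty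
  obtain ⟨hε, hY⟩ := K.eps11
  have hlen : (signedX K.D11).length = 4 := by
    have := length_signedX K.D11
    rw [K.he11] at this
    omega
  obtain ⟨l, hl, hp⟩ := H69.MTwentyTwo.CaseE.mem_msets Search.fEleven 4 (signedX K.D11) hlen
    (fun F hF => K.mem_fEleven hF)
  have h := List.all_eq_true.1 Search.eleven_check l hl
  have h1 : l.sum = 895 := by
    have := sum_signedX K.D11 hθ
    rw [hε, show charDegree (θ : G → ℂ) = 896 from hY θ hθ] at this
    rw [hp.sum_eq]; push_cast at this; linarith
  have h2 : (l.map Search.ga).sum = -4 := by rw [(hp.map _).sum_eq, K.ga_sum]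
  simp only [h1, h2, beq_self_eq_true, Bool.and_true, Bool.not_true, Bool.false_or, Bool.or_eq_true,
    List.isPerm_iff] at h
  rcases h with h | h
  · exact ⟨true, hp.symm.trans h⟩
  · exact ⟨false, hp.symm.trans h⟩

/-- The nontrivial nonexceptional characters at 11. -/
noncomputable abbrev X11' : Finset (IrrCharacter G) := K.D11.X.erase trivialIrr

/-- The degrees. -/
theorem degs11 : ∃ A : Bool,
    (K.X11').val.map deg = ((Search.fA A).map Int.natAbs : Multiset ℕ) := by
  obtain ⟨A, hA⟩ := K.signedX11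
  refine ⟨A, ?_⟩
  rw [← Multiset.coe_eq_coe.2 (hA.map Int.natAbs), signedX, List.map_map, ← Multiset.map_coe,
    Finset.coe_toList]
  exact Multiset.map_congr rfl fun χ hχ =>
    (natAbs_sign_mul (K.D11.sign χ (Finset.mem_of_mem_erase hχ)) _).symm

end Ctx

end Cfsg.Agent.H90.MTwentyThree
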