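import Cfsg.Agent.H90.MTwentyThree.Search
import Cfsg.Agent.H69.MTwentyTwo.CaseE.Search

/-!
A search over the values at an involution of the characters in the principal blocks at 11 and 23.
-/

set_option autoImplicit false
set_option maxRecDepth 100000

namespace Cfsg.Agent.H90.MTwentyThree.Col

open Search (N divs divProd)

/-- A group of characters with one degree: degree, number of free values, weight, coefficients in
the relations at 11 and at 23. -/
structure Item where
  /-- Degree. -/
  d : ℕ
  /-- Number of values. -/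
  n : ℕ
  /-- Characters for one value. -/
  w : ℕ
  /-- Coefficient at 11. -/
  a : ℤ
  /-- Coefficient at 23. -/
  b : ℤ

/-- The sums so far. -/
structure St where
  /-- Relation at 11. -/
  U1 : ℤ
  /-- Square sum at 11. -/
  S1 : ℤ
  /-- Relation at 23. -/
  U2 : ℤ
  /-- Square sum at 23. -/
  S2 : ℤ
  /-- Sum of squares. -/
  R : ℤ
  /-- Sum of products with the degrees. -/
  D : ℤ
  /-- The values chosen. -/
  acc : List (ℕ × ℤ)

/-- The state of the trivial character. -/
def St.init : St := ⟨1, (N : ℤ), 1, (N : ℤ), 1, 1, []⟩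

/-- Adding a value. -/
def St.add (it : Item) (st : St) (v : ℤ) : St :=
  let q : ℤ := ((N / it.d : ℕ) : ℤ) * (v * v)
  ⟨st.U1 + it.a * v, st.S1 + it.a * q, st.U2 + it.b * v, st.S2 + it.b * q,
    st.R + (it.w : ℤ) * (v * v), st.D + (it.w : ℤ) * ((it.d : ℤ) * v), (it.d, v) :: st.acc⟩

/-- Adding several values. -/
def St.addL (it : Item) (st : St) (L : List ℤ) : St := L.foldl (St.add it) st

theorem addL_eq (it : Item) : ∀ (L : List ℤ) (st : St), st.addL it L =
    ⟨st.U1 + it.a * L.sum,
      st.S1 + it.a * (((N / it.d : ℕ) : ℤ) * (L.map fun v => v * v).sum),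
      st.U2 + it.b * L.sum,
      st.S2 + it.b * (((N / it.d : ℕ) : ℤ) * (L.map fun v => v * v).sum),
      st.R + (it.w : ℤ) * (L.map fun v => v * v).sum,
      st.D + (it.w : ℤ) * ((it.d : ℤ) * L.sum),
      (L.map fun v => (it.d, v)).reverse ++ st.acc⟩
  | [], st => by simp [St.addL]
  | v :: L, st => by
    show (St.add it st v).addL it L = _
    rw [addL_eq it L]
    simp only [St.add, List.map_cons, List.sum_cons, List.reverse_cons, List.append_assoc,
      List.singleton_append, St.mk.injEq, and_true]
    exact ⟨by ring, by ring, by ring, by ring, by ring, by ring⟩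

/-- The values small enough, in steps of `g`. -/
def walkUp (c d g : ℕ) : ℕ → ℕ → List ℕ
  | 0, _ => []
  | fuel + 1, k => if (g * k) * (g * k) < c && g * k < d then (g * k) :: walkUp c d g fuel (k + 1) else []

theorem mem_walkUp {c d g : ℕ} : ∀ (fuel k i : ℕ), i < fuel → (g * (k + i)) * (g * (k + i)) < c →
    g * (k + i) < d → g * (k + i) ∈ walkUp c d g fuel k
  | 0, _, i, h, _, _ => absurd h (Nat.not_lt_zero i)
  | fuel + 1, k, i, hi, h1, h2 => by
    have hk : g * k ≤ g * (k + i) := Nat.mul_le_mul_left g (Nat.le_add_right k i)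
    rw [walkUp, if_pos (by
      simp only [Bool.and_eq_true, decide_eq_true_eq]
      exact ⟨lt_of_le_of_lt (Nat.mul_le_mul hk hk) h1, lt_of_le_of_lt hk h2⟩)]
    cases i with
    | zero => exact List.mem_cons_self
    | succ i =>
      refine List.mem_cons_of_mem _ ?_
      rw [show k + (i + 1) = k + 1 + i by omega] at h1 h2 ⊢
      exact mem_walkUp fuel (k + 1) i (by omega) h1 h2

/-- The possible values at an involution with centraliser of order `c`. -/
def opts (c d : ℕ) : List ℤ :=
  let h := N / c
  let g := d / Nat.gcd d h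
  let l := walkUp c d g 300 0
  (l.map (fun n : ℕ => (n : ℤ)) ++ (l.filter fun n => !(n == 0)).map (fun n : ℕ => -(n : ℤ))).filter
    fun v => ((d : ℤ) - v) % 4 == 0

theorem mem_opts {c d : ℕ} {v : ℤ} (hc : c ≤ 40320) (hd : 0 < d) (hsq : v * v < (c : ℤ))
    (hlt : v.natAbs < d) (h4 : (4 : ℤ) ∣ (d : ℤ) - v) (hdvd : (d : ℤ) ∣ ((N / c : ℕ) : ℤ) * v) :
    v ∈ opts c d := by
  set h := N / c with hh
  set g := d / Nat.gcd d h with hg
  have hgv : g ∣ v.natAbs := by
    have h1 : d ∣ h * v.natAbs := by
      have := Int.natAbs_dvd_natAbs.2 hdvd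
      rwa [Int.natAbs_natCast, Int.natAbs_mul, Int.natAbs_natCast] at this
    have h0 : 0 < Nat.gcd d h := Nat.gcd_pos_of_pos_left h hd
    have hcop : Nat.Coprime g (h / Nat.gcd d h) := Nat.coprime_div_gcd_div_gcd h0
    refine hcop.dvd_of_dvd_mul_left ?_
    refine Nat.dvd_of_mul_dvd_mul_right h0 ?_
    rw [Nat.div_mul_cancel (Nat.gcd_dvd_left d h), mul_right_comm,
      Nat.div_mul_cancel (Nat.gcd_dvd_right d h)]
    exact h1
  obtain ⟨k, hk⟩ := hgv
  have hn2 : v.natAbs * v.natAbs < c := by
    have : ((v.natAbs * v.natAbs : ℕ) : ℤ) < (c : ℤ) := by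
      rw [Int.natCast_mul, Int.natAbs_mul_self']; exact hsq
    exact_mod_cast this
  have hn300 : v.natAbs < 300 := by
    by_contra hge
    have : 300 * 300 ≤ v.natAbs * v.natAbs := Nat.mul_le_mul (by omega) (by omega)
    omega
  have hg0 : 0 < g := Nat.div_pos (Nat.gcd_le_left h hd) (Nat.gcd_pos_of_pos_left h hd)
  have hmem : v.natAbs ∈ walkUp c d g 300 0 := by
    rw [hk] at hn2 hlt hn300 ⊢
    have := mem_walkUp (c := c) (d := d) (g := g) 300 0 k
      (lt_of_le_of_lt (Nat.le_mul_of_pos_left k hg0) hn300) (by rwa [zero_add]) (by rwa [zero_add])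
    rwa [zero_add] at this
  simp only [opts, List.mem_filter, List.mem_append, List.mem_map]
  refine ⟨?_, beq_iff_eq.2 (Int.emod_eq_zero_of_dvd h4)⟩
  rcases Int.natAbs_eq v with e | e
  · exact Or.inl ⟨v.natAbs, hmem, e.symm⟩
  · by_cases h0 : v.natAbs = 0
    · exact Or.inl ⟨v.natAbs, hmem, by omega⟩
    · exact Or.inr ⟨v.natAbs, ⟨hmem, by simpa using h0⟩, e.symm⟩

/-- One group: the loop over the options. -/
def loop (c : ℕ) (it : Item) (rec : List ℤ → St → Bool) : List ℤ → St → Bool
  | [], _ => true
  | o :: os, st =>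
    (if st.R + (it.w : ℤ) * (o * o) ≤ (c : ℤ) then rec (o :: os) (St.add it st o) else true) &&
      loop c it rec os st

/-- One group. -/
def pick (c : ℕ) (it : Item) (next : St → Bool) : ℕ → List ℤ → St → Bool
  | 0, _, st => next st
  | k + 1, os, st => loop c it (pick c it next k) os st

theorem pick_sound {c : ℕ} {it : Item} {next : St → Bool} : ∀ (k : ℕ) (os : List ℤ) (st : St),
    pick c it next k os st = true → ∀ L : List ℤ, L.length = k → (∀ v ∈ L, v ∈ os) →
      (st.addL it L).R ≤ (c : ℤ) → ∃ L', L'.Perm L ∧ next (st.addL it L') = true := by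
  intro k
  induction k with
  | zero =>
    intro os st h L hL _ _
    exact ⟨[], by rw [List.length_eq_zero_iff.1 hL], h⟩
  | succ k ihk =>
    intro os
    induction os with
    | nil =>
      intro st _ L hL hmem _
      cases L with
      | nil => simp at hL
      | cons a L => exact absurd (hmem a (by simp)) List.not_mem_nil
    | cons o os iho =>
      intro st h L hL hmem hR
      simp only [pick, loop, Bool.and_eq_true] at h
      by_cases ho : o ∈ L
      · have hp : L.Perm (o :: L.erase o) := List.perm_cons_erase ho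
        have hR' : ((St.add it st o).addL it (L.erase o)).R ≤ (c : ℤ) := by
          refine le_trans (le_of_eq ?_) hR
          show (st.addL it (o :: L.erase o)).R = _
          rw [addL_eq, addL_eq]
          simp only
          rw [((hp.map fun v => v * v).sum_eq)]
        have hle : st.R + (it.w : ℤ) * (o * o) ≤ (c : ℤ) := by
          rw [addL_eq] at hR'
          simp only [St.add] at hR'
          have h0 : (0 : ℤ) ≤ ((L.erase o).map fun v : ℤ => v * v).sum :=
            List.sum_nonneg fun x hx => by
              obtain ⟨p, -, rfl⟩ := List.mem_map.1 hx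
              exact mul_self_nonneg _
          have h2 : (0 : ℤ) ≤ (it.w : ℤ) * ((L.erase o).map fun v : ℤ => v * v).sum :=
            mul_nonneg (Int.natCast_nonneg _) h0
          linarith
        rw [if_pos hle] at h
        obtain ⟨L', hL', hn⟩ := ihk (o :: os) (St.add it st o) h.1 (L.erase o)
          (by rw [List.length_erase_of_mem ho, hL]; rfl)
          (fun b hb => hmem b (List.mem_of_mem_erase hb)) hR'
        exact ⟨o :: L', (hL'.cons o).trans hp.symm, hn⟩
      · refine iho st ?_ L hL (fun b hb => ?_) hR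
        · simpa only [pick] using h.2
        · exact (List.mem_cons.1 (hmem b hb)).resolve_left fun e => ho (e ▸ hb)

/-- Several groups. -/
def run (c : ℕ) (next : St → Bool) : List Item → St → Bool
  | [], st => next st
  | it :: its, st => pick c it (run c next its) it.n (opts c it.d) st

/-- Adding values to several groups. -/
def addAll : List Item → (Item → List ℤ) → St → St
  | [], _, st => st
  | it :: its, L, st => addAll its L (st.addL it (L it))

/-- Agreement of the sums, and the values up to order. -/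
def Same (s t : St) : Prop :=
  s.U1 = t.U1 ∧ s.S1 = t.S1 ∧ s.U2 = t.U2 ∧ s.S2 = t.S2 ∧ s.R = t.R ∧ s.D = t.D ∧ s.acc.Perm t.acc

theorem Same.refl (s : St) : Same s s := ⟨rfl, rfl, rfl, rfl, rfl, rfl, List.Perm.refl _⟩

theorem Same.addL {s t : St} (h : Same s t) (it : Item) {L L' : List ℤ} (hp : L.Perm L') :
    Same (s.addL it L) (t.addL it L') := by
  obtain ⟨h1, h2, h3, h4, h5, h6, h7⟩ := h
  rw [addL_eq, addL_eq]
  refine ⟨?_, ?_, ?_, ?_, ?_, ?_, ((List.reverse_perm _).trans
    ((hp.map _).trans (List.reverse_perm _).symm)).append h7⟩ <;>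
    simp only [h1, h2, h3, h4, h5, h6, hp.sum_eq, (hp.map fun v => v * v).sum_eq]

theorem Same.trans {r s t : St} (h : Same r s) (h' : Same s t) : Same r t :=
  ⟨h.1.trans h'.1, h.2.1.trans h'.2.1, h.2.2.1.trans h'.2.2.1, h.2.2.2.1.trans h'.2.2.2.1,
    h.2.2.2.2.1.trans h'.2.2.2.2.1, h.2.2.2.2.2.1.trans h'.2.2.2.2.2.1,
    h.2.2.2.2.2.2.trans h'.2.2.2.2.2.2⟩

theorem addAll_same : ∀ (its : List Item) (L : Item → List ℤ) {s t : St}, Same s t →
    Same (addAll its L s) (addAll its L t)
  | [], _, _, _, h => h
  | it :: its, L, _, _, h => addAll_same its L (h.addL it (List.Perm.refl (L it)))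

theorem le_addAll : ∀ (its : List Item) (L : Item → List ℤ) (st : St), st.R ≤ (addAll its L st).R
  | [], _, _ => le_rfl
  | it :: its, L, st => by
    refine le_trans ?_ (le_addAll its L _)
    rw [addL_eq]
    simp only
    have h0 : (0 : ℤ) ≤ ((L it).map fun v : ℤ => v * v).sum :=
      List.sum_nonneg fun x hx => by
        obtain ⟨p, -, rfl⟩ := List.mem_map.1 hx
        exact mul_self_nonneg _
    nlinarith [Int.natCast_nonneg it.w]

/-- Soundness of several groups. -/
theorem run_sound {c : ℕ} {next : St → Bool} : ∀ (its : List Item) (st : St), run c next its st = true →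
    ∀ L : Item → List ℤ, (∀ it ∈ its, (L it).length = it.n ∧ ∀ v ∈ L it, v ∈ opts c it.d) →
      (addAll its L st).R ≤ (c : ℤ) → ∃ st', Same st' (addAll its L st) ∧ next st' = true
  | [], st, h, _, _, _ => ⟨st, Same.refl st, h⟩
  | it :: its, st, h, L, hL, hR => by
    obtain ⟨hlen, hmem⟩ := hL it List.mem_cons_self
    obtain ⟨L', hp, hn⟩ := pick_sound it.n _ st h (L it) hlen hmem
      (le_trans (le_addAll its L _) hR)
    have hsame : Same (st.addL it L') (st.addL it (L it)) := (Same.refl st).addL it hp
    have hall := addAll_same its L hsame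
    obtain ⟨st', h1, h2⟩ := run_sound its _ hn L (fun i hi => hL i (List.mem_cons_of_mem _ hi))
      (by rw [hall.2.2.2.2.1]; exact hR)
    exact ⟨st', h1.trans hall, h2⟩

/-- The two possibilities at 11: items. -/
def itemsA (A : Bool) : List Item :=
  (if A then [⟨45, 2, 1, 1, -1⟩, ⟨230, 1, 1, -1, 0⟩, ⟨1035, 1, 1, 1, 0⟩]
    else [⟨45, 2, 1, 1, -1⟩, ⟨483, 1, 1, -1, 0⟩, ⟨1288, 1, 1, 1, 0⟩]) ++ [⟨896, 1, 2, -1, -2⟩]

/-- The squares of the degrees in the items at 11. -/
def sqA (A : Bool) : ℤ :=
  if A then 2 * 45 ^ 2 + 230 ^ 2 + 1035 ^ 2 + 2 * 896 ^ 2 else 2 * 45 ^ 2 + 483 ^ 2 + 1288 ^ 2 + 2 * 896 ^ 2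

/-- The signed degrees of the other characters in the block at 23. -/
def baseB : List ℤ := [-22, 231, -528, 990, -1540]

/-- The candidates for six of them. -/
def listsB : List (List ℤ) := (H69.MTwentyTwo.CaseE.msets baseB 6).filter fun B => B.contains 231

/-- The exceptional signed degree. -/
def excT (B : List ℤ) : ℤ := -1881 + B.sum

/-- The sum of the squares of the degrees of the remaining characters. -/
def restSq (A : Bool) (B : List ℤ) : ℤ :=
  (N : ℤ) - 1 - sqA A - (B.map fun F => F * F).sum - 2 * (excT B * excT B)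

/-- The possible block at 23. -/
def coreOK (A : Bool) (B : List ℤ) : Bool :=
  ([264, -495, 770, -1760, -2772] : List ℤ).contains (excT B) && decide (4096576 ≤ restSq A B) &&
    restSq A B % 64009 == 0

/-- The items of the block at 23. -/
def itemsB (B : List ℤ) : List Item :=
  ((baseB.filter fun F => B.contains F).map fun F =>
    (⟨F.natAbs, B.count F, 1, 0, if 0 < F then 1 else -1⟩ : Item)) ++
    [⟨(excT B).natAbs, 1, 2, 0, if 0 < excT B then -1 else 1⟩]

/-- The values expected. -/
def expected : List (ℕ × ℤ) :=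
  [(45, -3), (45, -3), (230, 22), (1035, 27), (896, 0), (22, 6), (231, 7), (231, 7), (231, 7),
    (990, -18), (990, -18), (770, -14)]

/-- The final test: the relations at 23 fail, the remaining sums are impossible, or the values are
the expected ones. -/
def leafB (c : ℕ) (A : Bool) (B : List ℤ) (st : St) : Bool :=
  !(st.U2 == 0 && st.S2 == 0) || decide (((c : ℤ) - st.R) * restSq A B < st.D * st.D) ||
    (A && c == 2688 && B.isPerm [-22, 231, 231, 231, 990, 990] && st.acc.isPerm expected)

/-- The test after the block at 11. -/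
def leafA (c : ℕ) (A : Bool) (Bs : List (List ℤ)) (st : St) : Bool :=
  !(st.U1 == 0 && st.S1 == 0) || Bs.all fun B => !(coreOK A B) || run c (leafB c A B) (itemsB B) st

/-- The whole search for one centraliser order. -/
def check (c : ℕ) (A : Bool) (Bs : List (List ℤ)) : Bool :=
  run c (leafA c A Bs) (itemsA A) St.init

end Cfsg.Agent.H90.MTwentyThree.Col
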