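import Cfsg.Agent.H90.MTwentyThree.Block11
import Cfsg.Agent.H90.MTwentyThree.ColumnSearch

/-!
The degrees in the principal block at 23 and the partition of the characters.
-/

set_option autoImplicit false
set_option linter.unusedSectionVars false
set_option linter.style.haveILetI false
set_option maxRecDepth 100000

open scoped ComplexConjugate Classical

namespace Cfsg.Agent.H90.MTwentyThree

open CharBasic Subgroup BlockBasic H86 H86.MTwentyTwo

universe u

namespace Search

theorem baseB_complete : (candT.all fun d => !(d % 11 == 0) ||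
    ((!(d % 23 == 1) || Col.baseB.contains (d : ℤ)) &&
      (!(d % 23 == 22) || Col.baseB.contains (-(d : ℤ))))) = true := by
  decide +kernel

/-- The signed exceptional degrees at 23. -/
def tTwentyThree : List ℤ := [264, -495, 770, -1760, -2772]

theorem tTwentyThree_complete : (candT.all fun d => !(d % 11 == 0) || d == 11 ||
    ((!(d % 23 == 11) || tTwentyThree.contains (d : ℤ)) &&
      (!(d % 23 == 12) || tTwentyThree.contains (-(d : ℤ))))) = true := by
  decide +kernel

/-- The degrees in the block at 11. -/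
def dA (A : Bool) : List ℕ := (fA A).map Int.natAbs

theorem dA_res : ∀ A : Bool, ∀ d ∈ dA A, d % 11 ≠ 0 ∧ d % 23 ≠ 11 ∧ d % 23 ≠ 12 ∧
    (d % 23 = 1 ∨ d % 23 = 22 → d = 45) := by
  decide +kernel

theorem dA_count : ∀ A : Bool, (dA A).count 45 = 2 := by decide +kernel

theorem dA_sq : ∀ A : Bool,
    ((((dA A).map fun d => d * d).sum + 2 * (896 * 896) : ℕ) : ℤ) = Col.sqA A := by
  decide +kernel

end Search

local instance : Fact (Nat.Prime 11) := ⟨by norm_num⟩
local instance : Fact (Nat.Prime 23) := ⟨by norm_num⟩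

variable {G : Type u} [Group G] [Fintype G] [IsSimpleGroup G] (K : Ctx G)

namespace Ctx

/-- The two characters of degree 45. -/
noncomputable abbrev S45 : Finset (IrrCharacter G) := K.X11'.filter fun χ => deg χ = 45

/-- The nontrivial nonexceptional characters at 23. -/
noncomputable abbrev X23' : Finset (IrrCharacter G) := K.D23.X.erase trivialIrr

/-- Those of degree divisible by 11. -/
noncomputable abbrev B6 : Finset (IrrCharacter G) := K.X23'.filter fun χ => deg χ % 11 = 0

/-- The characters outside both blocks. -/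
noncomputable abbrev Rest (_K : Ctx G) : Finset (IrrCharacter G) :=
  (Finset.univ.erase trivialIrr).filter fun χ => deg χ % 11 = 0 ∧ deg χ % 23 = 0

theorem deg_mem_dA {A : Bool}
    (hA : (K.X11').val.map deg = ((Search.fA A).map Int.natAbs : Multiset ℕ))
    {χ : IrrCharacter G} (hχ : χ ∈ K.X11') : deg χ ∈ Search.dA A := by
  have h : deg χ ∈ (K.X11').val.map deg := Multiset.mem_map_of_mem _ hχ
  rw [hA] at h
  exact h

theorem triv_notMem_Y11 : (trivialIrr : IrrCharacter G) ∉ K.D11.Y :=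
  Finset.disjoint_left.1 K.D11.disj K.D11.trivX

theorem triv_notMem_Y23 : (trivialIrr : IrrCharacter G) ∉ K.D23.Y :=
  Finset.disjoint_left.1 K.D23.disj K.D23.trivX

/-- Degrees prime to 11. -/
theorem mem_block11 {χ : IrrCharacter G} (hχ : χ ≠ trivialIrr) (h : deg χ % 11 ≠ 0) :
    χ ∈ K.X11' ∨ χ ∈ K.D11.Y := by
  rcases H69.MTwentyTwo.CaseE.res_cases K.D11 K.hC11 χ with h1 | h1 | h1
  · exact Or.inl (Finset.mem_erase.2 ⟨hχ, h1⟩)
  · exact Or.inr h1
  · exact absurd h1 h

theorem mod11_of_block {χ : IrrCharacter G} (h : χ ∈ K.X11' ∨ χ ∈ K.D11.Y) : deg χ % 11 ≠ 0 := by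
  rcases h with h | h
  · rcases (K.mem_X11 χ).1 (Finset.mem_of_mem_erase h) with e | e <;> omega
  · rcases (K.mem_Y11 χ).1 h with e | e <;> omega

theorem mod11_Y23 {θ : IrrCharacter G} (hθ : θ ∈ K.D23.Y) : deg θ % 11 = 0 := by
  by_contra h
  have hne : θ ≠ trivialIrr := fun e => K.triv_notMem_Y23 (e ▸ hθ)
  obtain ⟨A, hA⟩ := K.degs11
  have h2 := (K.mem_Y23 θ).1 hθ
  rcases K.mem_block11 hne h with h1 | h1
  · obtain ⟨-, a, b, -⟩ := Search.dA_res A _ (K.deg_mem_dA hA h1)
    omega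
  · rw [K.eps11.2 θ h1] at h2
    omega

theorem X23'_split : K.X23' = (K.S45 ∪ K.D11.Y) ∪ K.B6 := by
  obtain ⟨A, hA⟩ := K.degs11
  ext χ
  simp only [Finset.mem_union, Finset.mem_filter]
  constructor
  · intro h
    by_cases h11 : deg χ % 11 = 0
    · exact Or.inr ⟨h, h11⟩
    obtain ⟨hne, hX⟩ := Finset.mem_erase.1 h
    rcases K.mem_block11 hne h11 with h1 | h1
    · exact Or.inl (Or.inl ⟨h1, (Search.dA_res A _ (K.deg_mem_dA hA h1)).2.2.2 ((K.mem_X23 χ).1 hX)⟩)
    · exact Or.inl (Or.inr h1)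
  · rintro ((⟨h1, h2⟩ | h1) | h1)
    · exact Finset.mem_erase.2 ⟨(Finset.mem_erase.1 h1).1, (K.mem_X23 χ).2 (by omega)⟩
    · refine Finset.mem_erase.2 ⟨fun e => K.triv_notMem_Y11 (e ▸ h1), (K.mem_X23 χ).2 ?_⟩
      rw [K.eps11.2 χ h1]
      norm_num
    · exact h1.1

theorem disj45 : Disjoint K.S45 K.D11.Y :=
  (K.D11.disj.mono_left (Finset.erase_subset _ _)).mono_left (Finset.filter_subset _ _)

theorem disjB : Disjoint (K.S45 ∪ K.D11.Y) K.B6 := by
  refine Finset.disjoint_left.2 fun χ h1 h2 => ?_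
  have h := (Finset.mem_filter.1 h2).2
  rcases Finset.mem_union.1 h1 with h1 | h1
  · exact K.mod11_of_block (Or.inl (Finset.mem_filter.1 h1).1) h
  · exact K.mod11_of_block (Or.inr h1) h

theorem sum_X23' {M : Type*} [AddCommMonoid M] (f : IrrCharacter G → M) :
    ∑ χ ∈ K.X23', f χ = ∑ χ ∈ K.S45, f χ + ∑ χ ∈ K.D11.Y, f χ + ∑ χ ∈ K.B6, f χ := by
  rw [K.X23'_split, Finset.sum_union K.disjB, Finset.sum_union K.disj45]

theorem card_Y11 : K.D11.Y.card = 2 := by rw [card_Y_eq, K.ht11]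

theorem card_Y23 : K.D23.Y.card = 2 := by rw [card_Y_eq, K.ht23]

theorem card_S45 : K.S45.card = 2 := by
  obtain ⟨A, hA⟩ := K.degs11
  have h := congrArg (Multiset.count 45) hA
  rw [Multiset.count_map, Multiset.coe_count] at h
  rw [show K.S45.card = Multiset.card (Multiset.filter (fun χ => 45 = deg χ) K.X11'.val) from ?_, h]
  · exact Search.dA_count A
  · show Multiset.card (Multiset.filter (fun χ => deg χ = 45) K.X11'.val) = _
    simp only [eq_comm (a := 45)]

theorem card_B6 : K.B6.card = 6 := by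
  have h := congrArg Finset.card K.X23'_split
  have h2 : K.D23.X.card = 11 := K.D23.cardX.trans K.he23
  rw [Finset.card_union_of_disjoint K.disjB, Finset.card_union_of_disjoint K.disj45, K.card_S45,
    K.card_Y11, Finset.card_erase_of_mem K.D23.trivX, h2] at h
  omega

/-- The partition. -/
theorem sum_split {M : Type*} [AddCommMonoid M] (f : IrrCharacter G → M) :
    ∑ χ, f χ = f trivialIrr + (∑ χ ∈ K.X11', f χ + ∑ χ ∈ K.D11.Y, f χ +
      (∑ χ ∈ K.B6, f χ + ∑ χ ∈ K.D23.Y, f χ + ∑ χ ∈ K.Rest, f χ)) := by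
  rw [← Finset.add_sum_erase _ _ (Finset.mem_univ trivialIrr)]
  congr 1
  rw [← Finset.sum_filter_add_sum_filter_not ((Finset.univ : Finset (IrrCharacter G)).erase trivialIrr)
    (fun χ => deg χ % 11 ≠ 0)]
  congr 1
  · rw [← Finset.sum_union (K.D11.disj.mono_left (Finset.erase_subset _ _))]
    congr 1
    ext χ
    simp only [Finset.mem_filter, Finset.mem_union]
    constructor
    · rintro ⟨h1, h2⟩; exact K.mem_block11 (Finset.ne_of_mem_erase h1) h2
    · intro h
      refine ⟨Finset.mem_erase.2 ⟨?_, Finset.mem_univ _⟩, K.mod11_of_block h⟩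
      rcases h with h | h
      · exact (Finset.mem_erase.1 h).1
      · exact fun e => K.triv_notMem_Y11 (e ▸ h)
  · rw [← Finset.sum_union, ← Finset.sum_union]
    · congr 1
      ext χ
      simp only [Finset.mem_filter, Finset.mem_union, not_not, Finset.mem_erase, Finset.mem_univ,
        and_true]
      constructor
      · rintro ⟨hne, h11⟩
        rcases H69.MTwentyTwo.CaseE.res_cases K.D23 K.hC23 χ with h | h | h
        · exact Or.inl (Or.inl ⟨⟨hne, h⟩, h11⟩)
        · exact Or.inl (Or.inr h)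
        · exact Or.inr ⟨hne, h11, h⟩
      · rintro ((⟨⟨hne, -⟩, h⟩ | h) | ⟨hne, h, -⟩)
        · exact ⟨hne, h⟩
        · exact ⟨fun e => K.triv_notMem_Y23 (e ▸ h), K.mod11_Y23 h⟩
        · exact ⟨hne, h⟩
    · refine Finset.disjoint_left.2 fun χ h1 h2 => ?_
      have h0 := (Finset.mem_filter.1 h2).2.2
      rcases Finset.mem_union.1 h1 with h | h
      · rcases (K.mem_X23 χ).1 (Finset.mem_of_mem_erase (Finset.mem_filter.1 h).1) with e | e <;> omega
      · rcases (K.mem_Y23 χ).1 h with e | e <;> omega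
    · exact (K.D23.disj.mono_left (Finset.erase_subset _ _)).mono_left (Finset.filter_subset _ _)

/-- The signed degrees of the six. -/
noncomputable def signedB : List ℤ := K.B6.toList.map fun χ => K.D23.εX χ * (deg χ : ℤ)

theorem εX23_neg {χ : IrrCharacter G} (hX : χ ∈ K.D23.X) (h : deg χ % 23 = 22) :
    K.D23.εX χ = -1 := by
  rw [H69.MTwentyTwo.CaseE.εX_eq K.D23 (by norm_num) hX]
  unfold H69.MTwentyTwo.CaseE.sgn
  rw [if_neg]
  simp only [beq_iff_eq]
  change ¬ deg χ % 23 = 1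
  omega

/-- The exceptional signed degree at 23. -/
theorem excT_eq {θ : IrrCharacter G} (hθ : θ ∈ K.D23.Y) :
    K.D23.ε * (deg θ : ℤ) = -1881 + K.signedB.sum := by
  have h := K.D23.rel_one hθ
  rw [← Finset.add_sum_erase _ _ K.D23.trivX, SmallExc.PBlk.εX_triv K.D23,
    SmallExc.PBlk.charDegree_triv K.D23, K.sum_X23'] at h
  rw [Finset.sum_congr rfl (g := fun _ => (-45 : ℤ)) fun χ hχ => ?_,
    Finset.sum_congr rfl (s₁ := K.D11.Y) (g := fun _ => (-896 : ℤ)) fun χ hχ => ?_, Finset.sum_const,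
    Finset.sum_const, K.card_S45, K.card_Y11] at h
  · rw [signedB, Finset.sum_map_toList]
    simp only [nsmul_eq_mul, Nat.cast_ofNat, Nat.cast_one, mul_one] at h
    unfold deg
    linarith
  · have hd := (K.eps11).2 χ hχ
    have hX : χ ∈ K.D23.X := (K.mem_X23 χ).2 (by omega)
    rw [K.εX23_neg hX (by omega), show charDegree (χ : G → ℂ) = 896 from hd]; norm_num
  · have hd := (Finset.mem_filter.1 hχ).2
    have hX : χ ∈ K.D23.X := (K.mem_X23 χ).2 (by omega)
    rw [K.εX23_neg hX (by omega), show charDegree (χ : G → ℂ) = 45 from hd]; norm_num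

/-- The block at 23 and the remaining degrees. -/
theorem block23 : ∃ (A : Bool) (B : List ℤ),
    (K.X11').val.map deg = (Search.dA A : Multiset ℕ) ∧ K.signedB.Perm B ∧ B ∈ Col.listsB ∧
    Col.coreOK A B = true ∧ (∀ θ ∈ K.D23.Y, K.D23.ε * (deg θ : ℤ) = Col.excT B) ∧
    Col.restSq A B = ∑ χ ∈ K.Rest, (deg χ : ℤ) * deg χ := by
  obtain ⟨A, hA⟩ := K.degs11
  have hlen : K.signedB.length = 6 := by
    rw [signedB, List.length_map, Finset.length_toList, K.card_B6]
  have hmem : ∀ F ∈ K.signedB, F ∈ Col.baseB := by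
    intro F hF
    obtain ⟨χ, hχ, rfl⟩ := List.mem_map.1 hF
    rw [Finset.mem_toList, Finset.mem_filter, Finset.mem_erase] at hχ
    obtain ⟨⟨hne, hX⟩, h11⟩ := hχ
    have h := List.all_eq_true.1 Search.baseB_complete _ (K.mem_candT hne)
    rcases H69.MTwentyTwo.CaseE.X_res K.D23 hX with ⟨e, r⟩ | ⟨e, r⟩ <;>
      (rw [e]; change deg χ % 23 = _ at r)
    · simpa [h11, r] using h
    · simpa [h11, r] using h
  obtain ⟨B, hB, hp⟩ := H69.MTwentyTwo.CaseE.mem_msets Col.baseB 6 K.signedB hlen hmem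
  have hB231 : B.contains 231 = true := by
    obtain ⟨-, ⟨χ, hχ⟩, -⟩ := K.exists_big
    have hne : χ ≠ trivialIrr := fun e => by
      rw [e, K.deg_triv] at hχ; omega
    have hX : χ ∈ K.D23.X := (K.mem_X23 χ).2 (by omega)
    rw [List.contains_iff_mem, hp.mem_iff, signedB]
    refine List.mem_map.2 ⟨χ, Finset.mem_toList.2 (Finset.mem_filter.2
      ⟨Finset.mem_erase.2 ⟨hne, hX⟩, by omega⟩), ?_⟩
    rw [H69.MTwentyTwo.CaseE.εX_eq K.D23 (by norm_num) hX,
      show H69.MTwentyTwo.CaseE.deg χ = 231 from hχ, hχ]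
    rfl
  have hT : ∀ θ ∈ K.D23.Y, K.D23.ε * (deg θ : ℤ) = Col.excT B := fun θ hθ => by
    rw [K.excT_eq hθ, Col.excT, hp.sum_eq]
  have hrest : Col.restSq A B = ∑ χ ∈ K.Rest, (deg χ : ℤ) * deg χ := by
    have h := sum_sq_degree (G := G)
    simp only [apply_one_eq_charDegree] at h
    have h' : ∑ χ : IrrCharacter G, (deg χ : ℤ) * deg χ = (Search.N : ℤ) := by
      rw [← card_eq K.isM23]
      simp only [← sq]
      exact_mod_cast h
    rw [K.sum_split, K.deg_triv] at h'
    have e1 : ∑ χ ∈ K.X11', (deg χ : ℤ) * deg χ + ∑ χ ∈ K.D11.Y, (deg χ : ℤ) * deg χ = Col.sqA A := by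
      rw [← Search.dA_sq A, Finset.sum_congr rfl (s₁ := K.D11.Y) (g := fun _ => (896 : ℤ) * 896)
        (fun χ hχ => by rw [K.eps11.2 χ hχ]; rfl), Finset.sum_const, K.card_Y11]
      have := congrArg (fun M : Multiset ℕ => (M.map fun d => d * d).sum) hA
      simp only [Multiset.map_map, Multiset.map_coe, Multiset.sum_coe] at this
      rw [Search.dA, ← this, Nat.cast_add]
      congr 1
      rw [Nat.cast_multiset_sum, Multiset.map_map]
      exact Finset.sum_congr rfl fun χ _ => (Nat.cast_mul _ _).symm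
    have e2 : ∑ χ ∈ K.B6, (deg χ : ℤ) * deg χ = (B.map fun F => F * F).sum := by
      rw [(hp.map _).sum_eq, signedB, List.map_map, Finset.sum_map_toList]
      refine Finset.sum_congr rfl fun χ hχ => ?_
      simp only [Function.comp]
      rcases K.D23.sign χ (Finset.mem_of_mem_erase (Finset.mem_filter.1 hχ).1) with e | e <;>
        rw [e] <;> ring
    have e3 : ∑ χ ∈ K.D23.Y, (deg χ : ℤ) * deg χ = 2 * (Col.excT B * Col.excT B) := by
      rw [Finset.sum_congr rfl (g := fun _ => Col.excT B * Col.excT B) (fun χ hχ => by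
        rw [← hT χ hχ]
        rcases K.D23.hε with e | e <;> rw [e] <;> ring), Finset.sum_const, K.card_Y23, nsmul_eq_mul]
      rfl
    simp only [Col.restSq]
    push_cast at h'
    linarith
  refine ⟨A, B, hA, hp.symm, List.mem_filter.2 ⟨hB, hB231⟩, ?_, hT, hrest⟩
  simp only [Col.coreOK, Bool.and_eq_true, decide_eq_true_eq, beq_iff_eq]
  refine ⟨⟨?_, ?_⟩, ?_⟩
  · obtain ⟨θ, hθ⟩ := K.D23.Y_nonempty
    rw [← hT θ hθ, List.contains_iff_mem]
    have hne : θ ≠ trivialIrr := fun e => K.triv_notMem_Y23 (e ▸ hθ)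
    have h := List.all_eq_true.1 Search.tTwentyThree_complete _ (K.mem_candT hne)
    rcases H69.MTwentyTwo.CaseE.Y_res K.D23 hθ K.he23 with ⟨e, r⟩ | ⟨e, r⟩ <;>
      (rw [e]; change deg θ % 23 = _ at r)
    · simpa [K.mod11_Y23 hθ, r, K.no_eleven θ, Search.tTwentyThree] using h
    · simpa [K.mod11_Y23 hθ, r, K.no_eleven θ, Search.tTwentyThree] using h
  · rw [hrest]
    obtain ⟨-, -, χ, hχ⟩ := K.exists_big
    refine le_trans ?_ (Finset.single_le_sum (fun x _ => mul_self_nonneg ((deg x : ℤ))) (a := χ) ?_)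
    · simp only [hχ]; norm_num
    · refine Finset.mem_filter.2 ⟨Finset.mem_erase.2 ⟨fun e => ?_, Finset.mem_univ _⟩, by omega⟩
      rw [e, K.deg_triv] at hχ
      omega
  · rw [hrest]
    refine Int.emod_eq_zero_of_dvd (Finset.dvd_sum fun χ hχ => ?_)
    obtain ⟨-, h11, h23⟩ := Finset.mem_filter.1 hχ
    have h : (253 : ℕ) ∣ deg χ := by omega
    have h' : (253 : ℤ) ∣ (deg χ : ℤ) := by exact_mod_cast h
    exact mul_dvd_mul h' h'

end Ctx

end Cfsg.Agent.H90.MTwentyThree
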