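import Cfsg.Agent.H90.MTwentyThree.Block23
import Mathlib.GroupTheory.Sylow
import Mathlib.GroupTheory.Perm.Cycle.Type

/-!
Centralisers of involutions: their orders divide 40320, and some are divisible by 128.
-/

set_option autoImplicit false
set_option linter.unusedSectionVars false
set_option linter.style.haveILetI false

open scoped ComplexConjugate Classical

namespace Cfsg.Agent.H90.MTwentyThree

open CharBasic Subgroup BlockBasic H86 H86.MTwentyTwo

universe u

variable {G : Type u} [Group G] [Fintype G] [IsSimpleGroup G]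

local instance : Fact (Nat.Prime 11) := ⟨by norm_num⟩
local instance : Fact (Nat.Prime 23) := ⟨by norm_num⟩

/-- An element of order 11 centralises no element of another prime order. -/
theorem not_dvd_centralizer11 (hG : IsM23 G) {y : G} {q : ℕ} (hq : q.Prime) (hne : q ≠ 11)
    (hy : orderOf y = q) : ¬ 11 ∣ Nat.card (centralizer ({y} : Set G)) := by
  intro h
  obtain ⟨⟨w, hw⟩, hwo⟩ := exists_prime_orderOf_dvd_card' (G := ↥(centralizer ({y} : Set G))) 11 h
  rw [Subgroup.orderOf_mk] at hwo
  haveI : Finite G := finite_of_isM23 hG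
  obtain ⟨Q, hQ⟩ := (IsPGroup.of_card (p := 11) (n := 1)
    (by rw [Nat.card_zpowers, hwo, pow_one] : Nat.card (zpowers w) = 11 ^ 1)).exists_le_sylow
  have hQc : Nat.card Q = 11 := by
    rw [H36.card_sylow_eq (card_eq hG) Q (a := 1) (m := 927360) (by norm_num [Search.N])
      (by norm_num), pow_one]
  obtain ⟨D', hD'⟩ := SmallExc.exists_pblk Q hQc
  obtain ⟨hC', -⟩ := eleven D' hG
  have hwQ : w ∈ (D'.P : Subgroup G) := hD' ▸ hQ (mem_zpowers w)
  have hw1 : w ≠ 1 := fun e => by rw [e, orderOf_one] at hwo; norm_num at hwo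
  have hyC : y ∈ (D'.P : Subgroup G) := by
    rw [← hC', ← centralizer_mem D' hwQ hw1, mem_centralizer_singleton_iff]
    exact (mem_centralizer_singleton_iff.1 hw).symm
  by_cases hy1 : y = 1
  · rw [hy1, orderOf_one] at hy; exact hq.ne_one hy.symm
  · exact hne (hy.symm.trans (orderOf_mem D' hyC hy1))

/-- The centraliser of an involution. -/
theorem centralizer_dvd (hG : IsM23 G) {z : G} (hz : orderOf z = 2) :
    2 ∣ Nat.card (centralizer ({z} : Set G)) ∧ Nat.card (centralizer ({z} : Set G)) ∣ 40320 := by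
  refine ⟨hz ▸ orderOf_dvd_natCard _ (mem_centralizer_singleton_iff.2 rfl), ?_⟩
  have hN : Nat.card (centralizer ({z} : Set G)) ∣ 40320 * (11 * 23) := by
    have h := (centralizer ({z} : Set G)).card_subgroup_dvd_card
    rw [card_eq hG] at h
    exact h
  refine Nat.Coprime.dvd_of_dvd_mul_right (Nat.Coprime.mul_right ?_ ?_) hN
  · exact ((Fact.out : Nat.Prime 11).coprime_iff_not_dvd.2
      (not_dvd_centralizer11 hG Nat.prime_two (by norm_num) hz)).symm
  · exact ((Fact.out : Nat.Prime 23).coprime_iff_not_dvd.2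
      (not_dvd_centralizer hG Nat.prime_two (by norm_num) hz)).symm

/-- A central involution of a Sylow 2-subgroup. -/
theorem exists_central (hG : IsM23 G) :
    ∃ z : G, orderOf z = 2 ∧ 128 ∣ Nat.card (centralizer ({z} : Set G)) := by
  haveI : Fact (Nat.Prime 2) := ⟨Nat.prime_two⟩
  haveI : Finite G := finite_of_isM23 hG
  let S : Sylow 2 G := default
  have hS : Nat.card (S : Subgroup G) = 128 := by
    rw [show Nat.card (S : Subgroup G) = Nat.card S from rfl,
      H36.card_sylow_eq (card_eq hG) S (a := 7) (m := 79695) (by norm_num [Search.N]) (by norm_num)]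
    norm_num
  have hp : IsPGroup 2 (S : Subgroup G) := S.2
  haveI : Nontrivial (S : Subgroup G) := Finite.one_lt_card_iff_nontrivial.1 (by rw [hS]; norm_num)
  haveI := hp.center_nontrivial
  obtain ⟨n, hn, hcard⟩ := (hp.to_subgroup (Subgroup.center _)).nontrivial_iff_card.1 inferInstance
  obtain ⟨w, hw⟩ := exists_prime_orderOf_dvd_card' (G := ↥(Subgroup.center (S : Subgroup G))) 2
    (by rw [hcard]; exact dvd_pow_self 2 (by omega))
  refine ⟨((w : (S : Subgroup G)) : G), by rw [Subgroup.orderOf_coe, Subgroup.orderOf_coe]; exact hw, ?_⟩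
  rw [← hS]
  refine card_dvd_of_le fun a ha => mem_centralizer_singleton_iff.2 ?_
  have h := Subgroup.mem_center_iff.1 w.2 ⟨a, ha⟩
  exact congrArg Subtype.val h

end Cfsg.Agent.H90.MTwentyThree
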