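import Cfsg.Agent.H90.MTwentyThree.Search11

/-!
The search at 11, large two-parts.
-/

set_option autoImplicit false
set_option maxRecDepth 100000
set_option Elab.async false

namespace Cfsg.Agent.H90.MTwentyThree.Search

theorem check11_6b : ((cof11 6).drop 5).all check11 = true := by
  decide +kernel

end Cfsg.Agent.H90.MTwentyThree.Search
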