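import Cfsg.Agent.H90.MTwentyThree.Check11A
import Cfsg.Agent.H90.MTwentyThree.Check11B
import Cfsg.Agent.H90.MTwentyThree.Check11C
import Cfsg.Agent.H90.MTwentyThree.Check11D

/-!
The search at 11 over the centraliser orders divisible by 3 or 5.
-/

set_option autoImplicit false

namespace Cfsg.Agent.H90.MTwentyThree.Search

/-- All centraliser orders divisible by 3 or 5. -/
theorem check11_all {k : ℕ} (h : k ∣ 20160) (h35 : 3 ∣ k ∨ 5 ∣ k) : check11 k = true := by
  obtain ⟨a, ha, hk⟩ := mem_cof11 h h35
  interval_cases a
  · exact List.all_eq_true.1 check11_0 k hk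
  · exact List.all_eq_true.1 check11_1 k hk
  · exact List.all_eq_true.1 check11_2 k hk
  · exact List.all_eq_true.1 check11_3 k hk
  · exact List.all_eq_true.1 check11_4 k hk
  · exact List.all_eq_true.1 check11_5 k hk
  · rw [← List.take_append_drop 5 (cof11 6), List.mem_append] at hk
    exact hk.elim (List.all_eq_true.1 check11_6a k) (List.all_eq_true.1 check11_6b k)

end Cfsg.Agent.H90.MTwentyThree.Search
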