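import Cfsg.Agent.H90.MTwentyThree.Search23

/-!
The search at 23 with twenty-two orbits.
-/

set_option autoImplicit false
set_option maxRecDepth 100000
set_option Elab.async false

namespace Cfsg.Agent.H90.MTwentyThree.Search

theorem check23_twentytwo0 : (cof23 0).all (check23 22 1) = true := by
  decide +kernel

theorem check23_twentytwo1 : (cof23 1).all (check23 22 1) = true := by
  decide +kernel

theorem check23_twentytwo2 : (cof23 2).all (check23 22 1) = true := by
  decide +kernel

theorem check23_twentytwo3 : (cof23 3).all (check23 22 1) = true := by
  decide +kernel

end Cfsg.Agent.H90.MTwentyThree.Search
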