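import Cfsg.Agent.H90.MTwentyThree.Search23

/-!
The search at 23 with twenty-two orbits.
-/

set_option autoImplicit false
set_option maxRecDepth 100000
set_option Elab.async false

namespace Cfsg.Agent.H90.MTwentyThree.Search

theorem check23_twentytwo4 : (cof23 4).all (check23 22 1) = true := by
  decide +kernel

theorem check23_twentytwo5 : (cof23 5).all (check23 22 1) = true := by
  decide +kernel

theorem check23_twentytwo6 : (cof23 6).all (check23 22 1) = true := by
  decide +kernel

end Cfsg.Agent.H90.MTwentyThree.Search
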