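import Cfsg.Agent.H90.MTwentyThree.Check23Eleven
import Cfsg.Agent.H90.MTwentyThree.Check23TwentyTwoA
import Cfsg.Agent.H90.MTwentyThree.Check23TwentyTwoB

/-!
The search at 23 over all centraliser orders.
-/

set_option autoImplicit false

namespace Cfsg.Agent.H90.MTwentyThree.Search

/-- All centraliser orders with twenty-two orbits. -/
theorem check23_twentytwo {k : ℕ} (h : k ∣ 221760) : check23 22 1 k = true := by
  obtain ⟨a, ha, hk⟩ := mem_cof23 h
  interval_cases a
  · exact List.all_eq_true.1 check23_twentytwo0 k hk
  · exact List.all_eq_true.1 check23_twentytwo1 k hk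
  · exact List.all_eq_true.1 check23_twentytwo2 k hk
  · exact List.all_eq_true.1 check23_twentytwo3 k hk
  · exact List.all_eq_true.1 check23_twentytwo4 k hk
  · exact List.all_eq_true.1 check23_twentytwo5 k hk
  · exact List.all_eq_true.1 check23_twentytwo6 k hk

end Cfsg.Agent.H90.MTwentyThree.Search
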