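import Cfsg.Agent.H90.MTwentyThree.Search23

/-!
The search at 23 with eleven orbits.
-/

set_option autoImplicit false
set_option maxRecDepth 100000
set_option Elab.async false

namespace Cfsg.Agent.H90.MTwentyThree.Search

theorem check23_eleven0 : (cof23 0).all (check23 11 2) = true := by
  decide +kernel

theorem check23_eleven1 : (cof23 1).all (check23 11 2) = true := by
  decide +kernel

theorem check23_eleven2 : (cof23 2).all (check23 11 2) = true := by
  decide +kernel

theorem check23_eleven3 : (cof23 3).all (check23 11 2) = true := by
  decide +kernel

theorem check23_eleven4 : (cof23 4).all (check23 11 2) = true := by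
  decide +kernel

theorem check23_eleven5 : (cof23 5).all (check23 11 2) = true := by
  decide +kernel

theorem check23_eleven6 : (cof23 6).all (check23 11 2) = true := by
  decide +kernel

/-- All centraliser orders. -/
theorem check23_eleven {k : ℕ} (h : k ∣ 221760) : check23 11 2 k = true := by
  obtain ⟨a, ha, hk⟩ := mem_cof23 h
  interval_cases a
  · exact List.all_eq_true.1 check23_eleven0 k hk
  · exact List.all_eq_true.1 check23_eleven1 k hk
  · exact List.all_eq_true.1 check23_eleven2 k hk
  · exact List.all_eq_true.1 check23_eleven3 k hk
  · exact List.all_eq_true.1 check23_eleven4 k hk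
  · exact List.all_eq_true.1 check23_eleven5 k hk
  · exact List.all_eq_true.1 check23_eleven6 k hk

end Cfsg.Agent.H90.MTwentyThree.Search
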