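import Cfsg.Agent.H90.MTwentyThree.ColumnSearch

/-!
Kernel verified instances of the search over the values at an involution.
-/

set_option autoImplicit false
set_option maxRecDepth 100000
set_option Elab.async false

namespace Cfsg.Agent.H90.MTwentyThree.Col

theorem check_2688_neg :
    check 2688 true (listsB.filter fun B => !decide (excT B = 770) && !decide (excT B = 264)) = true := by
  decide +kernel

end Cfsg.Agent.H90.MTwentyThree.Col
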