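import Cfsg.Agent.H90.MTwentyThree.ColumnSearch

/-!
Kernel verified instances of the search over the values at any involution.
-/

set_option autoImplicit false
set_option maxRecDepth 100000
set_option Elab.async false

namespace Cfsg.Agent.H90.MTwentyThree.Col

/-- Part 0 of the possible centraliser orders. -/
def L0 : List ℕ := [2, 10, 18, 30, 42, 64, 84, 120, 144, 192, 252, 336, 448, 576, 720, 1008, 1344, 2016, 2880, 5040, 10080]

/-- Part 1 of the possible centraliser orders. -/
def L1 : List ℕ := [4, 12, 20, 32, 48, 70, 90, 126, 160, 210, 280, 360, 480, 630, 840, 1120, 1440, 2240, 3360, 5760, 13440]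

/-- Part 2 of the possible centraliser orders. -/
def L2 : List ℕ := [6, 14, 24, 36, 56, 72, 96, 128, 168, 224, 288, 384, 504, 640, 896, 1152, 1680, 2520, 4032, 6720, 20160]

/-- Part 3 of the possible centraliser orders. -/
def L3 : List ℕ := [8, 16, 28, 40, 60, 80, 112, 140, 180, 240, 320, 420, 560, 672, 960, 1260, 1920, 2688, 4480, 8064, 40320]

theorem check_any0 : ∀ c ∈ L0,
    check c true [[-22, 231, 231, 231, 990, 990]] = true := by decide +kernel

theorem check_any1 : ∀ c ∈ L1,
    check c true [[-22, 231, 231, 231, 990, 990]] = true := by decide +kernel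

theorem check_any2 : ∀ c ∈ L2,
    check c true [[-22, 231, 231, 231, 990, 990]] = true := by decide +kernel

theorem check_any3 : ∀ c ∈ L3,
    check c true [[-22, 231, 231, 231, 990, 990]] = true := by decide +kernel

end Cfsg.Agent.H90.MTwentyThree.Col
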