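import Cfsg.Agent.H90.MTwentyThree.CheckColumnA
import Cfsg.Agent.H90.MTwentyThree.CheckColumnB
import Cfsg.Agent.H90.MTwentyThree.CheckColumnC
import Cfsg.Agent.H90.MTwentyThree.CheckColumnD
import Cfsg.Agent.H90.MTwentyThree.CheckColumnE

/-!
The verified searches over the values at an involution, combined.
-/

set_option autoImplicit false
set_option maxRecDepth 100000

namespace Cfsg.Agent.H90.MTwentyThree.Col

attribute [local irreducible] check listsB

/-- A central involution: some instance covers every list. -/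
theorem check_central {c : ℕ} (h1 : 128 ∣ c) (h2 : c ∣ 40320) (A : Bool) {B : List ℤ}
    (hB : B ∈ listsB) : ∃ Bs, B ∈ Bs ∧ check c A Bs = true := by
  obtain ⟨j, rfl⟩ := h1
  have hj : j ∣ 315 := (Nat.mul_dvd_mul_iff_left (by norm_num : 0 < 128)).1
    (by simpa using h2)
  have hj' : j ∈ ([1, 3, 5, 7, 9, 15, 21, 35, 45, 63, 105, 315] : List ℕ) := by
    have hlt : j < 316 := Nat.lt_succ_of_le (Nat.le_of_dvd (by norm_num) hj)
    have key : ∀ i < 316, i ∣ 315 →
        i ∈ ([1, 3, 5, 7, 9, 15, 21, 35, 45, 63, 105, 315] : List ℕ) := by decide +kernel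
    exact key j hlt hj
  cases A
  · refine ⟨listsB, hB, ?_⟩
    simp only [List.mem_cons, List.not_mem_nil, or_false] at hj'
    rcases hj' with rfl | rfl | rfl | rfl | rfl | rfl | rfl | rfl | rfl | rfl | rfl | rfl
    all_goals first
      | exact check_false.1
      | exact check_false.2
      | exact (check_central_rest _ (by decide)).2
  · simp only [List.mem_cons, List.not_mem_nil, or_false] at hj'
    rcases hj' with rfl | rfl | rfl | rfl | rfl | rfl | rfl | rfl | rfl | rfl | rfl | rfl
    all_goals first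
      | exact ⟨listsB, hB, check_896⟩
      | exact ⟨listsB, hB, (check_central_rest _ (by decide)).1⟩
      | by_cases h : excT B = 770
        · exact ⟨_, List.mem_filter.2 ⟨hB, by simp [h]⟩, check_2688_main⟩
        · by_cases h' : excT B = 264
          · exact ⟨_, List.mem_filter.2 ⟨hB, by simp [h']⟩, check_2688_264⟩
          · exact ⟨_, List.mem_filter.2 ⟨hB, by simp [h, h']⟩, check_2688_neg⟩

/-- Any involution: the instance with the one list. -/
theorem check_any {c : ℕ} (h1 : 2 ∣ c) (h2 : c ∣ 40320) :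
    check c true [[-22, 231, 231, 231, 990, 990]] = true := by
  obtain ⟨k, rfl⟩ := h1
  have hk : k ∣ 20160 := (Nat.mul_dvd_mul_iff_left (by norm_num : 0 < 2)).1 (by simpa using h2)
  have hk' : k ∈ Nat.divisors 20160 := Nat.mem_divisors.2 ⟨hk, by norm_num⟩
  have key : ∀ i ∈ Nat.divisors 20160, 2 * i ∈ L0 ∨ 2 * i ∈ L1 ∨ 2 * i ∈ L2 ∨ 2 * i ∈ L3 := by
    decide +kernel
  rcases key k hk' with h | h | h | h
  · exact check_any0 _ h
  · exact check_any1 _ h
  · exact check_any2 _ h
  · exact check_any3 _ h

end Cfsg.Agent.H90.MTwentyThree.Col
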