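import Cfsg.Agent.H90.MTwentyThree.ColumnSearch

/-!
Kernel verified instances of the search over the values at an involution.
-/

set_option autoImplicit false
set_option maxRecDepth 100000
set_option Elab.async false

namespace Cfsg.Agent.H90.MTwentyThree.Col

theorem check_central_rest : ∀ c ∈ ([128, 384, 640, 1152, 1920, 4480, 5760, 8064, 13440, 40320] :
    List ℕ), check c true listsB = true ∧ check c false listsB = true := by decide +kernel

theorem check_false : check 896 false listsB = true ∧ check 2688 false listsB = true := by
  decide +kernel

end Cfsg.Agent.H90.MTwentyThree.Col
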