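import Cfsg.Agent.H90.MTwentyThree.ColumnItems
import Cfsg.Agent.H90.MTwentyThree.CentralizerBounds

/-!
Soundness of the column search: the values at an involution.
-/

set_option autoImplicit false
set_option linter.unusedSectionVars false
set_option linter.style.haveILetI false
set_option maxRecDepth 100000

open scoped ComplexConjugate Classical

namespace Cfsg.Agent.H90.MTwentyThree

open CharBasic Subgroup BlockBasic H86 H86.MTwentyTwo

universe u

namespace Col

/-- The values at an involution by degree. -/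
def colVal (d : ℕ) : ℤ :=
  ([(1, 1), (22, 6), (45, -3), (230, 22), (231, 7), (253, 13), (770, -14), (896, 0), (990, -18),
    (1035, 27), (2024, 8)] : List (ℕ × ℤ)).lookup d |>.getD 0

theorem expected_val : ∀ p ∈ expected, colVal p.1 = p.2 := by decide +kernel

/-- The list found. -/
def target : List ℤ := [-22, 231, 231, 231, 990, 990]

theorem target_eq : ∀ B ∈ listsB, B.isPerm target = true → B = target := by decide +kernel

theorem target_facts : excT target = 770 ∧ restSq true target = 4160585 ∧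
    ∀ F ∈ target, F ∈ baseB := by decide +kernel

theorem listsB_sub : ∀ B ∈ listsB, ∀ F ∈ B, F ∈ baseB := by decide +kernel

end Col

local instance : Fact (Nat.Prime 11) := ⟨by norm_num⟩
local instance : Fact (Nat.Prime 23) := ⟨by norm_num⟩

variable {G : Type u} [Group G] [Fintype G] [IsSimpleGroup G]

section Block

variable {p : ℕ} [hp : Fact p.Prime] (D : SmallExc.PBlk G p)

/-- The square sum vanishes when nothing inverts the Sylow subgroup. -/
theorem square_zero (hG : IsM23 G) (hp2 : p ≠ 2) (hodd : Odd D.e) {z : G} (hz : orderOf z = 2)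
    {v : IrrCharacter G → ℤ} (hv : ∀ χ : IrrCharacter G, (χ : G → ℂ) z = v χ) {θ : IrrCharacter G}
    (hθ : θ ∈ D.Y) :
    ∑ χ ∈ D.X, D.εX χ * (((Search.N / deg χ : ℕ) : ℤ) * (v χ * v χ)) -
      D.ε * (((Search.N / deg θ : ℕ) : ℤ) * (v θ * v θ)) = 0 := by
  obtain ⟨x, hx, hx1⟩ := D.exists_ne_one
  have h := square_rule hx hx1 hp2 hz (fun χ _ => hv χ) hθ
  rw [nInv_eq_zero_of_odd hx hx1 hp2 hodd hz, Nat.cast_zero, zero_pow (by norm_num), mul_zero] at h
  have hL : coSize D ≠ 0 := by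
    intro h0
    have h1 := card_cent D
    rw [h0, mul_zero] at h1
    exact Nat.card_pos.ne' h1
  have h0 : sqSum D v θ = 0 := (mul_eq_zero.1 h).resolve_left (Nat.cast_ne_zero.2
    (mul_ne_zero (mul_ne_zero hp.out.ne_zero hL) (pow_ne_zero _ index_ne_zero_of_finite)))
  have key : ∀ χ : IrrCharacter G, ∀ s : ℤ, ((s * (((Search.N / deg χ : ℕ) : ℤ) * (v χ * v χ)) : ℤ) : ℚ) =
      (Search.N : ℚ) * ((s : ℚ) * (v χ : ℚ) ^ 2 / (deg χ : ℚ)) := fun χ s => by
    rw [Int.cast_mul, Int.cast_mul, Int.cast_mul, Int.cast_natCast,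
      Nat.cast_div (deg_dvd hG χ) (Nat.cast_ne_zero.2 (charDegree_pos χ).ne')]
    ring
  have h2 : (((∑ χ ∈ D.X, D.εX χ * (((Search.N / deg χ : ℕ) : ℤ) * (v χ * v χ)) -
      D.ε * (((Search.N / deg θ : ℕ) : ℤ) * (v θ * v θ))) : ℤ) : ℚ) = ((0 : ℤ) : ℚ) := by
    rw [Int.cast_sub, Int.cast_sum, Finset.sum_congr rfl fun χ _ => key χ (D.εX χ), key θ D.ε,
      ← Finset.mul_sum, ← mul_sub, Int.cast_zero]
    unfold sqSum at h0
    rw [show deg θ = charDegree (θ : G → ℂ) from rfl, h0, mul_zero]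
  exact Int.cast_injective h2

end Block

namespace Ctx

variable (K : Ctx G)

/-- The column of an involution. -/
structure Column (z : G) : Prop where
  card : Nat.card (centralizer ({z} : Set G)) = 2688
  val : ∀ χ : IrrCharacter G, (χ : G → ℂ) z = (Col.colVal (deg χ) : ℂ)

set_option maxHeartbeats 800000 in
theorem column_core {A : Bool} {B : List ℤ} (hA : (K.X11').val.map deg = (Search.dA A : Multiset ℕ))
    (hB : K.signedB.Perm B) (hBm : B ∈ Col.listsB) (hcore : Col.coreOK A B = true)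
    (hT : ∀ θ ∈ K.D23.Y, K.D23.ε * (deg θ : ℤ) = Col.excT B)
    (hrest : Col.restSq A B = ∑ χ ∈ K.Rest, (deg χ : ℤ) * deg χ)
    {z : G} (hz : orderOf z = 2) {c : ℕ} (hc : Nat.card (centralizer ({z} : Set G)) = c)
    {Bs : List (List ℤ)} (hBs : B ∈ Bs) (hcheck : Col.check c A Bs = true) :
    A = true ∧ B = Col.target ∧ Column z := by
  have hG := K.isM23
  obtain ⟨v, hv, hv1, hvr⟩ := exists_vals hG hz
  have hc' : c ∣ 40320 := hc ▸ (centralizer_dvd hG hz).2
  have hcle : c ≤ 40320 := Nat.le_of_dvd (by norm_num) hc'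
  have hsub := Col.listsB_sub B hBm
  have hTm := Col.excT_mem hcore
  have hzreg : ∀ q : ℕ, 2 < q → ¬ q ∣ orderOf z := fun q hq hd => by
    rw [hz] at hd; have := Nat.le_of_dvd (by norm_num) hd; omega
  have htot : ∑ χ : IrrCharacter G, v χ * v χ = (c : ℤ) := by
    have h := second_orthogonality_self (G := G) z
    simp only [hv, map_intCast, hc] at h
    exact_mod_cast h
  have hdeg : ∑ χ : IrrCharacter G, (deg χ : ℤ) * v χ = 0 := by
    have h := sum_degree_mul_apply (G := G) z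
    rw [if_neg (fun h1 => by rw [h1, orderOf_one] at hz; norm_num at hz)] at h
    simp only [hv, apply_one_eq_charDegree] at h
    exact_mod_cast h
  have hopt : ∀ χ : IrrCharacter G, χ ≠ trivialIrr → v χ ∈ Col.opts c (deg χ) := by
    intro χ hχ
    obtain ⟨h4, hlo, hhi⟩ := hvr χ hχ
    refine Col.mem_opts hcle (charDegree_pos χ) ?_ (by omega) h4 ?_
    · have hlt : v trivialIrr * v trivialIrr + v χ * v χ ≤ (c : ℤ) := by
        rw [← htot, ← Finset.sum_pair (f := fun χ => v χ * v χ) (Ne.symm hχ)]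
        exact Finset.sum_le_sum_of_subset_of_nonneg (Finset.subset_univ _)
          fun χ _ _ => mul_self_nonneg _
      rw [hv1] at hlt
      linarith
    · rw [← hc, index_centralizer_eq hG z]
      exact dvd_index_mul χ (hv χ)
  obtain ⟨θ, hθ⟩ := K.D11.Y_nonempty
  obtain ⟨η, hη⟩ := K.D23.Y_nonempty
  obtain ⟨hε, hY11⟩ := K.eps11
  have hagree : ∀ θ' ∈ K.D11.Y, v θ' = v θ := fun θ' h' => by
    have e := K.D11.agree θ' h' θ hθ z (hzreg 11 (by norm_num))
    rw [hv, hv] at e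
    exact_mod_cast e
  have hagree' : ∀ η' ∈ K.D23.Y, v η' = v η := fun η' h' => by
    have e := K.D23.agree η' h' η hη z (hzreg 23 (by norm_num))
    rw [hv, hv] at e
    exact_mod_cast e
  have hTn : (Col.excT B).natAbs = deg η := by
    rw [← hT η hη]; exact natAbs_sign_mul K.D23.hε _
  have hneA : ∀ χ ∈ K.X11', χ ≠ trivialIrr := fun χ h => (Finset.mem_erase.1 h).1
  have hneB : ∀ χ ∈ K.B6, χ ≠ trivialIrr := fun χ h =>
    (Finset.mem_erase.1 (Finset.mem_filter.1 h).1).1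
  set LA := K.listA v (v θ) with hLA
  set LB := K.listB v (Col.excT B).natAbs (v η) with hLB
  set stA := Col.addAll (Col.itemsA A) LA Col.St.init with hstA
  set stF := Col.addAll (Col.itemsB B) LB stA with hstF
  obtain ⟨eA1, eA2, eA3, eA4, eA5, eA6, eA7⟩ := Col.addAll_eq (Col.itemsA A) LA Col.St.init
  obtain ⟨eB1, eB2, eB3, eB4, eB5, eB6, eB7⟩ := Col.addAll_eq (Col.itemsB B) LB stA
  rw [← hstA] at eA1 eA2 eA3 eA4 eA5 eA6 eA7
  rw [← hstF] at eB1 eB2 eB3 eB4 eB5 eB6 eB7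
  have msum : ∀ (k : ℤ) (L : List ℤ), k * L.sum = (L.map fun w => k * w).sum := fun k L => by
    rw [List.sum_map_mul_left, List.map_id']
  simp only [Col.sq2, msum, List.map_map, Function.comp_def] at eA1 eA2 eA3 eA4 eA5 eA6 eB1 eB2 eB3 eB4 eB5 eB6
  rw [K.sumA v hA (v θ) fun it w => it.a * w] at eA1
  rw [K.sumA v hA (v θ) fun it w => it.a * (((Search.N / it.d : ℕ) : ℤ) * (w * w))] at eA2
  rw [K.sumA v hA (v θ) fun it w => it.b * w] at eA3
  rw [K.sumA v hA (v θ) fun it w => it.b * (((Search.N / it.d : ℕ) : ℤ) * (w * w))] at eA4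
  rw [K.sumA v hA (v θ) fun it w => (it.w : ℤ) * (w * w)] at eA5
  rw [K.sumA v hA (v θ) fun it w => (it.w : ℤ) * ((it.d : ℤ) * w)] at eA6
  rw [K.sumB v hB hsub hTm (v η) fun it w => it.b * w] at eB3
  rw [K.sumB v hB hsub hTm (v η) fun it w => it.b * (((Search.N / it.d : ℕ) : ℤ) * (w * w))] at eB4
  rw [K.sumB v hB hsub hTm (v η) fun it w => (it.w : ℤ) * (w * w)] at eB5
  rw [K.sumB v hB hsub hTm (v η) fun it w => (it.w : ℤ) * ((it.d : ℤ) * w)] at eB6
  -- the relations at 11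
  have hεX : ∀ χ ∈ K.X11', K.D11.εX χ = Col.aCoef (deg χ) := fun χ hχ =>
    H69.MTwentyTwo.CaseE.εX_eq K.D11 (by norm_num) (Finset.mem_of_mem_erase hχ)
  have hU1 : stA.U1 = 0 := by
    have h := sign_eq K.D11 (hzreg 11 (by norm_num)) (fun χ _ => hv χ) hθ
    rw [← Finset.add_sum_erase _ _ K.D11.trivX, SmallExc.PBlk.εX_triv K.D11, hv1, hε,
      Finset.sum_congr rfl fun χ hχ => by rw [hεX χ hχ]] at h
    rw [eA1]
    simp only [Col.St.init, Col.itA, Col.itY]
    linarith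
  have hS1 : stA.S1 = 0 := by
    have h := square_zero K.D11 hG (by norm_num) (by rw [K.he11]; decide) hz hv hθ
    rw [← Finset.add_sum_erase _ _ K.D11.trivX, SmallExc.PBlk.εX_triv K.D11, hv1, hε, K.deg_triv,
      Finset.sum_congr rfl fun χ hχ => by rw [hεX χ hχ], hY11 θ hθ, Nat.div_one] at h
    rw [eA2]
    simp only [Col.St.init, Col.itA, Col.itY]
    linarith
  -- the relations at 23
  have hS45 : ∀ f : IrrCharacter G → ℤ,
      ∑ χ ∈ K.X11', (if deg χ == 45 then (-1 : ℤ) else 0) * f χ = -∑ χ ∈ K.S45, f χ := by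
    intro f
    rw [← Finset.sum_neg_distrib, Finset.sum_filter]
    refine Finset.sum_congr rfl fun χ _ => ?_
    by_cases h : deg χ = 45 <;> simp [h]
  have he23 : ∀ χ ∈ K.S45, K.D23.εX χ = -1 := fun χ hχ => by
    have hd := (Finset.mem_filter.1 hχ).2
    exact K.εX23_neg ((K.mem_X23 χ).2 (by omega)) (by omega)
  have heY : ∀ χ ∈ K.D11.Y, K.D23.εX χ = -1 := fun χ hχ => by
    have hd := hY11 χ hχ
    exact K.εX23_neg ((K.mem_X23 χ).2 (by omega)) (by omega)
  have hbB : ∀ χ ∈ K.B6, (Col.itB B (K.D23.εX χ * (deg χ : ℤ))).b = K.D23.εX χ ∧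
      (Col.itB B (K.D23.εX χ * (deg χ : ℤ))).d = deg χ := fun χ hχ =>
    ⟨(K.B6_facts hB hsub hχ).2.2, (K.B6_facts hB hsub hχ).2.1⟩
  have hbT : (if 0 < Col.excT B then (-1 : ℤ) else 1) = -K.D23.ε := by
    have hd : (0 : ℤ) < deg η := by exact_mod_cast charDegree_pos η
    rw [← hT η hη]
    rcases K.D23.hε with e | e <;> rw [e]
    · rw [if_pos (by linarith)]
    · rw [if_neg (by linarith)]; rfl
  have hU2 : stF.U2 = 0 := by
    have h := sign_eq K.D23 (hzreg 23 (by norm_num)) (fun χ _ => hv χ) hη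
    rw [← Finset.add_sum_erase _ _ K.D23.trivX, SmallExc.PBlk.εX_triv K.D23, hv1, K.sum_X23',
      Finset.sum_congr rfl (s₁ := K.S45) (g := fun χ => -v χ) (fun χ hχ => by rw [he23 χ hχ]; ring),
      Finset.sum_congr rfl (s₁ := K.D11.Y) (g := fun _ => -v θ) (fun χ hχ => by
        rw [heY χ hχ, hagree χ hχ]; ring),
      Finset.sum_neg_distrib, Finset.sum_const, K.card_Y11, nsmul_eq_mul] at h
    rw [eB3, eA3, Finset.sum_congr rfl (s₁ := K.B6) fun χ hχ => by rw [(hbB χ hχ).1]]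
    simp only [Col.St.init, Col.itA, Col.itY, Col.itT, hbT]
    rw [hS45]
    push_cast at h ⊢
    linarith
  have hS2 : stF.S2 = 0 := by
    have h := square_zero K.D23 hG (by norm_num) (by rw [K.he23]; decide) hz hv hη
    rw [← Finset.add_sum_erase _ _ K.D23.trivX, SmallExc.PBlk.εX_triv K.D23, hv1, K.deg_triv,
      K.sum_X23',
      Finset.sum_congr rfl (s₁ := K.S45) (g := fun χ => -(((Search.N / deg χ : ℕ) : ℤ) * (v χ * v χ)))
        (fun χ hχ => by rw [he23 χ hχ]; ring),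
      Finset.sum_congr rfl (s₁ := K.D11.Y)
        (g := fun _ => -(((Search.N / 896 : ℕ) : ℤ) * (v θ * v θ))) (fun χ hχ => by
          rw [heY χ hχ, hagree χ hχ, hY11 χ hχ]; ring),
      Finset.sum_neg_distrib, Finset.sum_const, K.card_Y11, nsmul_eq_mul, Nat.div_one] at h
    rw [eB4, eA4, Finset.sum_congr rfl (s₁ := K.B6) fun χ hχ => by rw [(hbB χ hχ).1, (hbB χ hχ).2]]
    simp only [Col.St.init, Col.itA, Col.itY, Col.itT, hbT, hTn]
    rw [hS45]
    push_cast at h ⊢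
    linarith
  -- the remaining sums
  have hR : stF.R + ∑ χ ∈ K.Rest, v χ * v χ = (c : ℤ) := by
    rw [← htot, K.sum_split, hv1, Finset.sum_congr rfl (s₁ := K.D11.Y) (g := fun _ => v θ * v θ)
      (fun χ hχ => by rw [hagree χ hχ]), Finset.sum_congr rfl (s₁ := K.D23.Y) (g := fun _ => v η * v η)
      (fun χ hχ => by rw [hagree' χ hχ]), Finset.sum_const, Finset.sum_const, K.card_Y11, K.card_Y23,
      eB5, eA5]
    simp only [Col.St.init, Col.itA, Col.itY, Col.itT, Col.itB, nsmul_eq_mul, Nat.cast_one, one_mul,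
      Nat.cast_ofNat]
    ring
  have hD : stF.D + ∑ χ ∈ K.Rest, (deg χ : ℤ) * v χ = 0 := by
    rw [← hdeg, K.sum_split, hv1, K.deg_triv, Finset.sum_congr rfl (s₁ := K.D11.Y)
      (g := fun _ => (896 : ℤ) * v θ) (fun χ hχ => by rw [hagree χ hχ, hY11 χ hχ]; rfl),
      Finset.sum_congr rfl (s₁ := K.D23.Y) (g := fun _ => (deg η : ℤ) * v η) (fun χ hχ => by
        rw [hagree' χ hχ, show deg χ = deg η from K.D23.degree_Y hχ hη]),
      Finset.sum_const, Finset.sum_const, K.card_Y11, K.card_Y23, eB6, eA6,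
      Finset.sum_congr rfl (s₁ := K.B6) fun χ hχ => by rw [(hbB χ hχ).2]]
    simp only [Col.St.init, Col.itA, Col.itY, Col.itT, Col.itB, hTn, nsmul_eq_mul, Nat.cast_one, one_mul,
      Nat.cast_ofNat]
    ring
  have hRle : stF.R ≤ (c : ℤ) := by
    have : (0 : ℤ) ≤ ∑ χ ∈ K.Rest, v χ * v χ := Finset.sum_nonneg fun χ _ => mul_self_nonneg _
    linarith
  -- the search
  obtain ⟨st', hsame, hleaf⟩ := Col.run_sound (Col.itemsA A) Col.St.init hcheck LA
    (K.listA_ok v hA (v θ) (fun d w => w ∈ Col.opts c d) (fun χ hχ => hopt χ (hneA χ hχ))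
      (hY11 θ hθ ▸ hopt θ fun e => K.triv_notMem_Y11 (e ▸ hθ)))
    (le_trans (Col.le_addAll _ LB _) hRle)
  rw [← hstA] at hsame
  rw [Col.leafA, hsame.1, hsame.2.1, hU1, hS1] at hleaf
  simp only [beq_self_eq_true, Bool.and_self, Bool.not_true, Bool.false_or, List.all_eq_true] at hleaf
  have hrun := hleaf B hBs
  rw [hcore, Bool.not_true, Bool.false_or] at hrun
  have hall := Col.addAll_same (Col.itemsB B) LB hsame
  rw [← hstF] at hall
  obtain ⟨st'', hsame', hleaf'⟩ := Col.run_sound (Col.itemsB B) st' hrun LB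
    (K.listB_ok v hB hsub hTm (v η) (fun d w => w ∈ Col.opts c d) (fun χ hχ => hopt χ (hneB χ hχ))
      (hTn ▸ hopt η fun e => K.triv_notMem_Y23 (e ▸ hη)))
    (by rw [hall.2.2.2.2.1]; exact hRle)
  obtain ⟨-, -, k3, k4, k5, k6, k7⟩ := hsame'.trans hall
  rw [Col.leafB, k3, k4, k5, k6, hU2, hS2] at hleaf'
  have hcau : ¬ ((c : ℤ) - stF.R) * Col.restSq A B < stF.D * stF.D := by
    have h := Finset.sum_mul_sq_le_sq_mul_sq K.Rest (fun χ => v χ) (fun χ => (deg χ : ℤ))
    simp only [sq] at h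
    rw [← hrest, Finset.sum_congr rfl (g := fun χ => (deg χ : ℤ) * v χ) fun χ _ =>
      mul_comm (v χ) _] at h
    have hD' : stF.D = -∑ χ ∈ K.Rest, (deg χ : ℤ) * v χ := by linarith
    rw [hD', neg_mul_neg, show ((c : ℤ) - stF.R) = ∑ χ ∈ K.Rest, v χ * v χ by linarith, not_lt]
    exact h
  simp only [beq_self_eq_true, Bool.and_self, Bool.not_true, Bool.false_or, hcau,
    Bool.and_eq_true, beq_iff_eq, List.isPerm_iff, decide_false] at hleaf'
  obtain ⟨⟨⟨hAt, hc2688⟩, hBp⟩, hacc⟩ := hleaf'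
  have hBt : B = Col.target := Col.target_eq B hBm (List.isPerm_iff.2 hBp)
  refine ⟨hAt, hBt, hc.trans hc2688, fun χ => ?_⟩
  rw [hv]
  congr 1
  have hmem : ∀ d w, (d, w) ∈ stF.acc → w = Col.colVal d := fun d w h =>
    (Col.expected_val _ (hacc.mem_iff.1 (k7.mem_iff.2 h))).symm
  have hmemA : ∀ it ∈ Col.itemsA A, ∀ w ∈ LA it, (it.d, w) ∈ stF.acc := fun it hit w hw =>
    (eB7 _).2 (Or.inl ((eA7 _).2 (Or.inr ⟨it, hit, w, hw, rfl⟩)))
  have hmemB : ∀ it ∈ Col.itemsB B, ∀ w ∈ LB it, (it.d, w) ∈ stF.acc := fun it hit w hw =>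
    (eB7 _).2 (Or.inr ⟨it, hit, w, hw, rfl⟩)
  have hvA : ∀ χ ∈ K.X11', v χ = Col.colVal (deg χ) := by
    intro χ hχ
    obtain ⟨-, hsubA, hne⟩ := Col.dsA_facts A
    have hd := hsubA _ (K.deg_mem_dA hA hχ)
    refine hmem _ _ (hmemA (Col.itA A (deg χ)) ?_ (v χ) ?_)
    · rw [Col.itemsA_eq]; exact List.mem_append_left _ (List.mem_map_of_mem hd)
    · rw [hLA, K.listA_itA v (hne _ hd)]
      exact List.mem_map_of_mem (Finset.mem_toList.2 (Finset.mem_filter.2 ⟨hχ, rfl⟩))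
  have hvB : ∀ χ ∈ K.B6, v χ = Col.colVal (deg χ) := by
    intro χ hχ
    obtain ⟨hF, hn, -⟩ := K.B6_facts hB hsub hχ
    have h := hmem _ _ (hmemB (Col.itB B (K.D23.εX χ * (deg χ : ℤ))) ?_ (v χ) ?_)
    · exact h.trans (congrArg Col.colVal hn)
    · rw [Col.itemsB_eq]; exact List.mem_append_left _ (List.mem_map_of_mem hF)
    · rw [hLB, K.listB_itB v ((Col.tAbs_facts _ hTm).2 _ (List.mem_filter.1 hF).1)]
      exact List.mem_map_of_mem (Finset.mem_toList.2 (Finset.mem_filter.2 ⟨hχ, hn.symm⟩))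
  have hvθ : v θ = Col.colVal 896 := by
    refine hmem _ _ (hmemA Col.itY ?_ (v θ) ?_)
    · rw [Col.itemsA_eq]; exact List.mem_append_right _ List.mem_cons_self
    · simp [hLA, listA, Col.itY]
  have hvη : v η = Col.colVal (deg η) := by
    rw [← hTn]
    refine hmem _ _ (hmemB (Col.itT B) ?_ (v η) ?_)
    · rw [Col.itemsB_eq]; exact List.mem_append_right _ List.mem_cons_self
    · simp [hLB, listB, Col.itT]
  by_cases h1 : χ = trivialIrr
  · rw [h1, hv1, K.deg_triv]; rfl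
  by_cases h11 : deg χ % 11 = 0
  swap
  · rcases K.mem_block11 h1 h11 with h | h
    · exact hvA χ h
    · rw [hagree χ h, hvθ, hY11 χ h]
  rcases H69.MTwentyTwo.CaseE.res_cases K.D23 K.hC23 χ with h | h | h
  · exact hvB χ (Finset.mem_filter.2 ⟨Finset.mem_erase.2 ⟨h1, h⟩, h11⟩)
  · rw [hagree' χ h, hvη, show deg χ = deg η from K.D23.degree_Y h hη]
  -- the two outside both blocks
  obtain ⟨-, -, χ₁, hχ₁⟩ := K.exists_big
  have hm₁ : χ₁ ∈ K.Rest := Finset.mem_filter.2 ⟨Finset.mem_erase.2 ⟨fun e => by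
    rw [e, K.deg_triv] at hχ₁; omega, Finset.mem_univ _⟩, by omega⟩
  have hm : χ ∈ K.Rest := Finset.mem_filter.2 ⟨Finset.mem_erase.2 ⟨h1, Finset.mem_univ _⟩, h11, h⟩
  rw [hAt, hBt, Col.target_facts.2.1, ← Finset.add_sum_erase _ _ hm₁, hχ₁] at hrest
  have hge : ∀ χ' ∈ K.Rest, (253 : ℤ) ≤ deg χ' := fun χ' h' => by
    obtain ⟨-, a, b⟩ := Finset.mem_filter.1 h'
    have hd : 253 ∣ deg χ' := by omega
    exact_mod_cast Nat.le_of_dvd (charDegree_pos χ') hd
  have hcardR : (K.Rest.erase χ₁).card ≤ 1 := by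
    by_contra hlt
    obtain ⟨a, ha, b, hb, hab⟩ := Finset.one_lt_card.1 (Nat.lt_of_not_le hlt)
    have h2 := Finset.sum_le_sum_of_subset_of_nonneg (f := fun χ => (deg χ : ℤ) * deg χ)
      (show ({a, b} : Finset (IrrCharacter G)) ⊆ K.Rest.erase χ₁ by
        simp [Finset.insert_subset_iff, ha, hb]) (fun χ _ _ => mul_self_nonneg _)
    rw [Finset.sum_pair hab] at h2
    have := hge a (Finset.mem_of_mem_erase ha)
    have := hge b (Finset.mem_of_mem_erase hb)
    push_cast at hrest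
    nlinarith
  obtain ⟨χ₂, hχ₂⟩ := Finset.card_eq_one.1 (show (K.Rest.erase χ₁).card = 1 by
    refine le_antisymm hcardR (Nat.pos_of_ne_zero fun h0 => ?_)
    rw [Finset.card_eq_zero.1 h0, Finset.sum_empty] at hrest
    norm_num at hrest)
  rw [hχ₂, Finset.sum_singleton] at hrest
  have hd₂ : deg χ₂ = 253 := by
    have : (deg χ₂ : ℤ) * deg χ₂ = 253 * 253 := by push_cast at hrest; linarith
    exact_mod_cast (mul_self_inj (Int.natCast_nonneg _) (by norm_num)).1 this
  have hRv : stF.R = 2455 ∧ stF.D = -19481 := by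
    have hw := fun χ hχ => hvA χ hχ
    constructor
    · rw [eB5, eA5, Finset.sum_congr rfl (s₁ := K.X11') fun χ hχ => by rw [hvA χ hχ],
        Finset.sum_congr rfl (s₁ := K.B6) fun χ hχ => by rw [hvB χ hχ], hvθ, hvη, ← hTn, hBt,
        Col.target_facts.1]
      simp only [Col.St.init, Col.itA, Col.itY, Col.itT, Col.itB, Nat.cast_one, one_mul]
      rw [K.sum_X11_deg hA fun d => Col.colVal d * Col.colVal d,
        K.sum_B6_deg hB fun d => Col.colVal d * Col.colVal d, hAt, hBt]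
      decide +kernel
    · rw [eB6, eA6, Finset.sum_congr rfl (s₁ := K.X11') fun χ hχ => by rw [hvA χ hχ],
        Finset.sum_congr rfl (s₁ := K.B6) fun χ hχ => by rw [hvB χ hχ, (hbB χ hχ).2], hvθ, hvη, ← hTn,
        hBt, Col.target_facts.1]
      simp only [Col.St.init, Col.itA, Col.itY, Col.itT, Col.itB, Nat.cast_one, one_mul]
      rw [K.sum_X11_deg hA fun d => (d : ℤ) * Col.colVal d,
        K.sum_B6_deg hB fun d => (d : ℤ) * Col.colVal d, hAt, hBt]
      decide +kernel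
  rw [hRv.1, hc2688, ← Finset.add_sum_erase _ _ hm₁, hχ₂, Finset.sum_singleton] at hR
  rw [hRv.2, ← Finset.add_sum_erase _ _ hm₁, hχ₂, Finset.sum_singleton, hχ₁, hd₂] at hD
  have hsol : v χ₁ = 8 ∧ v χ₂ = 13 := by
    push_cast at hR hD
    obtain ⟨k, hk⟩ : ∃ k, v χ₁ = k := ⟨_, rfl⟩
    have h2 : v χ₂ = 77 - 8 * k := by omega
    rw [hk, h2] at hR
    have h0 : (k - 8) * (65 * k - 712) = 0 := by linear_combination hR
    have h8 : k = 8 := by
      rcases mul_eq_zero.1 h0 with h | h <;> omega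
    exact ⟨hk.trans h8, by omega⟩
  rcases (show χ = χ₁ ∨ χ = χ₂ by
    by_cases e : χ = χ₁
    · exact Or.inl e
    · have : χ ∈ K.Rest.erase χ₁ := Finset.mem_erase.2 ⟨e, hm⟩
      rw [hχ₂, Finset.mem_singleton] at this
      exact Or.inr this) with rfl | rfl
  · rw [hsol.1, hχ₁]; rfl
  · rw [hsol.2, hd₂]; rfl

end Ctx

end Cfsg.Agent.H90.MTwentyThree
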