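import Cfsg.Agent.H90.MTwentyThree.ColumnSearch

/-!
The sums accumulated by the column search.
-/

set_option autoImplicit false
set_option maxRecDepth 100000

namespace Cfsg.Agent.H90.MTwentyThree.Col

open Search (N)

/-- Sum of squares of a list. -/
def sq2 (L : List ℤ) : ℤ := (L.map fun v => v * v).sum

theorem addAll_eq : ∀ (its : List Item) (L : Item → List ℤ) (st : St),
    (addAll its L st).U1 = st.U1 + (its.map fun it => it.a * (L it).sum).sum ∧
    (addAll its L st).S1 = st.S1 + (its.map fun it => it.a * (((N / it.d : ℕ) : ℤ) * sq2 (L it))).sum ∧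
    (addAll its L st).U2 = st.U2 + (its.map fun it => it.b * (L it).sum).sum ∧
    (addAll its L st).S2 = st.S2 + (its.map fun it => it.b * (((N / it.d : ℕ) : ℤ) * sq2 (L it))).sum ∧
    (addAll its L st).R = st.R + (its.map fun it => (it.w : ℤ) * sq2 (L it)).sum ∧
    (addAll its L st).D = st.D + (its.map fun it => (it.w : ℤ) * ((it.d : ℤ) * (L it).sum)).sum ∧
    ∀ p : ℕ × ℤ, p ∈ (addAll its L st).acc ↔
      p ∈ st.acc ∨ ∃ it ∈ its, ∃ v ∈ L it, p = (it.d, v)
  | [], L, st => by simp [addAll]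
  | it :: its, L, st => by
    obtain ⟨h1, h2, h3, h4, h5, h6, h7⟩ := addAll_eq its L (st.addL it (L it))
    rw [addL_eq] at h1 h2 h3 h4 h5 h6
    simp only [addAll, List.map_cons, List.sum_cons]
    refine ⟨?_, ?_, ?_, ?_, ?_, ?_, fun p => ?_⟩
    · rw [addL_eq, h1]; ring
    · rw [addL_eq, h2]; simp only [sq2]; ring
    · rw [addL_eq, h3]; ring
    · rw [addL_eq, h4]; simp only [sq2]; ring
    · rw [addL_eq, h5]; simp only [sq2]; ring
    · rw [addL_eq, h6]; ring
    · rw [h7 p, addL_eq]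
      simp only [List.mem_append, List.mem_reverse, List.mem_map, List.mem_cons]
      constructor
      · rintro ((⟨v, hv, rfl⟩ | h) | ⟨i, hi, h⟩)
        · exact Or.inr ⟨it, Or.inl rfl, v, hv, rfl⟩
        · exact Or.inl h
        · exact Or.inr ⟨i, Or.inr hi, h⟩
      · rintro (h | ⟨i, rfl | hi, v, hv, rfl⟩)
        · exact Or.inl (Or.inr h)
        · exact Or.inl (Or.inl ⟨v, hv, rfl⟩)
        · exact Or.inr ⟨i, hi, v, hv, rfl⟩

end Cfsg.Agent.H90.MTwentyThree.Col
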