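import Cfsg.Agent.H90.MTwentyThree.Block23
import Cfsg.Agent.H90.MTwentyThree.ColumnSums

/-!
The items of the column search as groups of characters.
-/

set_option autoImplicit false
set_option linter.unusedSectionVars false
set_option linter.style.haveILetI false
set_option maxRecDepth 100000

open scoped ComplexConjugate Classical

namespace Cfsg.Agent.H90.MTwentyThree

open CharBasic Subgroup BlockBasic H86 H86.MTwentyTwo

universe u

namespace Col

/-- The distinct degrees at 11. -/
def dsA (A : Bool) : List ℕ := if A then [45, 230, 1035] else [45, 483, 1288]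

/-- The coefficient at 11 of a degree. -/
def aCoef (d : ℕ) : ℤ := if d % 11 == 1 then 1 else -1

/-- The item of a degree at 11. -/
def itA (A : Bool) (d : ℕ) : Item :=
  ⟨d, (Search.dA A).count d, 1, aCoef d, if d == 45 then -1 else 0⟩

/-- The item of the exceptional characters at 11. -/
def itY : Item := ⟨896, 1, 2, -1, -2⟩

theorem itemsA_eq : ∀ A : Bool, itemsA A = (dsA A).map (itA A) ++ [itY] := by
  intro A; cases A <;> rfl

theorem dsA_facts : ∀ A : Bool, (dsA A).Nodup ∧ (∀ d ∈ Search.dA A, d ∈ dsA A) ∧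
    ∀ d ∈ dsA A, d ≠ 896 := by
  decide +kernel

/-- The item of a signed degree at 23. -/
def itB (B : List ℤ) (F : ℤ) : Item := ⟨F.natAbs, B.count F, 1, 0, if 0 < F then 1 else -1⟩

/-- The item of the exceptional characters at 23. -/
def itT (B : List ℤ) : Item := ⟨(excT B).natAbs, 1, 2, 0, if 0 < excT B then -1 else 1⟩

/-- The distinct signed degrees at 23. -/
def fsB (B : List ℤ) : List ℤ := baseB.filter fun F => B.contains F

theorem itemsB_eq (B : List ℤ) : itemsB B = (fsB B).map (itB B) ++ [itT B] := rfl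

theorem baseB_facts : baseB.Nodup ∧ ∀ F ∈ baseB, ∀ F' ∈ baseB, F.natAbs = F'.natAbs → F = F' := by
  decide +kernel

theorem tAbs_facts : ∀ T ∈ Search.tTwentyThree, T ≠ 0 ∧ ∀ F ∈ baseB, F.natAbs ≠ T.natAbs := by
  decide +kernel

theorem excT_mem {A : Bool} {B : List ℤ} (h : coreOK A B = true) : excT B ∈ Search.tTwentyThree := by
  simp only [coreOK, Bool.and_eq_true] at h
  exact List.contains_iff_mem.1 h.1.1

end Col

local instance : Fact (Nat.Prime 11) := ⟨by norm_num⟩
local instance : Fact (Nat.Prime 23) := ⟨by norm_num⟩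

variable {G : Type u} [Group G] [Fintype G] [IsSimpleGroup G] (K : Ctx G)

namespace Ctx

variable (v : IrrCharacter G → ℤ)

/-- The values on the groups at 11. -/
noncomputable def listA (a : ℤ) (it : Col.Item) : List ℤ :=
  if it.d = 896 then [a] else (K.X11'.filter fun χ => deg χ = it.d).toList.map v

/-- The values on the groups at 23. -/
noncomputable def listB (T : ℕ) (t : ℤ) (it : Col.Item) : List ℤ :=
  if it.d = T then [t] else (K.B6.filter fun χ => deg χ = it.d).toList.map v

theorem listA_itA {A : Bool} {d : ℕ} (hne : d ≠ 896) (a : ℤ) :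
    K.listA v a (Col.itA A d) = (K.X11'.filter fun χ => deg χ = d).toList.map v := by
  rw [listA, if_neg (show (Col.itA A d).d ≠ 896 from hne)]; rfl

theorem listB_itB {B : List ℤ} {F : ℤ} {T : ℕ} (hne : F.natAbs ≠ T) (t : ℤ) :
    K.listB v T t (Col.itB B F) = (K.B6.filter fun χ => deg χ = F.natAbs).toList.map v := by
  rw [listB, if_neg (show (Col.itB B F).d ≠ T from hne)]; rfl

theorem sumA {A : Bool} (hA : (K.X11').val.map deg = (Search.dA A : Multiset ℕ)) (a : ℤ)
    (φ : Col.Item → ℤ → ℤ) :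
    ((Col.itemsA A).map fun it => ((K.listA v a it).map (φ it)).sum).sum =
      (∑ χ ∈ K.X11', φ (Col.itA A (deg χ)) (v χ)) + φ Col.itY a := by
  obtain ⟨hnd, hsub, hne⟩ := Col.dsA_facts A
  rw [Col.itemsA_eq, List.map_append, List.sum_append, List.map_map]
  congr 1
  · rw [← List.sum_toFinset _ hnd]
    rw [← Finset.sum_fiberwise_of_maps_to (t := (Col.dsA A).toFinset) (g := deg)
      (fun χ hχ => List.mem_toFinset.2 (hsub _ (K.deg_mem_dA hA hχ)))]
    refine Finset.sum_congr rfl fun d hd => ?_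
    rw [Function.comp, K.listA_itA v (hne d (List.mem_toFinset.1 hd)),
      List.map_map, Finset.sum_map_toList]
    exact Finset.sum_congr rfl fun χ hχ => by rw [Function.comp, (Finset.mem_filter.1 hχ).2]
  · simp [listA, Col.itY]

theorem listA_ok {A : Bool} (hA : (K.X11').val.map deg = (Search.dA A : Multiset ℕ)) (a : ℤ)
    (P : ℕ → ℤ → Prop) (h1 : ∀ χ ∈ K.X11', P (deg χ) (v χ)) (h2 : P 896 a) :
    ∀ it ∈ Col.itemsA A, (K.listA v a it).length = it.n ∧ ∀ w ∈ K.listA v a it, P it.d w := by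
  intro it hit
  rw [Col.itemsA_eq, List.mem_append, List.mem_map, List.mem_singleton] at hit
  rcases hit with ⟨d, hd, rfl⟩ | rfl
  · have hne := (Col.dsA_facts A).2.2 d hd
    rw [K.listA_itA v hne]
    simp only [Col.itA, List.length_map, Finset.length_toList, List.mem_map,
      Finset.mem_toList, Finset.mem_filter]
    refine ⟨?_, ?_⟩
    · have h := congrArg (Multiset.count d) hA
      rw [Multiset.count_map, Multiset.coe_count] at h
      rw [← h]
      show Multiset.card (Multiset.filter (fun χ => deg χ = d) K.X11'.val) = _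
      simp only [eq_comm (a := d)]
    · rintro w ⟨χ, ⟨hχ, hχd⟩, rfl⟩
      rw [← hχd]; exact h1 χ hχ
  · refine ⟨rfl, fun w hw => ?_⟩
    simp only [listA, Col.itY, if_pos, List.mem_singleton] at hw
    subst hw; exact h2

theorem B6_facts {B : List ℤ} (hB : K.signedB.Perm B) (hsub : ∀ F ∈ B, F ∈ Col.baseB)
    {χ : IrrCharacter G} (hχ : χ ∈ K.B6) :
    K.D23.εX χ * (deg χ : ℤ) ∈ Col.fsB B ∧
      (K.D23.εX χ * (deg χ : ℤ)).natAbs = deg χ ∧
      (if 0 < K.D23.εX χ * (deg χ : ℤ) then (1 : ℤ) else -1) = K.D23.εX χ := by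
  have hmem : K.D23.εX χ * (deg χ : ℤ) ∈ B :=
    hB.mem_iff.1 (List.mem_map.2 ⟨χ, Finset.mem_toList.2 hχ, rfl⟩)
  have hs := K.D23.sign χ (Finset.mem_of_mem_erase (Finset.mem_filter.1 hχ).1)
  refine ⟨List.mem_filter.2 ⟨hsub _ hmem, List.contains_iff_mem.2 hmem⟩, natAbs_sign_mul hs _, ?_⟩
  have hd : 0 < deg χ := charDegree_pos χ
  rcases hs with e | e <;> rw [e]
  · rw [if_pos (by rw [one_mul]; exact_mod_cast hd)]
  · rw [if_neg (by simp only [neg_one_mul, not_lt, neg_nonpos]; exact Int.natCast_nonneg _)]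

theorem filter_B6 {B : List ℤ} (hB : K.signedB.Perm B) (hsub : ∀ F ∈ B, F ∈ Col.baseB) {F : ℤ}
    (hF : F ∈ Col.fsB B) :
    (K.B6.filter fun χ => deg χ = F.natAbs) =
      K.B6.filter fun χ => K.D23.εX χ * (deg χ : ℤ) = F := by
  refine Finset.filter_congr fun χ hχ => ?_
  obtain ⟨h1, h2, -⟩ := K.B6_facts hB hsub hχ
  constructor
  · intro h
    exact Col.baseB_facts.2 _ (List.mem_filter.1 h1).1 _ (List.mem_filter.1 hF).1 (h2.trans h)
  · rintro rfl; exact h2.symm

theorem sumB {B : List ℤ} (hB : K.signedB.Perm B) (hsub : ∀ F ∈ B, F ∈ Col.baseB)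
    (hT : Col.excT B ∈ Search.tTwentyThree) (t : ℤ) (φ : Col.Item → ℤ → ℤ) :
    ((Col.itemsB B).map fun it => ((K.listB v (Col.excT B).natAbs t it).map (φ it)).sum).sum =
      (∑ χ ∈ K.B6, φ (Col.itB B (K.D23.εX χ * (deg χ : ℤ))) (v χ)) + φ (Col.itT B) t := by
  rw [Col.itemsB_eq, List.map_append, List.sum_append, List.map_map]
  congr 1
  · have hnd : (Col.fsB B).Nodup := Col.baseB_facts.1.filter _
    rw [← List.sum_toFinset _ hnd]
    rw [← Finset.sum_fiberwise_of_maps_to (t := (Col.fsB B).toFinset)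
      (g := fun χ => K.D23.εX χ * (deg χ : ℤ))
      (fun χ hχ => List.mem_toFinset.2 (K.B6_facts hB hsub hχ).1)]
    refine Finset.sum_congr rfl fun F hF => ?_
    rw [List.mem_toFinset] at hF
    have hne := (Col.tAbs_facts _ hT).2 F (List.mem_filter.1 hF).1
    rw [Function.comp, K.listB_itB v hne, List.map_map, Finset.sum_map_toList,
      K.filter_B6 hB hsub hF]
    exact Finset.sum_congr rfl fun χ hχ => by rw [Function.comp, (Finset.mem_filter.1 hχ).2]
  · simp [listB, Col.itT]

theorem listB_ok {B : List ℤ} (hB : K.signedB.Perm B) (hsub : ∀ F ∈ B, F ∈ Col.baseB)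
    (hT : Col.excT B ∈ Search.tTwentyThree) (t : ℤ) (P : ℕ → ℤ → Prop)
    (h1 : ∀ χ ∈ K.B6, P (deg χ) (v χ)) (h2 : P (Col.excT B).natAbs t) :
    ∀ it ∈ Col.itemsB B, (K.listB v (Col.excT B).natAbs t it).length = it.n ∧
      ∀ w ∈ K.listB v (Col.excT B).natAbs t it, P it.d w := by
  intro it hit
  rw [Col.itemsB_eq, List.mem_append, List.mem_map, List.mem_singleton] at hit
  rcases hit with ⟨F, hF, rfl⟩ | rfl
  · have hne := (Col.tAbs_facts _ hT).2 F (List.mem_filter.1 hF).1
    rw [K.listB_itB v hne]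
    simp only [Col.itB, List.length_map, Finset.length_toList, List.mem_map, Finset.mem_toList]
    refine ⟨?_, ?_⟩
    · rw [K.filter_B6 hB hsub hF, ← hB.count_eq, signedB, List.count_eq_countP, List.countP_map,
        List.countP_eq_length_filter, ← List.toFinset_card_of_nodup (K.B6.nodup_toList.filter _),
        List.toFinset_filter, Finset.toList_toFinset]
      congr 1
      ext χ
      simp
    · rintro w ⟨χ, hχ, rfl⟩
      rw [Finset.mem_filter] at hχ
      rw [← hχ.2]; exact h1 χ hχ.1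
  · refine ⟨by simp [listB, Col.itT], fun w hw => ?_⟩
    simp only [listB, Col.itT, if_pos, List.mem_singleton] at hw
    subst hw; exact h2

theorem sum_X11_deg {M : Type*} [AddCommMonoid M] {A : Bool}
    (hA : (K.X11').val.map deg = (Search.dA A : Multiset ℕ)) (f : ℕ → M) :
    ∑ χ ∈ K.X11', f (deg χ) = ((Search.dA A).map f).sum := by
  have h := congrArg (fun S : Multiset ℕ => (S.map f).sum) hA
  simp only [Multiset.map_map, Multiset.map_coe, Multiset.sum_coe] at h
  exact h

theorem sum_B6_deg {M : Type*} [AddCommMonoid M] {B : List ℤ} (hB : K.signedB.Perm B) (f : ℕ → M) :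
    ∑ χ ∈ K.B6, f (deg χ) = ((B.map Int.natAbs).map f).sum := by
  rw [← ((hB.map Int.natAbs).map f).sum_eq, signedB, List.map_map, List.map_map,
    Finset.sum_map_toList]
  exact Finset.sum_congr rfl fun χ hχ => congrArg f
    (natAbs_sign_mul (K.D23.sign χ (Finset.mem_of_mem_erase (Finset.mem_filter.1 hχ).1)) _).symm

end Ctx

end Cfsg.Agent.H90.MTwentyThree
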