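import Cfsg.Agent.H90.MTwentyThree.Basic

/-!
The values at an element of prime order `p` of a self-centralising Sylow subgroup with two exceptional
characters: `2 χ(x) = a + b r` with integers `a`, `b` and `r ^ 2 = -p`.
-/

set_option autoImplicit false
set_option linter.unusedSectionVars false
set_option linter.style.haveILetI false

open scoped ComplexConjugate Classical

namespace Cfsg.Agent.H90.MTwentyThree

open CharBasic Subgroup BlockBasic H86 H86.MTwentyTwo

universe u

variable {G : Type u} [Group G] [Fintype G] {p : ℕ} [hp : Fact p.Prime] (D : SmallExc.PBlk G p)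

/-- An element of the Sylow subgroup is not conjugate to its inverse when `e` is odd. -/
theorem not_isConj_inv (hp2 : p ≠ 2) (hodd : Odd D.e) {x : G} (hx : x ∈ (D.P : Subgroup G))
    (hx1 : x ≠ 1) : ¬ IsConj x x⁻¹ := by
  intro h
  obtain ⟨g, hg⟩ := isConj_iff.1 h
  have hzx : zpowers x = (D.P : Subgroup G) := eq_of_le_of_card_ge (zpowers_le.2 hx) (by
    rw [Nat.card_zpowers, orderOf_mem D hx hx1]; exact D.card_P.le)
  have hmap : ∀ w ∈ (D.P : Subgroup G), g * w * g⁻¹ = w⁻¹ := fun w hw => inverts_all hx hx1 hg hw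
  have hgN : g ∈ normalizer ((D.P : Subgroup G) : Set G) := by
    refine mem_normalizer_iff.2 fun a => ⟨fun ha => ?_, fun ha => ?_⟩
    · rw [hmap a ha]; exact inv_mem ha
    · have h' := hmap (g * a * g⁻¹)⁻¹ (inv_mem ha)
      rw [inv_inv] at h'
      have : a = (g * a * g⁻¹)⁻¹ := by
        have e : g * (g * a * g⁻¹)⁻¹ * g⁻¹ = g * a * g⁻¹ := h'
        exact (mul_left_cancel (mul_right_cancel e)).symm
      rw [this]
      exact inv_mem ha
  haveI : (Cent D).subgroupOf (normalizer (D.P : Set G)) |>.Normal :=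
    normal_subgroupOf_centralizer_normalizer _
  set q := QuotientGroup.mk' ((Cent D).subgroupOf (normalizer (D.P : Set G))) ⟨g, hgN⟩ with hq
  have h2 : orderOf q ∣ 2 := by
    refine orderOf_dvd_of_pow_eq_one ?_
    rw [hq, ← map_pow, QuotientGroup.mk'_apply, QuotientGroup.eq_one_iff, mem_subgroupOf,
      SubmonoidClass.coe_pow, ← centralizer_mem D hx hx1, mem_centralizer_singleton_iff, sq]
    have e : g * g * x * (g * g)⁻¹ = x := by
      calc g * g * x * (g * g)⁻¹ = g * (g * x * g⁻¹) * g⁻¹ := by group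
        _ = x := by rw [hg, ← conj_inv, hg, inv_inv]
    exact mul_inv_eq_iff_eq_mul.1 e
  have he : orderOf q ∣ D.e := by
    have h := orderOf_dvd_natCard q
    rwa [← Subgroup.index_eq_card] at h
  have h1 : q = 1 := by
    rw [← orderOf_eq_one_iff]
    rcases (Nat.dvd_prime Nat.prime_two).1 h2 with h | h
    · exact h
    · rw [h] at he; exact absurd (even_iff_two_dvd.2 he) (Nat.not_even_iff_odd.2 hodd)
  rw [hq, QuotientGroup.mk'_apply, QuotientGroup.eq_one_iff, mem_subgroupOf] at h1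
  exact notMem_cent_of_inverts hx hx1 hp2 hg h1

/-- The data of the exceptional pair. -/
theorem exists_root (hC : Cent D = (D.P : Subgroup G)) (ht : D.t = 2) (hodd : Odd D.e) (hp2 : p ≠ 2)
    {x : G} (hx : x ∈ (D.P : Subgroup G)) (hx1 : x ≠ 1) :
    ∃ r : ℂ, r * r = -(p : ℂ) ∧
      (∀ χ ∈ D.Y, ∀ χ' ∈ D.Y, (χ : G → ℂ) x = (χ' : G → ℂ) x → χ = χ') ∧
      ∀ χ : IrrCharacter G, ∃ a b : ℤ,
      2 * (χ : G → ℂ) x = (a : ℂ) + (b : ℂ) * r ∧
      (χ ∈ D.X → a = 2 * D.εX χ ∧ b = 0) ∧ (χ ∈ D.Y → a = -D.ε ∧ (b = 1 ∨ b = -1)) ∧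
      (χ ∉ D.X → χ ∉ D.Y → a = 0 ∧ b = 0) := by
  obtain ⟨θ₁, θ₂, hne, hY⟩ := Finset.card_eq_two.1 ((card_Y_eq D).trans ht)
  have hsum := sum_Y_singular D hx hx1
  rw [hY, Finset.sum_pair hne] at hsum
  -- second orthogonality for `x` and its inverse
  have hsq : (θ₁ : G → ℂ) x ^ 2 + (θ₂ : G → ℂ) x ^ 2 = -(D.e : ℂ) := by
    have h := second_orthogonality_not_isConj (not_isConj_inv D hp2 hodd hx hx1)
    rw [Finset.sum_congr rfl (g := fun χ : IrrCharacter G => (χ : G → ℂ) x ^ 2) fun χ _ => by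
      rw [IsChar.inv_apply (IsIrr.isCharacter χ.2), Complex.conj_conj, sq]] at h
    rw [← Finset.sum_subset (Finset.subset_univ (D.X ∪ D.Y)) (fun χ _ hχ => by
      simp only [Finset.mem_union, not_or] at hχ
      rw [D.vanish hC hχ.1 hχ.2 hx hx1, zero_pow (by norm_num)]), Finset.sum_union D.disj,
      Finset.sum_congr rfl (g := fun _ => (1 : ℂ)) (fun χ hχ => by
        rw [D.val_P hχ hx hx1]
        rcases D.sign χ hχ with e | e <;> rw [e] <;> norm_num), Finset.sum_const, nsmul_one,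
      hY, Finset.sum_pair hne, D.cardX] at h
    have h' : (D.e : ℂ) + ((θ₁ : G → ℂ) x ^ 2 + (θ₂ : G → ℂ) x ^ 2) = 0 := h
    linear_combination h'
  have hne' : (θ₁ : G → ℂ) x ≠ (θ₂ : G → ℂ) x := by
    intro h
    have hε : (D.ε : ℂ) ^ 2 = 1 := by rcases D.hε with e | e <;> rw [e] <;> norm_num
    rw [← h] at hsum hsq
    have h2 : ((1 + 2 * D.e : ℕ) : ℂ) = 0 := by
      push_cast
      linear_combination 2 * hsq - hε - (2 * (θ₁ : G → ℂ) x - D.ε) * hsum
    exact absurd (Nat.cast_eq_zero.1 h2) (by omega)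
  refine ⟨(θ₁ : G → ℂ) x - (θ₂ : G → ℂ) x, ?_, ?_, fun χ => ?_⟩
  · have hp1 : (p : ℂ) = 2 * (D.e : ℂ) + 1 := by
      have h := D.e_mul_t
      rw [ht] at h
      have : p = 2 * D.e + 1 := by have := hp.out.two_le; omega
      exact_mod_cast this
    have hε : (D.ε : ℂ) ^ 2 = 1 := by rcases D.hε with e | e <;> rw [e] <;> norm_num
    have hs2 : ((θ₁ : G → ℂ) x + (θ₂ : G → ℂ) x) ^ 2 = 1 := by rw [hsum, neg_sq, hε]
    linear_combination 2 * hsq - hs2 + hp1
  · intro χ hχ χ' hχ' he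
    rw [hY, Finset.mem_insert, Finset.mem_singleton] at hχ hχ'
    rcases hχ with rfl | rfl <;> rcases hχ' with rfl | rfl
    · rfl
    · exact absurd he hne'
    · exact absurd he.symm hne'
    · rfl
  by_cases h1 : χ ∈ D.X
  · refine ⟨2 * D.εX χ, 0, ?_, fun _ => ⟨rfl, rfl⟩,
      fun h => absurd h (Finset.disjoint_left.1 D.disj h1), fun h => absurd h1 h⟩
    rw [D.val_P h1 hx hx1]; push_cast; ring
  by_cases h2 : χ ∈ D.Y
  · rw [hY, Finset.mem_insert, Finset.mem_singleton] at h2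
    rcases h2 with rfl | rfl
    · refine ⟨-D.ε, 1, ?_, fun h => absurd h h1, fun _ => ⟨rfl, Or.inl rfl⟩,
        fun _ h => absurd (by rw [hY]; simp) h⟩
      push_cast; linear_combination hsum
    · refine ⟨-D.ε, -1, ?_, fun h => absurd h h1, fun _ => ⟨rfl, Or.inr rfl⟩,
        fun _ h => absurd (by rw [hY]; simp) h⟩
      push_cast; linear_combination hsum
  · refine ⟨0, 0, ?_, fun h => absurd h h1, fun h => absurd h h2, fun _ _ => ⟨rfl, rfl⟩⟩
    rw [D.vanish hC h1 h2 hx hx1]; push_cast; ring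

/-- The rational and irrational parts are determined. -/
theorem coord_inj {r : ℂ} (hr : r * r = -(p : ℂ)) {a b a' b' : ℤ}
    (h : (a : ℂ) + (b : ℂ) * r = (a' : ℂ) + (b' : ℂ) * r) : a = a' ∧ b = b' := by
  have hb : b = b' := by
    by_contra hne
    have hbz : ((b : ℂ) - b') ≠ 0 := by
      rw [sub_ne_zero]; exact_mod_cast hne
    have h2 : ((a : ℂ) - a') ^ 2 = -(p : ℂ) * ((b : ℂ) - b') ^ 2 := by
      have : (a : ℂ) - a' = -(((b : ℂ) - b') * r) := by linear_combination h
      rw [this]; linear_combination ((b : ℂ) - b') ^ 2 * hr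
    have h3 : (((a - a') ^ 2 + (p : ℤ) * (b - b') ^ 2 : ℤ) : ℂ) = 0 := by
      push_cast; linear_combination h2
    have h4 : (a - a') ^ 2 + (p : ℤ) * (b - b') ^ 2 = 0 := by exact_mod_cast h3
    have h5 : 0 < (p : ℤ) * (b - b') ^ 2 :=
      mul_pos (by exact_mod_cast hp.out.pos) (sq_pos_of_ne_zero (sub_ne_zero.2 hne))
    nlinarith [sq_nonneg (a - a')]
  subst hb
  refine ⟨?_, rfl⟩
  have : (a : ℂ) = (a' : ℂ) := by linear_combination h
  exact_mod_cast this

/-- The root is purely imaginary. -/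
theorem conj_root {r : ℂ} (hr : r * r = -(p : ℂ)) : conj r = -r := by
  have h1 := congrArg Complex.re hr
  have h2 := congrArg Complex.im hr
  simp only [Complex.mul_re, Complex.mul_im, Complex.neg_re, Complex.neg_im, Complex.natCast_re,
    Complex.natCast_im, neg_zero] at h1 h2
  have hre : r.re = 0 := by
    by_contra hne
    have him : r.im = 0 := by
      rcases mul_eq_zero.1 (show r.re * r.im = 0 by linarith) with h | h
      · exact absurd h hne
      · exact h
    rw [him] at h1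
    have : (0 : ℝ) < p := by exact_mod_cast hp.out.pos
    nlinarith [mul_self_nonneg r.re]
  exact Complex.ext (by simp [hre]) (by simp)

end Cfsg.Agent.H90.MTwentyThree
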