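import Cfsg.Agent.H90.MTwentyThree.ElevenMain
import Cfsg.Agent.H90.MTwentyThree.Pairs
import Cfsg.Agent.H69.MTwentyTwo.CaseE.Blocks

/-!
The two blocks of self-centralising Sylow subgroups and the candidates for degrees and values.
-/

set_option autoImplicit false
set_option linter.unusedSectionVars false
set_option linter.style.haveILetI false
set_option maxRecDepth 100000

open scoped ComplexConjugate Classical

namespace Cfsg.Agent.H90.MTwentyThree

open CharBasic Subgroup BlockBasic H86 H86.MTwentyTwo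

universe u

namespace Search

/-- The possible doubled coordinates at an element of order `p`. -/
def kinds (p e d : ℕ) : List (ℤ × ℤ) :=
  if d % p == 0 then [(0, 0)] else if d % p == 1 then [(2, 0)] else if d % p == p - 1 then [(-2, 0)]
  else if d % p == e then [(-1, 1), (-1, -1)] else if d % p == p - e then [(1, 1), (1, -1)] else []

/-- The residues of degrees modulo 11. -/
def ok11 (d : ℕ) : Bool :=
  d % 11 == 0 || d % 11 == 1 || d % 11 == 10 || d % 11 == 5 || d % 11 == 6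

/-- An exceptional degree at 11. -/
def exc11 (d : ℕ) : Bool := d % 11 == 5 || d % 11 == 6

/-- An exceptional degree at 23. -/
def exc23 (d : ℕ) : Bool := d % 23 == 11 || d % 23 == 12

/-- The possible degrees of nontrivial characters. -/
def candT : List ℕ :=
  [11, 12, 22, 23, 45, 115, 138, 160, 230, 231, 252, 253, 264, 276, 368, 483, 495, 506, 528, 644,
    736, 759, 770, 896, 990, 1012, 1035, 1265, 1288, 1380, 1518, 1540, 1656, 1760, 1771, 2024, 2277,
    2415, 2530, 2760, 2772, 2898, 3036]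

theorem candT_complete : ((List.range 3194).all fun d =>
    !(Nat.ble 2 d && N % d == 0 && ok11 d && ok23 d && !(exc11 d && exc23 d)) ||
      candT.contains d) = true := by
  decide +kernel

end Search

local instance factEleven : Fact (Nat.Prime 11) := ⟨by norm_num⟩
local instance factTwentyThree : Fact (Nat.Prime 23) := ⟨by norm_num⟩

/-- Elements of orders 11 and 23 with their blocks and roots. -/
structure Ctx (G : Type u) [Group G] [Fintype G] where
  isM23 : IsM23 G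
  D11 : SmallExc.PBlk G 11
  D23 : SmallExc.PBlk G 23
  y : G
  x : G
  hy : y ∈ (D11.P : Subgroup G)
  hy1 : y ≠ 1
  hx : x ∈ (D23.P : Subgroup G)
  hx1 : x ≠ 1
  r11 : ℂ
  r23 : ℂ
  hr11 : r11 * r11 = -((11 : ℕ) : ℂ)
  hr23 : r23 * r23 = -((23 : ℕ) : ℂ)
  cy : IrrCharacter G → ℤ × ℤ
  cx : IrrCharacter G → ℤ × ℤ
  eq_y : ∀ χ : IrrCharacter G,
    2 * (χ : G → ℂ) y = ((cy χ).1 : ℂ) + ((cy χ).2 : ℂ) * r11
  eq_x : ∀ χ : IrrCharacter G,
    2 * (χ : G → ℂ) x = ((cx χ).1 : ℂ) + ((cx χ).2 : ℂ) * r23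
  kind_y : ∀ χ : IrrCharacter G, cy χ ∈ Search.kinds 11 5 (deg χ)
  kind_x : ∀ χ : IrrCharacter G, cx χ ∈ Search.kinds 23 11 (deg χ)
  inj_y : ∀ χ ∈ D11.Y, ∀ χ' ∈ D11.Y, (χ : G → ℂ) y = (χ' : G → ℂ) y → χ = χ'
  inj_x : ∀ χ ∈ D23.Y, ∀ χ' ∈ D23.Y, (χ : G → ℂ) x = (χ' : G → ℂ) x → χ = χ'

variable {G : Type u} [Group G] [Fintype G] [IsSimpleGroup G]

theorem res11 (hG : IsM23 G) (D : SmallExc.PBlk G 11) (χ : IrrCharacter G) :
    Search.ok11 (deg χ) = true := by
  obtain ⟨hC, he⟩ := eleven D hG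
  unfold deg
  by_cases h1 : χ ∈ D.X
  · have hm := X_degree_mod D h1
    simp only [Search.ok11, Bool.or_eq_true, beq_iff_eq]
    rcases D.sign χ h1 with e | e <;> rw [e] at hm <;> omega
  by_cases h2 : χ ∈ D.Y
  · have hm := Y_degree_mod D h2
    rw [he] at hm
    simp only [Search.ok11, Bool.or_eq_true, beq_iff_eq]
    rcases D.hε with e | e <;> rw [e] at hm <;> omega
  have hd := Nat.mod_eq_zero_of_dvd (dvd_degree_outside D hC h1 h2)
  simp [Search.ok11, hd]

/-- The coordinates have the kind of the degree. -/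
theorem kind_of {p e : ℕ} [hp : Fact p.Prime] (D : SmallExc.PBlk G p)
    (hC : Cent D = (D.P : Subgroup G)) (he : D.e = e) (he1 : 1 < e) (he2 : 2 * e < p)
    {χ : IrrCharacter G} {a b : ℤ} (hX : χ ∈ D.X → a = 2 * D.εX χ ∧ b = 0)
    (hY : χ ∈ D.Y → a = -D.ε ∧ (b = 1 ∨ b = -1))
    (hO : χ ∉ D.X → χ ∉ D.Y → a = 0 ∧ b = 0) : (a, b) ∈ Search.kinds p e (deg χ) := by
  unfold Search.kinds
  by_cases h1 : χ ∈ D.X
  · obtain ⟨rfl, rfl⟩ := hX h1
    rcases H69.MTwentyTwo.CaseE.X_res D h1 with ⟨h, r⟩ | ⟨h, r⟩ <;>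
      (change charDegree (χ : G → ℂ) % p = _ at r; unfold deg; rw [h, r])
    · simp [show (1 : ℕ) ≠ 0 from one_ne_zero]
    · rw [if_neg (by simp only [beq_iff_eq]; omega), if_neg (by simp only [beq_iff_eq]; omega),
        if_pos (by simp)]
      simp
  by_cases h2 : χ ∈ D.Y
  · obtain ⟨rfl, hb⟩ := hY h2
    rcases H69.MTwentyTwo.CaseE.Y_res D h2 he with ⟨h, r⟩ | ⟨h, r⟩ <;>
      (change charDegree (χ : G → ℂ) % p = _ at r; unfold deg; rw [h, r])
    · rw [if_neg (by simp only [beq_iff_eq]; omega), if_neg (by simp only [beq_iff_eq]; omega),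
        if_neg (by simp only [beq_iff_eq]; omega), if_pos (by simp)]
      rcases hb with rfl | rfl <;> simp
    · rw [if_neg (by simp only [beq_iff_eq]; omega), if_neg (by simp only [beq_iff_eq]; omega),
        if_neg (by simp only [beq_iff_eq]; omega), if_neg (by simp only [beq_iff_eq]; omega),
        if_pos (by simp)]
      rcases hb with rfl | rfl <;> simp
  · obtain ⟨rfl, rfl⟩ := hO h1 h2
    have hd := Nat.mod_eq_zero_of_dvd (dvd_degree_outside D hC h1 h2)
    simp [deg, hd]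

theorem exists_ctx (hG : IsM23 G) : Nonempty (Ctx G) := by
  obtain ⟨D11⟩ := exists_blk hG 11 (m := 927360) rfl (by norm_num)
  obtain ⟨D23⟩ := exists_blk hG 23 (m := 443520) rfl (by norm_num)
  obtain ⟨hC11, he11⟩ := eleven D11 hG
  obtain ⟨hC23, he23⟩ := twentythree hG D23
  obtain ⟨y, hy, hy1⟩ := D11.exists_ne_one
  obtain ⟨x, hx, hx1⟩ := D23.exists_ne_one
  have ht11 : D11.t = 2 := by have := D11.e_mul_t; rw [he11] at this; omega
  have ht23 : D23.t = 2 := by have := D23.e_mul_t; rw [he23] at this; omega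
  obtain ⟨r11, hr11, hi11, hc11⟩ := exists_root D11 hC11 ht11 ⟨2, by rw [he11]; rfl⟩ (by norm_num) hy hy1
  obtain ⟨r23, hr23, hi23, hc23⟩ := exists_root D23 hC23 ht23 ⟨5, by rw [he23]; rfl⟩ (by norm_num) hx hx1
  choose a b hab hX hY hO using hc11
  choose a' b' hab' hX' hY' hO' using hc23
  exact ⟨{
    isM23 := hG, D11 := D11, D23 := D23, y := y, x := x, hy := hy, hy1 := hy1, hx := hx, hx1 := hx1
    r11 := r11, r23 := r23, hr11 := hr11, hr23 := hr23
    cy := fun χ => (a χ, b χ), cx := fun χ => (a' χ, b' χ), eq_y := hab, eq_x := hab'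
    kind_y := fun χ => kind_of D11 hC11 he11 (by norm_num) (by norm_num) (hX χ) (hY χ) (hO χ)
    kind_x := fun χ => kind_of D23 hC23 he23 (by norm_num) (by norm_num) (hX' χ) (hY' χ) (hO' χ)
    inj_y := hi11, inj_x := hi23 }⟩

namespace Ctx

variable (K : Ctx G)

theorem hC11 : Cent K.D11 = (K.D11.P : Subgroup G) := (eleven K.D11 K.isM23).1
theorem he11 : K.D11.e = 5 := (eleven K.D11 K.isM23).2
theorem hC23 : Cent K.D23 = (K.D23.P : Subgroup G) := (twentythree K.isM23 K.D23).1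
theorem he23 : K.D23.e = 11 := (twentythree K.isM23 K.D23).2
theorem ht11 : K.D11.t = 2 := by have := K.D11.e_mul_t; rw [K.he11] at this; omega
theorem ht23 : K.D23.t = 2 := by have := K.D23.e_mul_t; rw [K.he23] at this; omega

theorem reg_y : ¬ 23 ∣ orderOf K.y := by rw [orderOf_mem K.D11 K.hy K.hy1]; norm_num
theorem reg_x : ¬ 11 ∣ orderOf K.x := by rw [orderOf_mem K.D23 K.hx K.hx1]; norm_num

theorem mem_X11 (χ : IrrCharacter G) : χ ∈ K.D11.X ↔ deg χ % 11 = 1 ∨ deg χ % 11 = 10 :=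
  H69.MTwentyTwo.CaseE.mem_X_iff K.D11 K.hC11 K.he11 (by norm_num) (by norm_num) χ

theorem mem_Y11 (χ : IrrCharacter G) : χ ∈ K.D11.Y ↔ deg χ % 11 = 5 ∨ deg χ % 11 = 6 :=
  H69.MTwentyTwo.CaseE.mem_Y_iff K.D11 K.hC11 K.he11 (by norm_num) (by norm_num) χ

theorem mem_X23 (χ : IrrCharacter G) : χ ∈ K.D23.X ↔ deg χ % 23 = 1 ∨ deg χ % 23 = 22 :=
  H69.MTwentyTwo.CaseE.mem_X_iff K.D23 K.hC23 K.he23 (by norm_num) (by norm_num) χ

theorem mem_Y23 (χ : IrrCharacter G) : χ ∈ K.D23.Y ↔ deg χ % 23 = 11 ∨ deg χ % 23 = 12 :=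
  H69.MTwentyTwo.CaseE.mem_Y_iff K.D23 K.hC23 K.he23 (by norm_num) (by norm_num) χ

include K in
theorem deg_Y11 {χ χ' : IrrCharacter G} (h : Search.exc11 (deg χ) = true)
    (h' : Search.exc11 (deg χ') = true) : deg χ = deg χ' := by
  simp only [Search.exc11, Bool.or_eq_true, beq_iff_eq] at h h'
  exact K.D11.degree_Y ((K.mem_Y11 χ).2 h) ((K.mem_Y11 χ').2 h')

include K in
theorem deg_Y23 {χ χ' : IrrCharacter G} (h : Search.exc23 (deg χ) = true)
    (h' : Search.exc23 (deg χ') = true) : deg χ = deg χ' := by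
  simp only [Search.exc23, Bool.or_eq_true, beq_iff_eq] at h h'
  exact K.D23.degree_Y ((K.mem_Y23 χ).2 h) ((K.mem_Y23 χ').2 h')

include K in
/-- No character is exceptional at both primes. -/
theorem not_exc_both (χ : IrrCharacter G) :
    (Search.exc11 (deg χ) && Search.exc23 (deg χ)) = false := by
  by_contra hb
  rw [Bool.not_eq_false, Bool.and_eq_true] at hb
  obtain ⟨h11, h23⟩ := hb
  have h1 : χ ∈ K.D11.Y := (K.mem_Y11 χ).2 (by simpa [Search.exc11] using h11)
  obtain ⟨θ, hθ, hne⟩ := Finset.exists_mem_ne (show 1 < K.D11.Y.card by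
    rw [card_Y_eq, K.ht11]; norm_num) χ
  have hd : deg θ = deg χ := K.D11.degree_Y hθ h1
  have h2 : χ ∈ K.D23.Y := (K.mem_Y23 χ).2 (by simpa [Search.exc23] using h23)
  have h3 : θ ∈ K.D23.Y := (K.mem_Y23 θ).2 (by rw [hd]; simpa [Search.exc23] using h23)
  exact hne (K.inj_x θ h3 χ h2 (K.D11.agree θ hθ χ h1 K.x K.reg_x))

include K in
theorem mem_candT {χ : IrrCharacter G} (hχ : χ ≠ trivialIrr) : deg χ ∈ Search.candT := by
  have h := List.all_eq_true.1 Search.candT_complete (deg χ) (List.mem_range.2 (deg_lt K.isM23 χ))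
  have h0 : (Nat.ble 2 (deg χ) && (Search.N % deg χ == 0) && Search.ok11 (deg χ) &&
      Search.ok23 (deg χ) && !(Search.exc11 (deg χ) && Search.exc23 (deg χ))) = true := by
    simp only [Bool.and_eq_true, Nat.ble_eq, beq_iff_eq, K.not_exc_both χ, Bool.not_false, and_true]
    exact ⟨⟨⟨two_le_degree (not_comm K.isM23) hχ, Nat.mod_eq_zero_of_dvd (deg_dvd K.isM23 χ)⟩,
      res11 K.isM23 K.D11 χ⟩, res23 K.D23 K.isM23 χ⟩
  rw [h0, Bool.not_true, Bool.false_or] at h
  exact List.contains_iff_mem.1 h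

theorem triv_coord : K.cy trivialIrr = (2, 0) ∧ K.cx trivialIrr = (2, 0) := by
  have h1 := K.kind_y trivialIrr
  have h2 := K.kind_x trivialIrr
  rw [show deg (trivialIrr : IrrCharacter G) = 1 from SmallExc.PBlk.charDegree_triv K.D11] at h1 h2
  simp [Search.kinds] at h1 h2
  exact ⟨h1, h2⟩

end Ctx

end Cfsg.Agent.H90.MTwentyThree
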