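import Cfsg.Agent.H90.MTwentyThree.Column
import Cfsg.Agent.H90.MTwentyThree.CheckColumn

/-!
The character degrees and the values at every involution.
-/

set_option autoImplicit false
set_option linter.unusedSectionVars false
set_option linter.style.haveILetI false
set_option maxRecDepth 100000

open scoped ComplexConjugate Classical

namespace Cfsg.Agent.H90.MTwentyThree

open CharBasic Subgroup BlockBasic H86 H86.MTwentyTwo

universe u

/-- The seventeen degrees. -/
def degrees : List ℕ :=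
  [1, 22, 45, 45, 230, 231, 231, 231, 253, 770, 770, 896, 896, 990, 990, 1035, 2024]

theorem degrees_check : ([1] ++ (Search.dA true ++ [896, 896] ++
    (Col.target.map Int.natAbs ++ [770, 770] ++ [2024, 253]))).isPerm degrees = true := by
  decide +kernel

local instance : Fact (Nat.Prime 11) := ⟨by norm_num⟩
local instance : Fact (Nat.Prime 23) := ⟨by norm_num⟩

variable {G : Type u} [Group G] [Fintype G] [IsSimpleGroup G]

namespace Ctx

variable (K : Ctx G)

include K in
/-- The shape of the blocks. -/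
theorem shape : (K.X11').val.map deg = (Search.dA true : Multiset ℕ) ∧ K.signedB.Perm Col.target ∧
    (∀ θ ∈ K.D23.Y, K.D23.ε * (deg θ : ℤ) = 770) ∧
    ∑ χ ∈ K.Rest, (deg χ : ℤ) * deg χ = 4160585 := by
  obtain ⟨A, B, hA, hB, hBm, hcore, hT, hrest⟩ := K.block23
  obtain ⟨z, hz, h128⟩ := exists_central K.isM23
  obtain ⟨-, hdvd⟩ := centralizer_dvd K.isM23 hz
  obtain ⟨Bs, hBs, hcheck⟩ := Col.check_central h128 hdvd A hBm
  obtain ⟨rfl, rfl, -⟩ := K.column_core hA hB hBm hcore hT hrest hz rfl hBs hcheck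
  exact ⟨hA, hB, fun θ hθ => by rw [hT θ hθ, Col.target_facts.1],
    by rw [← hrest, Col.target_facts.2.1]⟩

include K in
/-- The values at any involution. -/
theorem column {z : G} (hz : orderOf z = 2) : Column z := by
  obtain ⟨A, B, hA, hB, hBm, hcore, hT, hrest⟩ := K.block23
  obtain ⟨hA', hB', -, -⟩ := K.shape
  have hAt : A = true := by
    by_contra hne
    rw [Bool.not_eq_true] at hne
    rw [hne, hA', Multiset.coe_eq_coe] at hA
    exact absurd (hA.mem_iff.1 (by decide : 230 ∈ Search.dA true)) (by decide)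
  have hBt : B = Col.target := Col.target_eq B hBm (List.isPerm_iff.2 (hB.symm.trans hB'))
  subst hAt hBt
  obtain ⟨h2, hdvd⟩ := centralizer_dvd K.isM23 hz
  obtain ⟨-, -, h⟩ := K.column_core hA hB hBm hcore hT hrest hz rfl (List.mem_singleton_self Col.target)
    (Col.check_any h2 hdvd)
  exact h

include K in
/-- The degrees. -/
theorem degs : (Finset.univ : Finset (IrrCharacter G)).val.map deg = (degrees : Multiset ℕ) := by
  obtain ⟨hA, hB, hT, hrest⟩ := K.shape
  have h := K.sum_split fun χ => ({deg χ} : Multiset ℕ)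
  have hmap : ∀ S : Finset (IrrCharacter G), ∑ χ ∈ S, ({deg χ} : Multiset ℕ) = S.val.map deg := by
    intro S
    rw [Finset.sum_eq_multiset_sum, ← Function.comp_def (fun d : ℕ => ({d} : Multiset ℕ)) deg,
      ← Multiset.map_map, Multiset.sum_map_singleton]
  simp only [hmap] at h
  obtain ⟨-, -, χ₁, hχ₁⟩ := K.exists_big
  have hm₁ : χ₁ ∈ K.Rest := Finset.mem_filter.2 ⟨Finset.mem_erase.2 ⟨fun e => by
    rw [e, K.deg_triv] at hχ₁; omega, Finset.mem_univ _⟩, by omega⟩
  rw [← Finset.add_sum_erase _ _ hm₁, hχ₁] at hrest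
  have hsq : ∑ χ ∈ K.Rest.erase χ₁, (deg χ : ℤ) * deg χ = 64009 := by push_cast at hrest; linarith
  have hge : ∀ χ ∈ K.Rest.erase χ₁, ∃ k : ℕ, 0 < k ∧ deg χ = 253 * k := fun χ hχ => by
    obtain ⟨-, a, b⟩ := Finset.mem_filter.1 (Finset.mem_of_mem_erase hχ)
    obtain ⟨k, hk⟩ : 253 ∣ deg χ := by omega
    exact ⟨k, Nat.pos_of_ne_zero fun e => by
      rw [e, mul_zero] at hk; exact (charDegree_pos χ).ne' hk, hk⟩
  obtain ⟨χ₂, hχ₂, hd₂⟩ : ∃ χ₂, K.Rest.erase χ₁ = {χ₂} ∧ deg χ₂ = 253 := by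
    obtain ⟨χ₂, hχ₂⟩ : (K.Rest.erase χ₁).Nonempty := by
      rw [Finset.nonempty_iff_ne_empty]
      intro h0
      rw [h0, Finset.sum_empty] at hsq
      norm_num at hsq
    rw [← Finset.add_sum_erase _ _ hχ₂] at hsq
    obtain ⟨k, hk, hk2⟩ := hge χ₂ hχ₂
    have h0 : (0 : ℤ) ≤ ∑ χ ∈ (K.Rest.erase χ₁).erase χ₂, (deg χ : ℤ) * deg χ :=
      Finset.sum_nonneg fun χ _ => mul_self_nonneg _
    have hk1 : k = 1 := by
      by_contra hne
      have : (506 : ℤ) ≤ deg χ₂ := by rw [hk2]; push_cast; omega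
      nlinarith
    have hd : deg χ₂ = 253 := by rw [hk2, hk1]
    refine ⟨χ₂, Finset.eq_singleton_iff_unique_mem.2 ⟨hχ₂, fun χ hχ => ?_⟩, hd⟩
    by_contra hne
    have hmem : χ ∈ (K.Rest.erase χ₁).erase χ₂ := Finset.mem_erase.2 ⟨hne, hχ⟩
    obtain ⟨j, hj, hj2⟩ := hge χ hχ
    have hle := Finset.single_le_sum (f := fun χ => (deg χ : ℤ) * deg χ)
      (fun χ _ => mul_self_nonneg _) hmem
    have : (253 : ℤ) ≤ deg χ := by rw [hj2]; push_cast; omega
    rw [hd] at hsq
    push_cast at hsq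
    nlinarith
  have hR : K.Rest.val.map deg = ([2024, 253] : Multiset ℕ) := by
    rw [← Finset.insert_erase hm₁, hχ₂, Finset.insert_val, Multiset.ndinsert_of_notMem (by
      have := Finset.notMem_erase χ₁ K.Rest
      rwa [hχ₂] at this), Multiset.map_cons, Finset.singleton_val, Multiset.map_singleton, hχ₁, hd₂]
    rfl
  have hY11 : K.D11.Y.val.map deg = ([896, 896] : Multiset ℕ) := by
    rw [Multiset.map_congr rfl (fun χ hχ => K.eps11.2 χ hχ), Multiset.map_const', Finset.card_val,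
      K.card_Y11]
    rfl
  have hY23 : K.D23.Y.val.map deg = ([770, 770] : Multiset ℕ) := by
    rw [Multiset.map_congr rfl (g := fun _ => 770) (fun χ hχ => ?_), Multiset.map_const',
      Finset.card_val, K.card_Y23]
    · rfl
    · rw [← natAbs_sign_mul K.D23.hε (deg χ), hT χ hχ]; rfl
  have hB6 : K.B6.val.map deg = ((Col.target.map Int.natAbs : List ℕ) : Multiset ℕ) := by
    rw [← hmap, K.sum_B6_deg hB fun d => ({d} : Multiset ℕ), ← Multiset.sum_coe, ← Multiset.map_coe,
      Multiset.sum_map_singleton]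
  rw [h, hA, hY11, hY23, hR, hB6, K.deg_triv]
  exact Multiset.coe_eq_coe.2 (List.isPerm_iff.1 degrees_check)

end Ctx

end Cfsg.Agent.H90.MTwentyThree
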