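import Cfsg.Agent.H90.MTwentyThree.ElevenTwo
import Cfsg.Agent.H90.MTwentyThree.Check11
import Cfsg.Agent.H90.MTwentyThree.GroupLemmas

/-!
In a simple group of order 10200960 a Sylow 11-subgroup is self-centralising, with five orbits.
-/

set_option autoImplicit false
set_option linter.unusedSectionVars false
set_option linter.style.haveILetI false
set_option maxRecDepth 100000

open scoped ComplexConjugate Classical

namespace Cfsg.Agent.H90.MTwentyThree

open CharBasic Subgroup BlockBasic H86 H86.MTwentyTwo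

universe u

theorem five_coSize11 : ((Search.divProd [128, 9, 7]).all fun L => !(L % 11 == 1) ||
    [1, 12, 56, 144, 672, 8064].contains L) = true := by
  decide +kernel

theorem ten_coSize11 : ((Search.divProd [64, 9, 7]).all fun L => !(L % 11 == 6) ||
    [6, 28, 72, 336, 4032].contains L) = true := by
  decide +kernel

theorem gval_neg_le : (Search.degs11.all fun F => F == 45 || decide (Search.gval (-F) ≤ 0)) = true := by
  decide +kernel

theorem seven_index276 : ((Search.divProd [4, 3, 23]).all fun n =>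
    !(n % 7 == 1) || n == 1 || !(276 / n % 11 == 1)) = true := by
  decide +kernel

theorem gval_sign_mul {s : ℤ} (hs : s = 1 ∨ s = -1) {d : ℕ} (hd : 0 < d) :
    Search.gval (s * d) = s * Search.xval d := by
  unfold Search.gval
  rcases hs with rfl | rfl
  · rw [one_mul, if_pos (by exact_mod_cast hd), Int.natAbs_natCast, one_mul]
  · rw [neg_one_mul, if_neg (by have : (0 : ℤ) ≤ d := Int.natCast_nonneg d; omega), Int.natAbs_neg,
      Int.natAbs_natCast, neg_one_mul]

variable {G : Type u} [Group G] [Fintype G] [IsSimpleGroup G]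

section Block

variable [hp : Fact (Nat.Prime 11)] (D : SmallExc.PBlk G 11)

/-- The conjugate of an element of the centraliser by an element of the normaliser. -/
theorem normalizer_le_normalizer_cent :
    normalizer ((D.P : Subgroup G) : Set G) ≤ normalizer ((Cent D : Subgroup G) : Set G) := by
  have key : ∀ g ∈ normalizer ((D.P : Subgroup G) : Set G), ∀ a ∈ Cent D, g * a * g⁻¹ ∈ Cent D := by
    intro g hg a ha
    refine mem_centralizer_iff.2 fun w hw => ?_
    have hw' : g⁻¹ * w * g ∈ (D.P : Subgroup G) := by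
      have := (mem_normalizer_iff.1 (inv_mem hg) w).1 hw
      rwa [inv_inv] at this
    have hc : (g⁻¹ * w * g) * a = a * (g⁻¹ * w * g) := mem_centralizer_iff.1 ha _ hw'
    calc w * (g * a * g⁻¹) = g * ((g⁻¹ * w * g) * a) * g⁻¹ := by group
      _ = g * (a * (g⁻¹ * w * g)) * g⁻¹ := by rw [hc]
      _ = g * a * g⁻¹ * w := by group
  intro g hg
  refine mem_normalizer_iff.2 fun a => ⟨key g hg a, fun h => ?_⟩
  have h2 := key g⁻¹ (inv_mem hg) _ h
  rwa [show g⁻¹ * (g * a * g⁻¹) * g⁻¹⁻¹ = a by group] at h2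

/-- Twenty-three Sylow subgroups are too few for an element of order 7 in the centraliser. -/
theorem no_twentythree_sylows (hn : Nat.card (Sylow 11 G) = 23) (h7 : 7 ∣ coSize D) : False := by
  haveI : Fact (Nat.Prime 7) := ⟨by norm_num⟩
  obtain ⟨y, hyC, hy⟩ := exists_mem_cent D h7
  obtain ⟨x, hx, hx1⟩ := D.exists_ne_one
  set S := {Q : Sylow 11 G // y • Q = Q} with hS
  have hdvd : ∀ Q : Sylow 11 G, y • Q = Q → y • (x • Q) = x • Q := fun Q hQ => by
    rw [← mul_smul, ← (commute_mem D hx hyC).eq, mul_smul, hQ]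
  -- the fixed points of `y`
  have h7mod : Nat.card (Sylow 11 G) ≡ Nat.card (MulAction.fixedPoints (zpowers y) (Sylow 11 G))
      [MOD 7] :=
    (IsPGroup.of_card (p := 7) (n := 1) (by rw [Nat.card_zpowers, hy, pow_one])).card_modEq_card_fixedPoints
      (Sylow 11 G)
  set Fy := MulAction.fixedPoints (zpowers y) (Sylow 11 G) with hFy
  have hmemFy : ∀ Q : Sylow 11 G, Q ∈ Fy ↔ y • Q = Q := by
    intro Q
    constructor
    · intro h; exact h ⟨y, mem_zpowers y⟩
    · rintro h ⟨_, ⟨i, rfl⟩⟩
      exact MulAction.mem_stabilizer_iff.1 (zpow_mem (MulAction.mem_stabilizer_iff.2 h :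
        y ∈ MulAction.stabilizer G Q) i)
  have hxFy : ∀ g ∈ zpowers x, ∀ Q ∈ Fy, g • Q ∈ Fy := by
    intro g hg Q hQ
    rw [hmemFy] at hQ ⊢
    have hc : Commute y g := by
      obtain ⟨i, rfl⟩ := hg
      exact ((commute_mem D hx hyC).symm).zpow_right i
    rw [← mul_smul, hc.eq, mul_smul, hQ]
  letI : MulAction (zpowers x) Fy :=
    { smul := fun g Q => ⟨(g : G) • (Q : Sylow 11 G), hxFy g g.2 Q Q.2⟩
      one_smul := fun Q => Subtype.ext (one_smul G (Q : Sylow 11 G))
      mul_smul := fun a b Q => Subtype.ext (mul_smul (a : G) (b : G) (Q : Sylow 11 G)) }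
  have hPfix : y • D.P = D.P := Sylow.smul_eq_iff_mem_normalizer.2 (centralizer_le_normalizer _ hyC)
  have h11mod : Nat.card Fy ≡ Nat.card (MulAction.fixedPoints (zpowers x) Fy) [MOD 11] :=
    (IsPGroup.of_card (p := 11) (n := 1)
      (by rw [Nat.card_zpowers, orderOf_mem D hx hx1, pow_one])).card_modEq_card_fixedPoints Fy
  have hone : Nat.card (MulAction.fixedPoints (zpowers x) Fy) = 1 := by
    refine Nat.card_eq_one_iff_unique.2 ⟨⟨fun a b => ?_⟩, ⟨⟨⟨D.P, (hmemFy _).2 hPfix⟩, fun g => ?_⟩⟩⟩
    · have key : ∀ a : MulAction.fixedPoints (zpowers x) Fy, (a.1 : Sylow 11 G) = D.P := by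
        intro a
        have hfix : x • (a.1 : Sylow 11 G) = a.1 := congrArg Subtype.val (a.2 ⟨x, mem_zpowers x⟩)
        have hxN : x ∈ normalizer ((a.1 : Sylow 11 G) : Set G) := Sylow.smul_eq_iff_mem_normalizer.1 hfix
        have hxQ : x ∈ ((a.1 : Sylow 11 G) : Subgroup G) :=
          (le_of_eq ((IsPGroup.of_card (p := 11) (n := 1)
            (by rw [Nat.card_zpowers, orderOf_mem D hx hx1, pow_one] :
              Nat.card (zpowers x) = 11 ^ 1)).inf_normalizer_sylow (a.1 : Sylow 11 G))
            ⟨mem_zpowers x, hxN⟩).2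
        refine Sylow.ext ?_
        have hzx : zpowers x = (D.P : Subgroup G) := eq_of_le_of_card_ge (zpowers_le.2 hx)
          (by rw [Nat.card_zpowers, orderOf_mem D hx hx1]; exact D.card_P.le)
        have hQc : Nat.card ((a.1 : Sylow 11 G) : Subgroup G) = 11 := by
          rw [Sylow.card_eq_multiplicity, factorization_card D, pow_one]
        rw [← hzx]
        exact (eq_of_le_of_card_ge (zpowers_le.2 hxQ)
          (by rw [Nat.card_zpowers, orderOf_mem D hx hx1, hQc])).symm
      exact Subtype.ext (Subtype.ext ((key a).trans (key b).symm))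
    · refine Subtype.ext ?_
      show (g : G) • D.P = D.P
      refine Sylow.smul_eq_iff_mem_normalizer.2 ?_
      have : (g : G) ∈ (D.P : Subgroup G) := zpowers_le.2 hx g.2
      exact le_normalizer this
  rw [hn] at h7mod
  rw [hone] at h11mod
  have hle : Nat.card Fy ≤ 23 := hn ▸ Nat.card_le_card_of_injective _ Subtype.val_injective
  unfold Nat.ModEq at h7mod h11mod
  have hall : Nat.card Fy = Nat.card (Sylow 11 G) := by
    rw [hn]; omega
  have hker : ∀ Q : Sylow 11 G, y • Q = Q := by
    intro Q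
    have hsurj := (Nat.bijective_iff_injective_and_card (Subtype.val : Fy → Sylow 11 G)).2
      ⟨Subtype.val_injective, hall⟩
    obtain ⟨R, hR⟩ := hsurj.2 Q
    exact (hmemFy Q).1 (hR ▸ R.2)
  set φ := MulAction.toPermHom G (Sylow 11 G) with hφ
  haveI := MonoidHom.normal_ker φ
  have hymem : y ∈ φ.ker := MonoidHom.mem_ker.2 (Equiv.ext fun Q => hker Q)
  rcases (Subgroup.Normal.eq_bot_or_eq_top (inferInstance : φ.ker.Normal)) with e | e
  · rw [e, mem_bot] at hymem
    rw [hymem, orderOf_one] at hy; norm_num at hy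
  · -- then `P` would be normal
    have hnorm : normalizer ((D.P : Subgroup G) : Set G) = ⊤ := by
      refine eq_top_iff.2 fun g _ => ?_
      have hg : g ∈ φ.ker := e ▸ mem_top g
      exact Sylow.smul_eq_iff_mem_normalizer.1 (Equiv.ext_iff.1 (MonoidHom.mem_ker.1 hg) D.P)
    have h1 := Sylow.card_eq_index_normalizer D.P
    rw [hn, show (D.P : Set G) = ((D.P : Subgroup G) : Set G) from rfl, hnorm, index_top] at h1
    norm_num at h1

/-- An element of order 5 in the normaliser and a Sylow subgroup of the centraliser it normalises. -/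
theorem exists_five (h5 : ¬ 5 ∣ coSize D) {q : ℕ} [Fact q.Prime] {M : Subgroup G}
    (hM : M ≤ Cent D) (N' : Subgroup G) (hMN : M ≤ N')
    (hN'M : N' ≤ normalizer (M : Set G)) (h5N : 5 ∣ Nat.card N') (S : Sylow q M) :
    ∃ g ∈ N', orderOf g = 5 ∧
      g ∈ normalizer (((S : Subgroup M).map M.subtype : Subgroup G) : Set G) := by
  haveI : Fact (Nat.Prime 5) := ⟨Nat.prime_five⟩
  obtain ⟨⟨g, hgN⟩, hg⟩ := exists_prime_orderOf_dvd_card' (G := ↥N') 5 h5N
  rw [Subgroup.orderOf_mk] at hg
  refine exists_prime_normalizes hMN hN'M S hgN hg fun hgM => ?_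
  have h := orderOf_dvd_natCard (G := ↥(Cent D)) ⟨g, hM hgM⟩
  rw [Subgroup.orderOf_mk, hg, card_cent D] at h
  rcases Nat.prime_five.dvd_mul.1 h with h | h
  · norm_num at h
  · exact h5 h

end Block

end Cfsg.Agent.H90.MTwentyThree
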