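import Cfsg.Agent.H90.MTwentyThree.Eleven

/-!
With five or ten orbits at 11 and a nontrivial cofactor, some involution centralising the Sylow
subgroup commutes with an element of order 3 or 5.
-/

set_option autoImplicit false
set_option linter.unusedSectionVars false
set_option linter.style.haveILetI false
set_option maxRecDepth 100000

open scoped ComplexConjugate Classical

namespace Cfsg.Agent.H90.MTwentyThree

open CharBasic Subgroup BlockBasic H86 H86.MTwentyTwo

universe u

variable {G : Type u} [Group G] [Fintype G] [IsSimpleGroup G] [hp : Fact (Nat.Prime 11)]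
  (D : SmallExc.PBlk G 11)

/-- An involution centralising `P` with centraliser order divisible by 3 or 5. -/
def GoodInvol : Prop :=
  ∃ z ∈ Cent D, orderOf z = 2 ∧
    (3 ∣ Nat.card (centralizer ({z} : Set G)) ∨ 5 ∣ Nat.card (centralizer ({z} : Set G)))

theorem card_normalizer : Nat.card (normalizer ((D.P : Subgroup G) : Set G)) =
    D.e * Nat.card (Cent D) := by
  have h := relIndex_mul_relIndex (⊥ : Subgroup G) (Cent D)
    (normalizer ((D.P : Subgroup G) : Set G)) bot_le (centralizer_le_normalizer _)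
  rw [relIndex_bot_left, relIndex_bot_left] at h
  rw [← h, mul_comm]
  rfl

/-- A Sylow 2-subgroup of `M` normalised by an element of order 5. -/
theorem good_of_five (h5 : ¬ 5 ∣ coSize D) {M N' : Subgroup G} (hM : M ≤ Cent D) (hMN : M ≤ N')
    (hN'M : N' ≤ normalizer (M : Set G)) (h5N : 5 ∣ Nat.card N') {k m : ℕ}
    (hcard : Nat.card M = 2 ^ k * m) (hm : ¬ 2 ∣ m) (hk : ¬ 5 ∣ 2 ^ k - 1) : GoodInvol D := by
  haveI : Fact (Nat.Prime 2) := ⟨Nat.prime_two⟩
  haveI : Fact (Nat.Prime 5) := ⟨Nat.prime_five⟩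
  let S : Sylow 2 M := default
  have hS : Nat.card S = 2 ^ k := H36.card_sylow_eq hcard S rfl hm
  obtain ⟨g, -, hg, hgS⟩ := exists_five D h5 hM N' hMN hN'M h5N S
  set S' : Subgroup G := (S : Subgroup M).map M.subtype with hS'
  have hS'c : Nat.card S' = 2 ^ k := by
    rw [hS', ← Nat.card_congr (equivMapOfInjective _ _ M.subtype_injective).toEquiv, hS]
  obtain ⟨u, hu, hu1, hc⟩ := exists_commute_of_normalizes (r := 5)
    (by rw [← hg, pow_orderOf_eq_one]) hgS (hS'c.symm ▸ hk)
  obtain ⟨z, hzS, hz, hcz⟩ := exists_prime_order_commute (q := 2)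
    (IsPGroup.of_card (n := k) hS'c) hu hu1 hc
  refine ⟨z, hM (map_subtype_le _ hzS), hz, Or.inr ?_⟩
  rw [← hg]
  exact orderOf_dvd_natCard _ (mem_centralizer_singleton_iff.2 hcz.eq)

/-- An element of order a power of 2 commuting with a nonidentity 3-element. -/
theorem good_of_three {S Q : Subgroup G} (hS : S ≤ Cent D) (hS2 : IsPGroup 2 S)
    (hQ3 : IsPGroup 3 Q) {s q : G} (hs : s ∈ S) (hq : q ∈ Q) (hs1 : s ≠ 1) (hq1 : q ≠ 1)
    (hc : Commute q s) : GoodInvol D := by
  haveI : Fact (Nat.Prime 2) := ⟨Nat.prime_two⟩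
  haveI : Fact (Nat.Prime 3) := ⟨Nat.prime_three⟩
  obtain ⟨z, hzS, hz, hcz⟩ := exists_prime_order_commute (q := 2) hS2 hs hs1 hc
  obtain ⟨w, hwQ, hw, hcw⟩ := exists_prime_order_commute (q := 3) hQ3 hq hq1 hcz.symm
  refine ⟨z, hS hzS, hz, Or.inl ?_⟩
  rw [← hw]
  exact orderOf_dvd_natCard _ (mem_centralizer_singleton_iff.2 hcw.symm.eq)

theorem normalizer_inf_le {A B : Subgroup G} {H K : Subgroup G} (hA : H ≤ normalizer (A : Set G))
    (hB : K ≤ normalizer (B : Set G)) : H ⊓ K ≤ normalizer ((A ⊓ B : Subgroup G) : Set G) := by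
  intro g hg
  refine mem_normalizer_iff.2 fun a => ?_
  simp only [SetLike.mem_coe, mem_inf]
  exact and_congr (mem_normalizer_iff.1 (hA hg.1) a) (mem_normalizer_iff.1 (hB hg.2) a)

/-- The part of the centraliser normalising a Sylow subgroup of it. -/
theorem sylow_setup (h5 : ¬ 5 ∣ coSize D) (he : 5 ∣ D.e) {q : ℕ} [Fact q.Prime]
    (S : Sylow q (Cent D)) :
    ∃ M N' : Subgroup G, M ≤ Cent D ∧ M ≤ N' ∧ N' ≤ normalizer (M : Set G) ∧ 5 ∣ Nat.card N' ∧
      M = normalizer (((S : Subgroup (Cent D)).map (Cent D).subtype : Subgroup G) : Set G) ⊓ Cent D ∧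
      N' ≤ normalizer (((S : Subgroup (Cent D)).map (Cent D).subtype : Subgroup G) : Set G) ∧
      Nat.card M * Nat.card (Sylow q (Cent D)) = Nat.card (Cent D) := by
  haveI : Fact (Nat.Prime 5) := ⟨Nat.prime_five⟩
  set S' : Subgroup G := (S : Subgroup (Cent D)).map (Cent D).subtype with hS'
  set NP := normalizer ((D.P : Subgroup G) : Set G) with hNP
  obtain ⟨g, hgN, hg, hgS⟩ := exists_five D h5 le_rfl NP (centralizer_le_normalizer _)
    (normalizer_le_normalizer_cent D) (by rw [card_normalizer D]; exact he.mul_right _) S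
  refine ⟨normalizer (S' : Set G) ⊓ Cent D, normalizer (S' : Set G) ⊓ NP, inf_le_right,
    inf_le_inf_left _ (centralizer_le_normalizer _),
    normalizer_inf_le le_normalizer (normalizer_le_normalizer_cent D), ?_, rfl, inf_le_left, ?_⟩
  · rw [← hg]
    exact orderOf_dvd_natCard _ (mem_inf.2 ⟨hgS, hgN⟩)
  · have he' : (normalizer (S' : Set G) ⊓ Cent D).subgroupOf (Cent D) =
        normalizer (S : Set (Cent D)) := by
      rw [inf_subgroupOf_right, show (S : Set (Cent D)) = ((S : Subgroup (Cent D)) : Set (Cent D)) from rfl,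
        show (S : Subgroup (Cent D)) = S'.subgroupOf (Cent D) from
          (comap_map_eq_self_of_injective (Cent D).subtype_injective _).symm,
        subgroupOf_normalizer_eq (map_subtype_le _)]
    rw [← Nat.card_congr (subgroupOfEquivOfLe inf_le_right).toEquiv, he',
      Sylow.card_eq_index_normalizer S, card_mul_index]

/-- Order 144. -/
theorem good_144 (h5 : ¬ 5 ∣ coSize D) (he : 5 ∣ D.e) (hL : coSize D = 144) : GoodInvol D := by
  haveI : Fact (Nat.Prime 2) := ⟨Nat.prime_two⟩
  haveI : Fact (Nat.Prime 3) := ⟨Nat.prime_three⟩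
  have hC : Nat.card (Cent D) = 1584 := by rw [card_cent D, hL]
  let Q : Sylow 3 (Cent D) := default
  let S : Sylow 2 (Cent D) := default
  have hQ : Nat.card Q = 9 := H36.card_sylow_eq hC Q (a := 2) (m := 176) rfl (by norm_num)
  have hS : Nat.card S = 16 := H36.card_sylow_eq hC S (a := 4) (m := 99) rfl (by norm_num)
  obtain ⟨M, N', hM, hMN, hN'M, h5N, hMdef, -, hcard⟩ := sylow_setup D h5 he Q
  set Q' : Subgroup G := (Q : Subgroup (Cent D)).map (Cent D).subtype with hQ'
  set S' : Subgroup G := (S : Subgroup (Cent D)).map (Cent D).subtype with hS'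
  have hQ'c : Nat.card Q' = 9 := by
    rw [hQ', ← Nat.card_congr (equivMapOfInjective _ _ (Cent D).subtype_injective).toEquiv, hQ]
  have hS'c : Nat.card S' = 16 := by
    rw [hS', ← Nat.card_congr (equivMapOfInjective _ _ (Cent D).subtype_injective).toEquiv, hS]
  have hQ3 : IsPGroup 3 Q' := IsPGroup.of_card (n := 2) hQ'c
  have hS2 : IsPGroup 2 S' := IsPGroup.of_card (n := 4) hS'c
  have hPc : (D.P : Subgroup G) ≤ M := by
    rw [hMdef]
    refine le_inf (fun a ha => ?_) (le_cent D)
    refine centralizer_le_normalizer _ (mem_centralizer_iff.2 fun b hb => ?_)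
    exact ((commute_mem D ha (map_subtype_le _ hb)).eq).symm
  have h11 : 11 ∣ Nat.card M := by
    have := card_dvd_of_le hPc
    rwa [show Nat.card (D.P : Subgroup G) = 11 from D.card_P] at this
  set d := Nat.card (Sylow 3 (Cent D)) with hd
  have hd3 : d % 3 = 1 := Eq.trans (card_sylow_modEq_one 3 (Cent D)) (by norm_num)
  have h9 : 9 ∣ Nat.card M := by
    rw [← hQ'c]
    exact card_dvd_of_le (hMdef ▸ le_inf le_normalizer (map_subtype_le _))
  obtain ⟨m, hm⟩ := Nat.Coprime.mul_dvd_of_dvd_of_dvd (by norm_num) h9 h11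
  have hmd : m * d = 16 := by
    rw [hm, hC] at hcard
    nlinarith
  have hd16 : d ∈ Nat.divisors 16 := Nat.mem_divisors.2 ⟨⟨m, by rw [← hmd, mul_comm]⟩, by norm_num⟩
  rw [show Nat.divisors 16 = {1, 2, 4, 8, 16} by decide] at hd16
  simp only [Finset.mem_insert, Finset.mem_singleton] at hd16
  rcases (show d = 1 ∨ d = 4 ∨ d = 16 by omega) with h | h | h
  · -- `Q` is normalised by a Sylow 2-subgroup
    have hMC : M = Cent D := eq_of_le_of_card_ge hM (by rw [h, mul_one] at hcard; rw [hcard])
    have hle : S' ≤ normalizer (Q' : Set G) := fun a ha =>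
      (mem_inf.1 ((hMdef ▸ hMC ▸ map_subtype_le _ ha : a ∈ normalizer (Q' : Set G) ⊓ Cent D))).1
    obtain ⟨s, hs, u, hu, hs1, hu1, hc⟩ := exists_commute_of_card_lt hle (by omega) (by omega)
    exact good_of_three D (map_subtype_le _) hS2 hQ3 hs hu hs1 hu1 hc.symm
  · rw [h] at hmd
    exact good_of_five D h5 hM hMN hN'M h5N (k := 2) (m := 99)
      (by rw [hm]; omega) (by norm_num) (by norm_num)
  · rw [h] at hmd
    have hM99 : Nat.card M = 99 := by rw [hm]; omega
    -- `M` centralises `Q`
    haveI hQab : IsMulCommutative Q' := IsPGroup.isMulCommutative_of_card_eq_prime_sq (p := 3) (by rw [hQ'c]; norm_num)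
    have hMQ : M ≤ centralizer (Q' : Set G) := by
      have hsup : Q' ⊔ (D.P : Subgroup G) ≤ centralizer (Q' : Set G) := by
        refine sup_le (fun a ha => mem_centralizer_iff.2 fun b hb => ?_) fun a ha => ?_
        · exact congrArg Subtype.val (mul_comm' (⟨b, hb⟩ : Q') ⟨a, ha⟩)
        · refine mem_centralizer_iff.2 fun b hb => ?_
          exact ((commute_mem D ha (map_subtype_le _ hb)).eq).symm
      have hle : Q' ⊔ (D.P : Subgroup G) ≤ M :=
        sup_le (hMdef ▸ le_inf le_normalizer (map_subtype_le _)) hPc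
      have hd9 : 9 ∣ Nat.card ↥(Q' ⊔ (D.P : Subgroup G)) := hQ'c ▸ card_dvd_of_le le_sup_left
      have hd11 : 11 ∣ Nat.card ↥(Q' ⊔ (D.P : Subgroup G)) :=
        (show Nat.card (D.P : Subgroup G) = 11 from D.card_P).symm.dvd.trans (card_dvd_of_le le_sup_right)
      have := Nat.le_of_dvd Nat.card_pos
        (Nat.Coprime.mul_dvd_of_dvd_of_dvd (by norm_num) hd9 hd11)
      rw [← eq_of_le_of_card_ge hle (by rw [hM99]; omega)]
      exact hsup
    have hNC : normalizer (Q : Set (Cent D)) ≤ centralizer (Q : Set (Cent D)) := by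
      intro a ha
      have haM : (a : G) ∈ M := by
        rw [hMdef]
        refine mem_inf.2 ⟨?_, a.2⟩
        have he' : (normalizer (Q' : Set G)).subgroupOf (Cent D) = normalizer (Q : Set (Cent D)) := by
          rw [show (Q : Set (Cent D)) = ((Q : Subgroup (Cent D)) : Set (Cent D)) from rfl,
            show (Q : Subgroup (Cent D)) = Q'.subgroupOf (Cent D) from
              (comap_map_eq_self_of_injective (Cent D).subtype_injective _).symm,
            subgroupOf_normalizer_eq (map_subtype_le _)]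
        exact mem_subgroupOf.1 (he'.symm ▸ ha)
      refine mem_centralizer_iff.2 fun b hb => Subtype.ext ?_
      exact mem_centralizer_iff.1 (hMQ haM) b ⟨b, hb, rfl⟩
    set K := (MonoidHom.transferSylow Q hNC).ker with hK
    have hcompl := MonoidHom.ker_transferSylow_isComplement' Q hNC
    have hKc : Nat.card K = 176 := by
      have := hcompl.card_mul_card
      rw [hQ, hC] at this
      rw [hK]; omega
    haveI hKn : K.Normal := MonoidHom.normal_ker _
    have hKindex : K.index = 9 := by
      have h := K.card_mul_index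
      rw [hKc, hC] at h
      omega
    have hSK : ∀ a ∈ (S : Subgroup (Cent D)), a ∈ K := by
      intro a ha
      rw [← QuotientGroup.eq_one_iff (N := K) a, ← orderOf_eq_one_iff]
      have h1 : orderOf (a : (Cent D) ⧸ K) ∣ 9 := by
        rw [← hKindex, Subgroup.index_eq_card]; exact orderOf_dvd_natCard _
      have h2 : orderOf (a : (Cent D) ⧸ K) ∣ 16 := by
        refine (orderOf_map_dvd (QuotientGroup.mk' K) a).trans ?_
        have := orderOf_dvd_natCard (G := (S : Subgroup (Cent D))) ⟨a, ha⟩
        rw [Subgroup.orderOf_mk, hS] at this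
        exact this
      exact Nat.dvd_one.1 (show _ ∣ Nat.gcd 9 16 from Nat.dvd_gcd h1 h2)
    set PC := (D.P : Subgroup G).subgroupOf (Cent D) with hPC
    have hPCc : Nat.card PC = 11 := by
      rw [hPC, Nat.card_congr (subgroupOfEquivOfLe (le_cent D)).toEquiv]; exact D.card_P
    haveI hPCn : PC.Normal := ⟨fun a ha b => by
      rw [hPC, mem_subgroupOf] at ha ⊢
      have hc := (commute_mem D ha b.2).eq
      rw [Subgroup.coe_mul, Subgroup.coe_mul, Subgroup.coe_inv, ← hc, mul_inv_cancel_right]
      exact ha⟩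
    have hPK : ∀ a ∈ PC, a ∈ K := by
      intro a ha
      rw [← QuotientGroup.eq_one_iff (N := K) a, ← orderOf_eq_one_iff]
      have h1 : orderOf (a : (Cent D) ⧸ K) ∣ 9 := by
        rw [← hKindex, Subgroup.index_eq_card]; exact orderOf_dvd_natCard _
      have h2 : orderOf (a : (Cent D) ⧸ K) ∣ 11 := by
        refine (orderOf_map_dvd (QuotientGroup.mk' K) a).trans ?_
        have := orderOf_dvd_natCard (G := PC) ⟨a, ha⟩
        rw [Subgroup.orderOf_mk, hPCc] at this
        exact this
      exact Nat.dvd_one.1 (show _ ∣ Nat.gcd 9 11 from Nat.dvd_gcd h1 h2)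
    have hKeq : (S : Subgroup (Cent D)) ⊔ PC = K := by
      refine eq_of_le_of_card_ge (sup_le hSK hPK) ?_
      have hd16 : 16 ∣ Nat.card ↥((S : Subgroup (Cent D)) ⊔ PC) := hS ▸ card_dvd_of_le le_sup_left
      have hd11 : 11 ∣ Nat.card ↥((S : Subgroup (Cent D)) ⊔ PC) :=
        hPCc.symm.dvd.trans (card_dvd_of_le le_sup_right)
      have := Nat.le_of_dvd Nat.card_pos
        (Nat.Coprime.mul_dvd_of_dvd_of_dvd (by norm_num) hd16 hd11)
      omega
    have hconj : ∀ (w a : Cent D), a ∈ (S : Subgroup (Cent D)) →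
        w * a * w⁻¹ ∈ (S : Subgroup (Cent D)) := by
      intro w a ha
      have hb := hKn.conj_mem a (hSK a ha) w
      rw [← hKeq, mem_sup_of_normal_right] at hb
      obtain ⟨s, hs, t, ht, hst⟩ := hb
      have ht' : (t : G) ∈ (D.P : Subgroup G) := mem_subgroupOf.1 ht
      have hcomm : Commute s t := Subtype.ext ((commute_mem D ht' s.2).eq).symm
      have hp16 : ∀ b ∈ (S : Subgroup (Cent D)), b ^ 16 = 1 := fun b hb => by
        have := pow_card_eq_one' (G := (S : Subgroup (Cent D))) (x := ⟨b, hb⟩)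
        rw [hS] at this
        exact congrArg Subtype.val this
      have h16 : (w * a * w⁻¹) ^ 16 = 1 := by rw [conj_pow, hp16 a ha, mul_one, mul_inv_cancel]
      rw [← hst, hcomm.mul_pow, hp16 s hs, one_mul] at h16
      have h11' : t ^ 11 = 1 := by
        have := pow_card_eq_one' (G := PC) (x := ⟨t, ht⟩)
        rw [hPCc] at this
        exact congrArg Subtype.val this
      have ht1 : t = 1 := by
        have := pow_gcd_eq_one.2 ⟨h16, h11'⟩
        rwa [show Nat.gcd 16 11 = 1 from rfl, pow_one] at this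
      rw [← hst, ht1, mul_one]
      exact hs
    have hQS : Q' ≤ normalizer (S' : Set G) := by
      rintro _ ⟨w, -, rfl⟩
      refine mem_normalizer_iff.2 fun b => ⟨?_, ?_⟩
      · rintro ⟨a, ha, rfl⟩
        exact ⟨_, hconj w a ha, by simp⟩
      · rintro ⟨a, ha, hab⟩
        refine ⟨_, hconj w⁻¹ a ha, ?_⟩
        simp only [Subgroup.subtype_apply, Subgroup.coe_mul, Subgroup.coe_inv] at hab ⊢
        rw [hab]; group
    obtain ⟨q, hq, s, hs, hq1, hs1, hc⟩ := exists_commute_of_not_dvd hQS (by rw [hQ'c, hS'c]; norm_num)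
    exact good_of_three D (map_subtype_le _) hS2 hQ3 hs hq hs1 hq1 hc

/-- Order 336. -/
theorem good_336 (hG : IsM23 G) (h5 : ¬ 5 ∣ coSize D) (he : D.e = 10) (hL : coSize D = 336) :
    GoodInvol D := by
  haveI : Finite G := finite_of_isM23 hG
  haveI : Fact (Nat.Prime 7) := ⟨by norm_num⟩
  have hC : Nat.card (Cent D) = 3696 := by rw [card_cent D, hL]
  let W : Sylow 7 (Cent D) := default
  have hW : Nat.card W = 7 := by
    rw [H36.card_sylow_eq hC W (a := 1) (m := 528) rfl (by norm_num), pow_one]
  obtain ⟨M, N', hM, hMN, hN'M, h5N, hMdef, hN'W, hcard⟩ := sylow_setup D h5 (by rw [he]; norm_num) W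
  set W' : Subgroup G := (W : Subgroup (Cent D)).map (Cent D).subtype with hW'
  have hW'c : Nat.card W' = 7 := by
    rw [hW', ← Nat.card_congr (equivMapOfInjective _ _ (Cent D).subtype_injective).toEquiv, hW]
  have hPc : (D.P : Subgroup G) ≤ M := by
    rw [hMdef]
    refine le_inf (fun a ha => ?_) (le_cent D)
    refine centralizer_le_normalizer _ (mem_centralizer_iff.2 fun b hb => ?_)
    exact ((commute_mem D ha (map_subtype_le _ hb)).eq).symm
  have h11 : 11 ∣ Nat.card M := by
    have := card_dvd_of_le hPc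
    rwa [show Nat.card (D.P : Subgroup G) = 11 from D.card_P] at this
  have h7 : 7 ∣ Nat.card M := by
    rw [← hW'c]
    exact card_dvd_of_le (hMdef ▸ le_inf le_normalizer (map_subtype_le _))
  obtain ⟨m, hm⟩ := Nat.Coprime.mul_dvd_of_dvd_of_dvd (by norm_num) h7 h11
  set d := Nat.card (Sylow 7 (Cent D)) with hd
  have hd7 : d % 7 = 1 := Eq.trans (card_sylow_modEq_one 7 (Cent D)) (by norm_num)
  have hmd : m * d = 48 := by
    rw [hm, hC] at hcard
    nlinarith
  have hd48 : d ∈ Nat.divisors 48 := Nat.mem_divisors.2 ⟨⟨m, by rw [← hmd, mul_comm]⟩, by norm_num⟩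
  rw [show Nat.divisors 48 = {1, 2, 3, 4, 6, 8, 12, 16, 24, 48} by decide] at hd48
  simp only [Finset.mem_insert, Finset.mem_singleton] at hd48
  rcases (show d = 1 ∨ d = 8 by omega) with h | h
  · exfalso
    have hMC : M = Cent D := eq_of_le_of_card_ge hM (by rw [h, mul_one] at hcard; rw [hcard])
    have hle : normalizer ((D.P : Subgroup G) : Set G) ≤ normalizer (W' : Set G) := by
      intro g hg
      obtain ⟨c, hc, hcg⟩ := exists_mul_normalizes W (normalizer_le_normalizer_cent D hg)
      have hcW : c ∈ normalizer (W' : Set G) :=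
        (mem_inf.1 ((hMdef ▸ hMC ▸ hc : c ∈ normalizer (W' : Set G) ⊓ Cent D))).1
      have := mul_mem (inv_mem hcW) hcg
      rwa [inv_mul_cancel_left] at this
    obtain ⟨hprod, -⟩ := sylow_arith D (m := 927360) (by rw [card_eq hG]; rfl)
    rw [he, hL] at hprod
    have hn : Nat.card (Sylow 11 G) = 276 := by omega
    set r := (normalizer ((D.P : Subgroup G) : Set G)).relIndex (normalizer (W' : Set G)) with hr
    have hr1 : r % 11 = 1 := relIndex_normalizer_mod D.P _ hle
    have hmul : r * (normalizer (W' : Set G)).index = 276 := by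
      rw [hr, relIndex_mul_index hle, show ((D.P : Subgroup G) : Set G) = (D.P : Set G) from rfl,
        ← Sylow.card_eq_index_normalizer, hn]
    obtain ⟨R, hR⟩ := (IsPGroup.of_card (p := 7) (n := 1) (by rw [hW'c, pow_one])).exists_le_sylow
    have hRc : Nat.card R = 7 := by
      rw [H36.card_sylow_eq (card_eq hG) R (a := 1) (m := 1457280) (by norm_num [Search.N])
        (by norm_num), pow_one]
    have hRW : W' = (R : Subgroup G) := eq_of_le_of_card_ge hR (by rw [hW'c, hRc])
    have hn7 : (normalizer (W' : Set G)).index % 7 = 1 := by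
      rw [hRW, show ((R : Subgroup G) : Set G) = (R : Set G) from rfl,
        ← Sylow.card_eq_index_normalizer]
      exact Eq.trans (card_sylow_modEq_one 7 G) (by norm_num)
    have hne1 : (normalizer (W' : Set G)).index ≠ 1 := by
      intro h1
      rw [index_eq_one, normalizer_eq_top_iff] at h1
      rcases h1.eq_bot_or_eq_top with e | e
      · rw [e, card_bot] at hW'c; norm_num at hW'c
      · rw [e, card_top, card_eq hG] at hW'c; norm_num [Search.N] at hW'c
    set n7 := (normalizer (W' : Set G)).index with hn7'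
    have hmem : n7 ∈ Search.divProd [4, 3, 23] := Search.mem_divProd _ (by simp) _ ⟨r, by
      simp only [List.prod_cons, List.prod_nil]; rw [mul_comm n7 r, hmul]; norm_num⟩
    have hchk := List.all_eq_true.1 seven_index276 n7 hmem
    have hdiv : 276 / n7 = r := Nat.div_eq_of_eq_mul_left (by omega) hmul.symm
    simp [hn7, hdiv, hr1, hne1] at hchk
  · rw [h] at hmd
    exact good_of_five D h5 hM hMN hN'M h5N (k := 1) (m := 231)
      (by rw [hm]; omega) (by norm_num) (by norm_num)

/-- The good involution. -/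
theorem good_invol (hG : IsM23 G) (he : D.e = 5 ∨ D.e = 10) (hL : coSize D ≠ 1) :
    GoodInvol D := by
  haveI : Finite G := finite_of_isM23 hG
  haveI : Fact (Nat.Prime 23) := ⟨by norm_num⟩
  obtain ⟨D23⟩ := exists_blk hG 23 (m := 443520) rfl (by norm_num)
  obtain ⟨hprod, hn1⟩ := sylow_arith D (m := 927360) (by rw [card_eq hG]; rfl)
  obtain ⟨x, hx, hx1⟩ := D.exists_ne_one
  have h23 : ¬ 23 ∣ coSize D := by
    intro h
    refine not_dvd_centralizer hG (q := 11) (y := x) (by norm_num) (by norm_num)
      (orderOf_mem D hx hx1) ?_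
    rw [centralizer_mem D hx hx1, card_cent D]
    exact h.mul_left _
  set n := Nat.card (Sylow 11 G) with hn
  set L := coSize D with hLdef
  have hmod : (D.e * L) % 11 = 5 := by
    have h : (n * (D.e * L)) % 11 = 927360 % 11 := by rw [← mul_assoc, hprod]
    rw [Nat.mul_mod, hn1, one_mul, Nat.mod_mod] at h
    exact h
  have hdvd : D.e * L ∣ 40320 := by
    have h1 : D.e * L ∣ 40320 * 23 := ⟨n, by nlinarith⟩
    refine Nat.Coprime.dvd_of_dvd_mul_right ?_ h1
    refine (Nat.Prime.coprime_iff_not_dvd (by norm_num)).2 ?_ |>.symm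
    intro hd
    rcases (show Nat.Prime 23 by norm_num).dvd_mul.1 hd with hd | hd
    · rcases he with e | e <;> rw [e] at hd <;> norm_num at hd
    · exact h23 hd
  have hC : Nat.card (Cent D) = 11 * L := card_cent D
  have gen : ∀ (k m : ℕ), 11 * L = 2 ^ k * m → ¬ 2 ∣ m → ¬ 5 ∣ 2 ^ k - 1 → ¬ 5 ∣ L → GoodInvol D :=
    fun k m hkm hm hk h5 => good_of_five D h5 le_rfl (centralizer_le_normalizer _)
      (normalizer_le_normalizer_cent D)
      (by rw [card_normalizer D]; exact Dvd.dvd.mul_right (by rcases he with e | e <;> rw [e] <;> norm_num) _)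
      (hC.trans hkm) hm hk
  rcases he with he | he
  · rw [he] at hmod hdvd hprod
    have hmem : L ∈ Search.divProd [128, 9, 7] := Search.mem_divProd _ (by simp) _ (by
      simp only [List.prod_cons, List.prod_nil]
      exact Nat.dvd_of_mul_dvd_mul_left (show 0 < 5 by norm_num) (by simpa using hdvd))
    have h := List.all_eq_true.1 five_coSize11 L hmem
    have hm1 : L % 11 = 1 := by omega
    simp [hm1] at h
    rcases h with h | h | h | h | h | h
    · exact absurd h hL
    · exact gen 2 33 (by omega) (by norm_num) (by norm_num) (by omega)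
    · exact gen 3 77 (by omega) (by norm_num) (by norm_num) (by omega)
    · exact good_144 D (show ¬ 5 ∣ coSize D by omega) (by rw [he]) h
    · exact gen 5 231 (by omega) (by norm_num) (by norm_num) (by omega)
    · exact (no_twentythree_sylows D (show n = 23 by rw [h] at hprod; omega)
        (show 7 ∣ coSize D by omega)).elim
  · rw [he] at hmod hdvd hprod
    have hmem : L ∈ Search.divProd [64, 9, 7] := Search.mem_divProd _ (by simp) _ (by
      simp only [List.prod_cons, List.prod_nil]
      exact Nat.dvd_of_mul_dvd_mul_left (show 0 < 10 by norm_num) (by simpa using hdvd))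
    have h := List.all_eq_true.1 ten_coSize11 L hmem
    have hm1 : L % 11 = 6 := by omega
    simp [hm1] at h
    rcases h with h | h | h | h | h
    · exact gen 1 33 (by omega) (by norm_num) (by norm_num) (by omega)
    · exact gen 2 77 (by omega) (by norm_num) (by norm_num) (by omega)
    · exact gen 3 99 (by omega) (by norm_num) (by norm_num) (by omega)
    · exact good_336 D hG (show ¬ 5 ∣ coSize D by omega) he h
    · exact (no_twentythree_sylows D (show n = 23 by rw [h] at hprod; omega)
        (show 7 ∣ coSize D by omega)).elim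

end Cfsg.Agent.H90.MTwentyThree
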