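import Cfsg.Agent.H90.MTwentyThree.ElevenInvolution

/-!
In a simple group of order 10200960 a Sylow 11-subgroup is self-centralising, with five orbits.
-/

set_option autoImplicit false
set_option linter.unusedSectionVars false
set_option linter.style.haveILetI false
set_option maxRecDepth 100000

open scoped ComplexConjugate Classical

namespace Cfsg.Agent.H90.MTwentyThree

open CharBasic Subgroup BlockBasic H86 H86.MTwentyTwo

universe u

theorem small11_degs : (Search.degs11.all fun F => !(F == -45)) = true := by decide +kernel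

theorem gval_degs5 : (Search.degs11.all fun F => F == 45 || !(Search.gval F == 0) ||
    Search.degs5.contains F) = true := by decide +kernel

theorem gval_160 : Search.gval (-160) = 1 := by decide +kernel

variable {G : Type u} [Group G] [Fintype G] [IsSimpleGroup G] [hp : Fact (Nat.Prime 11)]
  (D : SmallExc.PBlk G 11)

/-- A character of degree 45 has no value congruent to `1` modulo 11 at such an involution. -/
theorem no_fortyfive (hG : IsM23 G) {z : G} (hz : orderOf z = 2)
    (h35 : 3 ∣ Nat.card (centralizer ({z} : Set G)) ∨ 5 ∣ Nat.card (centralizer ({z} : Set G)))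
    {χ : IrrCharacter G} (hd : deg χ = 45) {v : ℤ} (hv : (χ : G → ℂ) z = v)
    (hv11 : v ≡ 1 [ZMOD 11]) : False := by
  obtain ⟨w, hw, -, hwr⟩ := exists_vals hG hz
  have hwv : w χ = v := by
    have := hw χ
    rw [hv] at this
    exact_mod_cast this.symm
  have hne : χ ≠ trivialIrr := fun e => by
    rw [e] at hd
    have h1 : deg (trivialIrr : IrrCharacter G) = 1 := by
      refine H84.charDegree_of_eq ?_
      simp [trivialIrr]
    omega
  obtain ⟨h4, hlo, hhi⟩ := hwr χ hne
  rw [hwv, hd] at h4 hlo hhi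
  push_cast at h4 hlo hhi
  have h1 := Int.modEq_iff_dvd.1 hv11
  have hdvd := dvd_index_mul χ hv
  rw [show charDegree (χ : G → ℂ) = 45 from hd] at hdvd
  set h := (centralizer ({z} : Set G)).index with hh
  set c := Nat.card (centralizer ({z} : Set G)) with hc
  have hch : c * h = Search.N := card_eq hG ▸ (centralizer ({z} : Set G)).card_mul_index
  have hv1 : v = 1 ∨ v = -43 := by omega
  rcases h35 with h3 | h5
  · obtain ⟨k, hk⟩ := h3
    have h9 : ¬ 9 ∣ h := by
      rintro ⟨j, hj⟩
      rw [hk, hj] at hch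
      have : 27 ∣ Search.N := ⟨k * j, by rw [← hch]; ring⟩
      norm_num [Search.N] at this
    refine h9 (Int.natCast_dvd_natCast.1 ?_)
    have h9' : (9 : ℤ) ∣ (h : ℤ) * v := dvd_trans ⟨5, by norm_num⟩ hdvd
    rcases hv1 with e | e <;> rw [e] at h9' <;> push_cast <;> omega
  · obtain ⟨k, hk⟩ := h5
    have h5' : ¬ 5 ∣ h := by
      rintro ⟨j, hj⟩
      rw [hk, hj] at hch
      have : 25 ∣ Search.N := ⟨k * j, by rw [← hch]; ring⟩
      norm_num [Search.N] at this
    refine h5' (Int.natCast_dvd_natCast.1 ?_)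
    have h5'' : (5 : ℤ) ∣ (h : ℤ) * v := dvd_trans ⟨9, by norm_num⟩ hdvd
    rcases hv1 with e | e <;> rw [e] at h5'' <;> push_cast <;> omega

/-- The relation at an element of order 23. -/
theorem gval_rel (hG : IsM23 G) [Fact (Nat.Prime 23)] (D23 : SmallExc.PBlk G 23)
    (hX : ∀ χ ∈ D.X, deg χ % 23 = 0 ∨ deg χ % 23 = 1 ∨ deg χ % 23 = 22) {θ : IrrCharacter G}
    (hθ : θ ∈ D.Y) :
    (deg θ % 23 = 0 ∨ deg θ % 23 = 1 ∨ deg θ % 23 = 22) ∧
      Search.gval (D.ε * (deg θ : ℤ)) = 1 + ((signedX D).map Search.gval).sum := by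
  obtain ⟨x, hx, hx1⟩ := D23.exists_ne_one
  have hxreg : ¬ 11 ∣ orderOf x := by rw [orderOf_mem D23 hx hx1]; norm_num
  have hrel := D.rel θ hθ x hxreg
  have hval : ∀ χ ∈ D.X, (D.εX χ : ℂ) * (χ : G → ℂ) x =
      ((Search.gval (D.εX χ * (deg χ : ℤ)) : ℤ) : ℂ) := fun χ hχ => by
    rw [val23 D23 hG hx hx1 (hX χ hχ), gval_sign_mul (D.sign χ hχ) (charDegree_pos χ)]
    push_cast; rfl
  rw [Finset.sum_congr rfl hval, ← Int.cast_sum] at hrel
  set S := ∑ χ ∈ D.X, Search.gval (D.εX χ * (deg χ : ℤ)) with hS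
  have hεsq : D.ε * D.ε = 1 := by rcases D.hε with e | e <;> simp [e]
  have hεC : (D.ε : ℂ) * (D.ε : ℂ) = 1 := by exact_mod_cast hεsq
  have hn : (θ : G → ℂ) x = ((D.ε * S : ℤ) : ℂ) := by
    push_cast
    linear_combination (D.ε : ℂ) * hrel - (θ : G → ℂ) x * hεC
  have hr := res23_of_int D23 hG hx hx1 hn
  refine ⟨hr, ?_⟩
  have hn2 := val23 D23 hG hx hx1 hr
  rw [hn] at hn2
  have hxv : D.ε * S = Search.xval (deg θ) := by exact_mod_cast hn2
  rw [gval_sign_mul D.hε (charDegree_pos θ), ← hxv, ← mul_assoc, hεsq, one_mul, hS,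
    ← Finset.add_sum_erase _ _ D.trivX, SmallExc.PBlk.εX_triv D, signedX, List.map_map,
    Finset.sum_map_toList]
  congr 1
  show Search.gval (1 * ((deg (trivialIrr : IrrCharacter G) : ℕ) : ℤ)) = 1
  rw [show deg (trivialIrr : IrrCharacter G) = 1 from SmallExc.PBlk.charDegree_triv D]
  rfl

set_option maxHeartbeats 800000 in
/-- A Sylow 11-subgroup is self-centralising with five orbits. -/
theorem eleven (hG : IsM23 G) : Cent D = (D.P : Subgroup G) ∧ D.e = 5 := by
  haveI : Finite G := finite_of_isM23 hG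
  haveI : Fact (Nat.Prime 23) := ⟨by norm_num⟩
  obtain ⟨D23⟩ := exists_blk hG 23 (m := 443520) rfl (by norm_num)
  have hna := not_comm hG
  obtain ⟨hprod, hn1⟩ := sylow_arith D (m := 927360) (by rw [card_eq hG]; rfl)
  set n := Nat.card (Sylow 11 G) with hn
  have hdiv : D.e ∈ Nat.divisors 10 := Nat.mem_divisors.2 ⟨D.e_dvd, by norm_num⟩
  have he : D.e = 1 ∨ D.e = 2 ∨ D.e = 5 ∨ D.e = 10 := by
    rw [show Nat.divisors 10 = {1, 2, 5, 10} by decide] at hdiv
    simpa using hdiv
  have hmod : (D.e * coSize D) % 11 = 5 := by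
    have h : (n * (D.e * coSize D)) % 11 = 927360 % 11 := by rw [← mul_assoc, hprod]
    rw [Nat.mul_mod, hn1, one_mul, Nat.mod_mod] at h
    exact h
  rcases he with he | he | he
  · exfalso
    obtain ⟨L, T, hlen, -, hT2, -, -, -, hsum, -, -⟩ :=
      H36.BlockDegree.exists_data hna D.P D.card_P (r := D.e) rfl (card_cent D)
    rw [he] at hlen
    have : L = [] := List.length_eq_zero_iff.1 (by omega)
    rw [this, List.sum_nil, add_zero] at hsum
    rw [← hsum] at hT2
    norm_num at hT2
  · exfalso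
    exact no_two D hG D23 he fun h => by rw [he, h] at hmod; norm_num at hmod
  by_cases hL : coSize D = 1
  · refine ⟨cent_eq_of_coSize D hL, ?_⟩
    rw [hL, mul_one] at hmod
    omega
  exfalso
  obtain ⟨z, hzC, hz, h35⟩ := good_invol D hG he hL
  obtain ⟨v, hv, hv1, hvr⟩ := exists_vals hG hz
  have hzreg : ¬ 11 ∣ orderOf z := by rw [hz]; norm_num
  obtain ⟨hnsX, hnsY⟩ := not_small_signed D hna Nat.prime_two (by norm_num) hzC hz
  have hmemX : ∀ F ∈ signedX D, F ∈ Search.degs11 ∧ F ≠ 45 := by
    intro F hF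
    have hns := hnsX F hF
    obtain ⟨χ, hχ, hχ1, rfl⟩ := mem_signedX D hF
    have hmem := mem_degs11 (F := D.εX χ * (deg χ : ℤ))
      (by rcases D.sign χ hχ with e | e <;> simp [e]) (two_le_degree hna hχ1) (deg_lt hG χ)
      (deg_dvd hG χ) (res23 D23 hG χ) (X_degree_mod D hχ) hns
    refine ⟨hmem, fun h45 => ?_⟩
    have h45' : D.εX χ * (deg χ : ℤ) = 45 := h45
    rcases D.sign χ hχ with e | e
    · rw [e, one_mul] at h45'
      refine no_fortyfive hG hz h35 (χ := χ) (by omega) (hv χ) ?_
      exact e ▸ val_X_modEq D hχ hzC hzreg (hv χ)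
    · rw [e] at h45'
      have : (0 : ℤ) ≤ (deg χ : ℤ) := Int.natCast_nonneg _
      omega
  have hgX : ∀ F ∈ signedX D, 0 ≤ Search.gval F ∧ (Search.gval F = 0 → F ∈ Search.degs5) := by
    intro F hF
    obtain ⟨h1, h2⟩ := hmemX F hF
    have ha := List.all_eq_true.1 Search.degs11_gval F h1
    have hb := List.all_eq_true.1 gval_degs5 F h1
    simp only [Bool.or_eq_true, beq_iff_eq, h2, false_or, Bool.and_eq_true, decide_eq_true_eq] at ha
    simp only [Bool.or_eq_true, beq_iff_eq, h2, false_or, Bool.not_eq_true', beq_eq_false_iff_ne,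
      List.contains_iff_mem] at hb
    exact ⟨ha.1, fun h0 => hb.resolve_left fun h => h h0⟩
  have hX23 : ∀ χ ∈ D.X, deg χ % 23 = 0 ∨ deg χ % 23 = 1 ∨ deg χ % 23 = 22 := by
    intro χ hχ
    by_cases hχ1 : χ = trivialIrr
    · subst hχ1
      exact Or.inr (Or.inl (by
        rw [show deg (trivialIrr : IrrCharacter G) = 1 from SmallExc.PBlk.charDegree_triv D]))
    · have h := (hmemX _ (List.mem_map.2
        ⟨χ, Finset.mem_toList.2 (Finset.mem_erase.2 ⟨hχ1, hχ⟩), rfl⟩)).1
      simp only [Search.degs11, List.mem_cons, List.not_mem_nil, or_false] at h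
      unfold deg
      rcases D.sign χ hχ with e | e <;> rw [e] at h <;> omega
  obtain ⟨θ, hθ⟩ := D.Y_nonempty
  obtain ⟨hr, hrel⟩ := gval_rel D hG D23 hX23 hθ
  have hsum : 0 ≤ ((signedX D).map Search.gval).sum := List.sum_nonneg fun a ha => by
    obtain ⟨F, hF, rfl⟩ := List.mem_map.1 ha
    exact (hgX F hF).1
  have hd2 : 2 ≤ deg θ := two_le_degree hna (Y_ne_triv D hθ)
  set T := D.ε * (deg θ : ℤ) with hT
  have hTe : (11 : ℤ) ∣ T - D.e := Y_degree_mod D hθ
  rcases he with he | he
  · -- five orbits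
    have ht : D.t = 2 := by have := D.e_mul_t; rw [he] at this; omega
    have hT160 : T = -160 := by
      have h := List.all_eq_true.1 Search.exc5_complete (deg θ) (List.mem_range.2 (deg_lt hG θ))
      have h0 : (Nat.ble 2 (deg θ) && (Search.N % deg θ == 0) &&
          (deg θ % 23 == 0 || deg θ % 23 == 1 || deg θ % 23 == 22)) = true := by
        simp only [Bool.and_eq_true, Nat.ble_eq, beq_iff_eq, Bool.or_eq_true]
        exact ⟨⟨hd2, Nat.mod_eq_zero_of_dvd (deg_dvd hG θ)⟩, by omega⟩
      rw [h0, Bool.not_true, Bool.false_or, List.all_eq_true] at h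
      have h1 := h T (by rw [hT]; rcases D.hε with e | e <;> simp [e])
      have h2 : ((T - 5) % 11 == 0 && decide (0 < Search.gval T)) = true := by
        simp only [Bool.and_eq_true, beq_iff_eq, decide_eq_true_eq]
        rw [he] at hTe
        exact ⟨Int.emod_eq_zero_of_dvd (by exact_mod_cast hTe), by rw [hrel]; omega⟩
      rw [h2, Bool.not_true, Bool.false_or, beq_iff_eq] at h1
      exact h1
    rw [hT160, gval_160] at hrel
    have hzero : ∀ F ∈ signedX D, Search.gval F = 0 := by
      intro F hF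
      have hle : Search.gval F ≤ ((signedX D).map Search.gval).sum :=
        List.single_le_sum (fun a ha => by
          obtain ⟨F', hF', rfl⟩ := List.mem_map.1 ha
          exact (hgX F' hF').1) _ (List.mem_map.2 ⟨F, hF, rfl⟩)
      have := (hgX F hF).1
      omega
    have hFs : ∀ F ∈ signedX D, F ∈ Search.degs5 := fun F hF => (hgX F hF).2 (hzero F hF)
    set c := Nat.card (centralizer ({z} : Set G)) with hc
    obtain ⟨k, hk⟩ := mul_dvd_card_centralizer D Nat.prime_two (by norm_num) hzC hz
    have hcN : c ∣ Search.N := card_eq hG ▸ card_subgroup_dvd_card _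
    have h23 : ¬ 23 ∣ k := fun h => not_dvd_centralizer hG (q := 2) Nat.prime_two (by norm_num) hz
      (hk ▸ h.mul_left _)
    have hk' : k ∣ 20160 := by
      refine Nat.Coprime.dvd_of_dvd_mul_right
        (((Nat.Prime.coprime_iff_not_dvd (by norm_num)).2 h23).symm) (?_ : k ∣ 20160 * 23)
      refine Nat.dvd_of_mul_dvd_mul_left (show 0 < 11 * 2 by norm_num) ?_
      rw [← hk]
      exact hcN.trans (dvd_of_eq (by norm_num [Search.N]))
    have hk35 : 3 ∣ k ∨ 5 ∣ k := by
      rcases h35 with h | h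
      · refine Or.inl (((Nat.Prime.dvd_mul Nat.prime_three).1 (by rwa [hc, hk] at h)).resolve_left (by norm_num))
      · refine Or.inr (((Nat.Prime.dvd_mul Nat.prime_five).1 (by rwa [hc, hk] at h)).resolve_left (by norm_num))
    have hchk := Search.check11_all hk' hk35
    simp only [Search.check11, Bool.and_eq_true] at hchk
    rw [show 22 * k = 11 * 2 * k by ring] at hchk
    obtain ⟨st, hleaf, hok, v', hv', hst⟩ := search_apply D hG (by norm_num) hFs hzC hz hk hchk.1
      (leaf := Search.leaf11 (11 * 2 * k)) (by rw [he]; exact hchk.2)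
    obtain ⟨hs, hnum⟩ := hst θ hθ
    rw [he, ht] at hok
    obtain ⟨x, hx, hx1⟩ := D.exists_ne_one
    have hrule := square_rule hx hx1 (by norm_num) hz (fun χ _ => hv' χ) hθ
    rw [nInv_eq_zero_of_odd hx hx1 (by norm_num) ⟨2, by rw [he]; rfl⟩ hz, Nat.cast_zero,
      zero_pow (by norm_num), mul_zero] at hrule
    have hsq0 : sqSum D v' θ = 0 := by
      refine (mul_eq_zero.1 hrule).resolve_left (Nat.cast_ne_zero.2 ?_)
      refine mul_ne_zero (mul_ne_zero (by norm_num) fun e => ?_) (pow_ne_zero _ index_ne_zero_of_finite)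
      have := card_cent D
      rw [e, mul_zero] at this
      exact Nat.card_pos.ne' this
    rw [hsq0, mul_zero] at hnum
    have hz0 : Search.sqNum st = 0 := by exact_mod_cast hnum
    have hs' : st.s = -160 := hs.trans hT160
    simp [Search.leaf11, hok, hz0, hs'] at hleaf
  · -- ten orbits
    have ht : D.t = 1 := by have := D.e_mul_t; rw [he] at this; omega
    have hns := hnsY θ hθ
    rw [ht, Nat.cast_one, neg_one_mul] at hns
    rw [he] at hTe
    push_cast at hTe
    have hmem : -T ∈ Search.degs11 := mem_degs11 (d := deg θ) (F := -T)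
      (by rw [hT]; rcases D.hε with e | e <;> simp [e]) hd2 (deg_lt hG θ) (deg_dvd hG θ)
      (res23 D23 hG θ) (by omega) hns
    have hne : -T ≠ 45 := by
      intro h45
      rcases D.hε with e | e
      · rw [hT, e, one_mul] at h45
        have : (0 : ℤ) ≤ (deg θ : ℤ) := Int.natCast_nonneg _
        omega
      · rw [hT, e] at h45
        refine no_fortyfive hG hz h35 (χ := θ) (by omega) (hv θ) ?_
        have h := val_Y_modEq D hθ hzC hzreg (hv θ)
        rw [e, he] at h
        exact h.trans (by decide)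
    have hle := List.all_eq_true.1 gval_neg_le (-T) hmem
    simp only [Bool.or_eq_true, beq_iff_eq, hne, false_or, decide_eq_true_eq, neg_neg] at hle
    omega

end Cfsg.Agent.H90.MTwentyThree
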