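import Cfsg.Agent.H90.MTwentyThree.Residue
import Cfsg.Agent.H86.SectionFun
import Cfsg.Agent.H81.GaloisSum

/-!
Two orbits at 11 are impossible: the nontrivial non-exceptional character would be rational valued,
and the square rule puts an element of order 7 in the centraliser.
-/

set_option autoImplicit false
set_option linter.unusedSectionVars false
set_option linter.style.haveILetI false
set_option maxRecDepth 100000

open scoped ComplexConjugate Classical

namespace Cfsg.Agent.H90.MTwentyThree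

open CharBasic Subgroup BlockBasic H86 H86.MTwentyTwo

universe u

theorem eleven_two_degs : (Search.degs11.all fun F => !(Search.N % (F + 1).natAbs == 0) ||
    F == 23 || F == 45) = true := by
  decide +kernel

theorem mem_degs11 {d : ℕ} {F : ℤ} (hF : F = d ∨ F = -d) (hd2 : 2 ≤ d) (hd : d < 3194)
    (hdvd : d ∣ Search.N) (hok : Search.ok23 d = true) (h11 : (11 : ℤ) ∣ F - 1)
    (hs : ¬ H36.BlockDegree.Small 11 F) : F ∈ Search.degs11 := by
  have h := List.all_eq_true.1 Search.degs11_complete d (List.mem_range.2 hd)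
  have h0 : (Nat.ble 2 d && (Search.N % d == 0) && Search.ok23 d) = true := by
    simp only [Bool.and_eq_true, Nat.ble_eq, beq_iff_eq]
    exact ⟨⟨hd2, Nat.mod_eq_zero_of_dvd hdvd⟩, hok⟩
  rw [h0, Bool.not_true, Bool.false_or, List.all_eq_true] at h
  have h1 := h F (by rcases hF with rfl | rfl <;> simp)
  have hs' : Search.small 11 F = false := by
    unfold H36.BlockDegree.Small at hs
    simp only [Search.small, Bool.or_eq_false_iff, beq_eq_false_iff_ne]
    omega
  have h2 : ((F - 1) % 11 == 0 && !(Search.small 11 F)) = true := by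
    rw [hs', Bool.not_false, Bool.and_true, beq_iff_eq]
    exact Int.emod_eq_zero_of_dvd h11
  rw [h2, Bool.not_true, Bool.false_or] at h1
  exact List.contains_iff_mem.1 h1

variable {G : Type u} [Group G] [Fintype G] [IsSimpleGroup G] [hp : Fact (Nat.Prime 11)]
  (D : SmallExc.PBlk G 11)

/-- An automorphism fixes the only nontrivial non-exceptional character of two. -/
theorem fixed_of_two (he : D.e = 2) {χ : IrrCharacter G} (hχ : χ ∈ D.X) (hχ1 : χ ≠ trivialIrr)
    (hdeg : ∀ θ ∈ D.Y, deg θ ≠ deg χ) (hd1 : 1 < deg χ) (σ : ℂ ≃+* ℂ) (g : G) :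
    σ ((χ : G → ℂ) g) = (χ : G → ℂ) g := by
  set ψ : IrrCharacter G := ⟨fun a => σ ((χ : G → ℂ) a), H43.aut_irr σ χ.2⟩ with hψ
  have hψd : deg ψ = deg χ := by
    refine H84.charDegree_of_eq ?_
    show σ ((χ : G → ℂ) 1) = _
    rw [apply_one_eq_charDegree, map_natCast]
  obtain ⟨x, hx, hx1⟩ := D.exists_ne_one
  have hmem : ψ ∈ principalBlock D.M G := by
    by_contra hnm
    letI : Fintype (centralizer ({x} : Set G)) := Fintype.ofFinite _
    have h := sum_shift_regular D.hM ⟨1, by rw [orderOf_mem D hx hx1, pow_one]⟩ (pNil D hx hx1) ψ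
    rw [if_neg hnm, mul_zero] at h
    have hval : ∀ c : centralizer ({x} : Set G), ¬ 11 ∣ orderOf c →
        (ψ : G → ℂ) (x * (c : G)) = (D.εX χ : ℂ) := fun c hc => by
      show σ ((χ : G → ℂ) (x * (c : G))) = _
      rw [D.valX χ hχ x hx hx1 c ((SetLike.ext_iff.1 (centralizer_mem D hx hx1) (c : G)).1 c.2)
        (by rw [Subgroup.orderOf_coe]; exact hc), map_intCast]
    rw [Finset.sum_congr rfl (g := fun c : centralizer ({x} : Set G) =>
      (D.εX χ : ℂ) * if 11 ∣ orderOf c then 0 else 1) (fun c _ => by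
        split_ifs with hc
        · rw [mul_zero]
        · rw [mul_one, hval c hc]), ← Finset.mul_sum] at h
    rcases mul_eq_zero.1 h with h | h
    · rcases D.sign χ hχ with e | e <;> rw [e] at h <;> norm_num at h
    · have hpos : (0 : ℕ) < (Finset.univ.filter fun c : centralizer ({x} : Set G) =>
          ¬ 11 ∣ orderOf c).card :=
        Finset.card_pos.2 ⟨1, by simp⟩
      rw [Finset.sum_congr rfl (g := fun c : centralizer ({x} : Set G) =>
        if ¬ 11 ∣ orderOf c then (1 : ℂ) else 0) (fun c _ => (ite_not _ _ _).symm),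
        Finset.sum_boole] at h
      exact hpos.ne' (by exact_mod_cast h)
  rcases (D.mem_iff ψ).1 hmem with hX | hY
  · have hcard : (D.X.erase trivialIrr).card = 1 := by
      rw [Finset.card_erase_of_mem D.trivX, D.cardX]
      show D.e - 1 = 1
      omega
    obtain ⟨a, ha⟩ := Finset.card_eq_one.1 hcard
    have h1 : χ = a := Finset.mem_singleton.1 (ha ▸ Finset.mem_erase.2 ⟨hχ1, hχ⟩)
    have hψ1 : ψ ≠ trivialIrr := fun e => by
      have := hψd
      rw [e, show deg (trivialIrr : IrrCharacter G) = 1 from SmallExc.PBlk.charDegree_triv D] at this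
      omega
    have h2 : ψ = a := Finset.mem_singleton.1 (ha ▸ Finset.mem_erase.2 ⟨hψ1, hX⟩)
    exact congrArg (fun φ : IrrCharacter G => (φ : G → ℂ) g) (h2.trans h1.symm)
  · exact absurd hψd (hdeg ψ hY)

/-- An element of order 7 centralising the Sylow subgroup is impossible with a rational character
of degree 23 or 45. -/
theorem no_seven (he : D.e = 2) {χ : IrrCharacter G} (hχ : χ ∈ D.X) (hχ1 : χ ≠ trivialIrr)
    (hdeg : ∀ θ ∈ D.Y, deg θ ≠ deg χ) (hd : deg χ = 23 ∨ deg χ = 45) {y : G} (hy : y ∈ Cent D)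
    (hoy : orderOf y = 7) : False := by
  have hd1 : 1 < deg χ := by omega
  have hfix := fun σ g => fixed_of_two D he hχ hχ1 hdeg hd1 σ g
  have hint := IsChar.isIntegral (IsIrr.isCharacter χ.2) y
  obtain ⟨q, hq⟩ := H43.rat_of_fixed (hint.tower_top) (fun σ => hfix σ y)
  obtain ⟨v, hv⟩ := H43.int_of_rat_integral hint hq
  obtain ⟨m, ζ, e, hζ, hval⟩ := H81.exists_exponents (IsIrr.isCharacter χ.2) y
  rw [hoy] at hζ
  have hpow : ∀ k : ℕ, k.Coprime 7 → (χ : G → ℂ) (y ^ k) = v := by
    intro k hk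
    obtain ⟨σ, hσ⟩ := H43.exists_aut_pow (by norm_num : (7 : ℕ) ≠ 0) hk
    have h1 := hval 1
    rw [pow_one, pow_one] at h1
    rw [← hv, ← hfix σ y, h1, hval k, map_sum]
    refine Finset.sum_congr rfl fun i _ => ?_
    rw [hσ _ (by rw [← pow_mul, mul_comm, pow_mul, hζ.pow_eq_one, one_pow]), ← pow_mul, ← pow_mul,
      mul_comm]
  -- the number of fixed eigenvalues
  have hsum : (deg χ : ℂ) + 6 * (v : ℂ) =
      7 * ((Finset.univ.filter fun i => ζ ^ e i = 1).card : ℂ) := by
    have h1 : ∑ k ∈ Finset.range 7, (χ : G → ℂ) (y ^ k) = (deg χ : ℂ) + 6 * (v : ℂ) := by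
      rw [← Finset.add_sum_erase _ _ (Finset.mem_range.2 (by norm_num : 0 < 7)), pow_zero,
        apply_one_eq_charDegree, Finset.sum_congr rfl (g := fun _ => (v : ℂ)) fun k hk => hpow k (by
          obtain ⟨hk0, hk7⟩ := Finset.mem_erase.1 hk
          rw [Finset.mem_range] at hk7
          exact ((Nat.Prime.coprime_iff_not_dvd (by norm_num)).2
            (Nat.not_dvd_of_pos_of_lt (Nat.pos_of_ne_zero hk0) hk7)).symm),
        Finset.sum_const, Finset.card_erase_of_mem (Finset.mem_range.2 (by norm_num)), Finset.card_range,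
        nsmul_eq_mul]
      norm_num
    rw [← h1, Finset.sum_congr rfl fun k _ => hval k, Finset.sum_comm, Finset.card_filter, Nat.cast_sum,
      Finset.mul_sum]
    refine Finset.sum_congr rfl fun i _ => ?_
    have h2 : ∀ k : ℕ, (ζ ^ k) ^ e i = (ζ ^ e i) ^ k := fun k => by rw [← pow_mul, ← pow_mul, mul_comm]
    simp only [h2]
    split_ifs with h
    · simp [h]
    · have h3 := geom_sum_mul (ζ ^ e i) 7
      rw [show (ζ ^ e i) ^ 7 = 1 by rw [← pow_mul, mul_comm, pow_mul, hζ.pow_eq_one, one_pow],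
        sub_self, mul_eq_zero] at h3
      rw [h3.resolve_right (sub_ne_zero.2 h)]
      simp
  have hsumZ : (deg χ : ℤ) + 6 * v = 7 * ((Finset.univ.filter fun i => ζ ^ e i = 1).card : ℤ) := by
    exact_mod_cast hsum
  have hle : ((Finset.univ.filter fun i => ζ ^ e i = 1).card : ℤ) ≤ (deg χ : ℤ) := by
    have hm : deg χ = m := by
      have h0 := hval 0
      rw [pow_zero, apply_one_eq_charDegree] at h0
      simp only [pow_zero, one_pow, Finset.sum_const, Finset.card_univ, Fintype.card_fin, nsmul_eq_mul,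
        mul_one] at h0
      exact_mod_cast h0
    rw [hm]
    exact_mod_cast (Finset.card_filter_le _ _).trans (by simp)
  have h11 := val_X_modEq D hχ hy (by rw [hoy]; norm_num) hv
  have hεX : (11 : ℤ) ∣ D.εX χ * (deg χ : ℤ) - 1 := X_degree_mod D hχ
  have hm11 := Int.modEq_iff_dvd.1 h11
  rcases D.sign χ hχ with e' | e' <;> rw [e'] at hεX hm11
  · have hvd : v = (deg χ : ℤ) := by
      obtain ⟨k, hk⟩ := hm11
      push_cast at hk
      rcases hd with h | h <;> rw [h] at hsumZ hle ⊢ <;> push_cast at hsumZ hle ⊢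
      · have hlo : -2 ≤ k := by omega
        have hhi : k ≤ 0 := by omega
        interval_cases k <;> omega
      · have hlo : -4 ≤ k := by omega
        have hhi : k ≤ 0 := by omega
        interval_cases k <;> omega
    have hy1 : y = 1 := SmallExc.eq_one_of_apply_eq_one_deg (χ := χ) hd1
      (by rw [hv, apply_one_eq_charDegree, hvd]; push_cast; rfl)
    rw [hy1, orderOf_one] at hoy
    norm_num at hoy
  · rcases hd with h | h <;> rw [h] at hεX <;> norm_num at hεX

/-- Two orbits at 11 are impossible. -/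
theorem no_two (hG : IsM23 G) [Fact (Nat.Prime 23)] (D23 : SmallExc.PBlk G 23) (he : D.e = 2)
    (hL1 : coSize D ≠ 1) : False := by
  haveI : Finite G := finite_of_isM23 hG
  haveI h2 : Fact (Nat.Prime 2) := ⟨Nat.prime_two⟩
  haveI h7 : Fact (Nat.Prime 7) := ⟨by norm_num⟩
  have hna := not_comm hG
  obtain ⟨L, T, hlen, hF, -, hTd, -, -, hsum, -, -⟩ :=
    H36.BlockDegree.exists_data hna D.P D.card_P (r := D.e) rfl (card_cent D)
  rw [he] at hlen
  obtain ⟨x, hx, hx1⟩ := D.exists_ne_one
  obtain ⟨χ, hXe⟩ := Finset.card_eq_one.1 (show (D.X.erase trivialIrr).card = 1 by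
    rw [Finset.card_erase_of_mem D.trivX, D.cardX]; show D.e - 1 = 1; omega)
  have hχm : χ ∈ D.X.erase trivialIrr := hXe ▸ Finset.mem_singleton_self χ
  obtain ⟨hχ1, hχ⟩ := Finset.mem_erase.1 hχm
  obtain ⟨θ, hθ⟩ := D.Y_nonempty
  have hrel := D.rel_one hθ
  rw [← Finset.add_sum_erase _ _ D.trivX, SmallExc.PBlk.εX_triv D,
    SmallExc.PBlk.charDegree_triv D, hXe, Finset.sum_singleton] at hrel
  -- the signed degree is not small
  have hnotsmall : ¬ H36.BlockDegree.Small 11 (D.εX χ * (deg χ : ℤ)) := by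
    obtain ⟨y, hyC, q, hq, hyq⟩ : ∃ y ∈ Cent D, ∃ q, Nat.Prime q ∧ orderOf y = q ∧ q ≠ 11 := by
      obtain ⟨q, hq, hqd⟩ := Nat.exists_prime_and_dvd hL1
      haveI := Fact.mk hq
      obtain ⟨y, hyC, hy⟩ := exists_mem_cent D hqd
      refine ⟨y, hyC, q, hq, hy, fun e => ?_⟩
      subst e
      have hdd : 11 * 11 ∣ Nat.card G :=
        (mul_dvd_mul_left 11 hqd).trans ((card_cent D).symm ▸ card_subgroup_dvd_card (Cent D))
      rw [card_eq hG] at hdd
      norm_num [Search.N] at hdd
    exact (not_small_signed D hna hq (Ne.symm hyq.2) hyC hyq.1).1 _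
      (List.mem_map.2 ⟨χ, Finset.mem_toList.2 hχm, rfl⟩)
  have hmem := mem_degs11 (F := D.εX χ * (deg χ : ℤ))
    (by rcases D.sign χ hχ with e | e <;> simp [e]) (two_le_degree hna hχ1) (deg_lt hG χ)
    (deg_dvd hG χ) (res23 D23 hG χ) (X_degree_mod D hχ) hnotsmall
  have hd := List.all_eq_true.1 eleven_two_degs _ hmem
  have hT : D.εX χ * (deg χ : ℤ) + 1 = D.ε * (deg θ : ℤ) := by
    push_cast at hrel; linarith
  have hdiv : Search.N % (D.εX χ * (deg χ : ℤ) + 1).natAbs = 0 := by
    rw [hT, natAbs_sign_mul D.hε]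
    exact Nat.mod_eq_zero_of_dvd (deg_dvd hG θ)
  rw [hdiv] at hd
  simp only [beq_self_eq_true, Bool.not_true, Bool.false_or, Bool.or_eq_true, beq_iff_eq] at hd
  have hεX : D.εX χ = 1 := by
    rcases D.sign χ hχ with e | e
    · exact e
    · rw [e] at hd; omega
  rw [hεX, one_mul] at hd hT
  have hε : D.ε = 1 := by
    rcases D.hε with e | e
    · exact e
    · rw [e] at hT; omega
  rw [hε, one_mul] at hT
  have hdeg : ∀ θ' ∈ D.Y, deg θ' ≠ deg χ := fun θ' hθ' e => by
    have h1 : deg θ' = deg θ := D.degree_Y hθ' hθ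
    omega
  have hdχ : deg χ = 23 ∨ deg χ = 45 := by omega
  -- an involution
  obtain ⟨z, hz⟩ := exists_prime_orderOf_dvd_card' (G := G) 2
    (by rw [card_eq hG]; norm_num [Search.N])
  obtain ⟨v, hv, hv1, hvr⟩ := exists_vals hG hz
  have hzreg : ¬ 11 ∣ orderOf z := by rw [hz]; norm_num
  have hse := sign_eq D hzreg (fun ψ _ => hv ψ) hθ
  rw [← Finset.add_sum_erase _ _ D.trivX, SmallExc.PBlk.εX_triv D, hv1, hXe, Finset.sum_singleton,
    hεX, hε] at hse
  have hrule := square_rule hx hx1 (by norm_num) hz (fun ψ _ => hv ψ) hθ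
  rw [sqSum, ← Finset.add_sum_erase _ _ D.trivX, hXe, Finset.sum_singleton, SmallExc.PBlk.εX_triv D,
    hv1, hεX, hε, SmallExc.PBlk.charDegree_triv D, card_eq hG] at hrule
  set F := deg χ with hF
  set A := nInv z x
  set h := (centralizer ({z} : Set G)).index with hh
  have hvθ : (v θ : ℚ) = 1 + (v χ : ℚ) := by
    have : v θ = 1 + v χ := by linarith
    exact_mod_cast this
  have hθd : (charDegree (θ : G → ℂ) : ℚ) = (F : ℚ) + 1 := by
    have : (deg θ : ℤ) = (F : ℤ) + 1 := by linarith
    exact_mod_cast this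
  rw [hvθ, hθd, show charDegree (χ : G → ℂ) = F from rfl] at hrule
  have hF0 : (F : ℚ) ≠ 0 := by
    have : F ≠ 0 := by omega
    exact_mod_cast this
  have hF1 : (F : ℚ) + 1 ≠ 0 := by positivity
  have hkeyQ : ((11 * coSize D * h ^ 2 : ℕ) : ℚ) * ((v χ : ℚ) - F) ^ 2 =
      (Search.N : ℚ) * (A : ℚ) ^ 2 * (F * (F + 1)) := by
    rw [← hrule]
    push_cast
    field_simp
    ring
  set w := (v χ - (F : ℤ)).natAbs with hw
  have hkey : 11 * coSize D * h ^ 2 * w ^ 2 = Search.N * A ^ 2 * (F * (F + 1)) := by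
    have hZ : ((11 * coSize D * h ^ 2 : ℕ) : ℤ) * (v χ - (F : ℤ)) ^ 2 =
        ((Search.N * A ^ 2 * (F * (F + 1)) : ℕ) : ℤ) := by
      have : ((((11 * coSize D * h ^ 2 : ℕ) : ℤ) * (v χ - (F : ℤ)) ^ 2 : ℤ) : ℚ) =
          ((((Search.N * A ^ 2 * (F * (F + 1)) : ℕ) : ℤ)) : ℚ) := by
        push_cast at hkeyQ ⊢
        linarith
      exact_mod_cast this
    rw [← Int.natAbs_sq, ← hw] at hZ
    exact_mod_cast hZ
  have hw0 : w ≠ 0 := by
    have := (hvr χ hχ1).2.2
    omega
  have hh0 : h ≠ 0 := index_ne_zero_of_finite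
  have hL0 : coSize D ≠ 0 := fun e => by
    have := card_cent D
    rw [e, mul_zero] at this
    exact Nat.card_pos.ne' this
  have hA0 : A ≠ 0 := fun e => by
    rw [e, zero_pow (by norm_num), mul_zero, zero_mul] at hkey
    simp [hL0, hh0, hw0] at hkey
  -- the exponent of seven
  have hseven : 7 ∣ coSize D := by
    by_contra hn
    have h1 := congrArg (fun n => n.factorization 7) hkey
    have hp7 : Nat.Prime 7 := by norm_num
    have hN7 : Search.N.factorization 7 = 1 := by
      have hN' : Search.N = 7 ^ 1 * 1457280 := by norm_num [Search.N]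
      rw [hN', Nat.factorization_mul (by norm_num) (by norm_num), Finsupp.add_apply,
        hp7.factorization_pow, Finsupp.single_eq_same,
        Nat.factorization_eq_zero_of_not_dvd (by norm_num)]
    have h11' : (11 : ℕ).factorization 7 = 0 := Nat.factorization_eq_zero_of_not_dvd (by norm_num)
    have hFF : (F * (F + 1)).factorization 7 = 0 := Nat.factorization_eq_zero_of_not_dvd (by
      rcases hdχ with e | e <;> rw [e] <;> norm_num)
    have hL7 : (coSize D).factorization 7 = 0 := Nat.factorization_eq_zero_of_not_dvd hn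
    have hFne : F * (F + 1) ≠ 0 := by
      have : F ≠ 0 := by omega
      positivity
    simp only [Nat.factorization_mul, ne_eq, mul_eq_zero, pow_eq_zero_iff, OfNat.ofNat_ne_zero, hL0, hh0,
      hw0, hA0, hFne, not_false_eq_true, or_self, Nat.factorization_pow, Finsupp.add_apply,
      Finsupp.smul_apply, smul_eq_mul, hN7, h11', hFF, hL7, show Search.N ≠ 0 by norm_num [Search.N]] at h1
    omega
  obtain ⟨y, hyC, hy⟩ := exists_mem_cent D hseven
  exact no_seven D he hχ hχ1 hdeg hdχ hyC hy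

end Cfsg.Agent.H90.MTwentyThree
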