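import Cfsg.Agent.H90.MTwentyThree.Ctx

/-!
The principal block at 5 produces a character of degree 11, or characters of degrees 896, 231 and
2024.
-/

set_option autoImplicit false
set_option linter.unusedSectionVars false
set_option linter.style.haveILetI false
set_option maxRecDepth 100000
set_option Elab.async false

open scoped ComplexConjugate Classical

namespace Cfsg.Agent.H90.MTwentyThree

open CharBasic Subgroup BlockBasic H86 H86.MTwentyTwo

universe u

namespace Search

/-- A signed degree with the doubled coordinates at elements of orders 11 and 23. -/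
structure Vec where
  /-- Degree. -/
  d : ℤ
  /-- Rational part at 11. -/
  a : ℤ
  /-- Irrational part at 11. -/
  b : ℤ
  /-- Rational part at 23. -/
  a' : ℤ
  /-- Irrational part at 23. -/
  b' : ℤ
deriving DecidableEq

/-- Sum. -/
def Vec.add (v w : Vec) : Vec := ⟨v.d + w.d, v.a + w.a, v.b + w.b, v.a' + w.a', v.b' + w.b'⟩

/-- Multiple. -/
def Vec.smul (s : ℤ) (v : Vec) : Vec := ⟨s * v.d, s * v.a, s * v.b, s * v.a', s * v.b'⟩

/-- The trivial character. -/
def Vec.one : Vec := ⟨1, 2, 0, 2, 0⟩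

/-- The signed vectors with signed degree congruent to `r` modulo 5. -/
def signedVecs (r : ℤ) : List Vec :=
  candT.flatMap fun (d : ℕ) => (([1, -1] : List ℤ).filter fun s => (s * (d : ℤ) - r) % 5 == 0).flatMap
    fun s => (kinds 11 5 d).flatMap fun k => (kinds 23 11 d).map fun k' =>
      Vec.smul s ⟨d, k.1, k.2, k'.1, k'.2⟩

/-- Exceptional degrees at one prime are equal. -/
def consist (l : List Vec) : Bool :=
  l.all fun u => l.all fun w =>
    (!(exc11 u.d.natAbs && exc11 w.d.natAbs) || u.d.natAbs == w.d.natAbs) &&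
    (!(exc23 u.d.natAbs && exc23 w.d.natAbs) || u.d.natAbs == w.d.natAbs)

/-- The degrees wanted. -/
def wanted (l : List Vec) : Bool :=
  (l.any fun u => u.d.natAbs == 11) ||
    ((l.any fun u => u.d.natAbs == 896) && (l.any fun u => u.d.natAbs == 231) &&
      (l.any fun u => u.d.natAbs == 2024))

theorem two_check : ((signedVecs 1).all fun u =>
    !((signedVecs 2).contains (Vec.one.add u)) || !(consist [u, Vec.one.add u])) = true := by
  decide +kernel

/-- The condition on three signed vectors. -/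
def fourOK (u v w : Vec) : Bool :=
  !((signedVecs 1).contains (Vec.smul (-1) (((Vec.one.add u).add v).add w))) ||
    !(consist [u, v, w, Vec.smul (-1) (((Vec.one.add u).add v).add w)]) ||
    wanted [u, v, w, Vec.smul (-1) (((Vec.one.add u).add v).add w)]

/-- The condition for a given first vector. -/
def fourRow (u : Vec) : Bool :=
  (signedVecs 1).all fun v => (signedVecs 1).all fun w => fourOK u v w

theorem four_a : ((signedVecs 1).take 6).all fourRow = true := by decide +kernel

theorem four_b : (((signedVecs 1).drop 6).take 6).all fourRow = true := by decide +kernel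

theorem four_c : (((signedVecs 1).drop 6).drop 6).all fourRow = true := by decide +kernel

theorem four_check {u v w : Vec} (hu : u ∈ signedVecs 1) (hv : v ∈ signedVecs 1)
    (hw : w ∈ signedVecs 1) : fourOK u v w = true := by
  rw [← List.take_append_drop 6 (signedVecs 1), List.mem_append] at hu
  have h : fourRow u = true := by
    rcases hu with h | h
    · exact List.all_eq_true.1 four_a u h
    · rw [← List.take_append_drop 6 ((signedVecs 1).drop 6), List.mem_append] at h
      rcases h with h | h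
      · exact List.all_eq_true.1 four_b u h
      · exact List.all_eq_true.1 four_c u h
  exact List.all_eq_true.1 (List.all_eq_true.1 h v hv) w hw

end Search

local instance factFive : Fact (Nat.Prime 5) := ⟨Nat.prime_five⟩
local instance factEleven' : Fact (Nat.Prime 11) := ⟨by norm_num⟩
local instance factTwentyThree' : Fact (Nat.Prime 23) := ⟨by norm_num⟩

variable {G : Type u} [Group G] [Fintype G] [IsSimpleGroup G] (K : Ctx G)

namespace Ctx

/-- The vector of a character. -/
noncomputable def vec (χ : IrrCharacter G) : Search.Vec :=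
  ⟨deg χ, (K.cy χ).1, (K.cy χ).2, (K.cx χ).1, (K.cx χ).2⟩

theorem vec_mem {χ : IrrCharacter G} (hχ : χ ≠ trivialIrr) {s r : ℤ} (hs : s = 1 ∨ s = -1)
    (hr : (5 : ℤ) ∣ s * (deg χ : ℤ) - r) :
    Search.Vec.smul s (K.vec χ) ∈ Search.signedVecs r := by
  refine List.mem_flatMap.2 ⟨deg χ, K.mem_candT hχ, List.mem_flatMap.2 ⟨s, List.mem_filter.2 ⟨?_, ?_⟩,
    List.mem_flatMap.2 ⟨K.cy χ, K.kind_y χ, List.mem_map.2 ⟨K.cx χ, K.kind_x χ, rfl⟩⟩⟩⟩
  · rcases hs with rfl | rfl <;> simp
  · simp [Int.emod_eq_zero_of_dvd hr]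

theorem vec_triv : K.vec trivialIrr = Search.Vec.one := by
  obtain ⟨h1, h2⟩ := K.triv_coord
  simp only [vec, h1, h2, Search.Vec.one]
  rw [show deg (trivialIrr : IrrCharacter G) = 1 from SmallExc.PBlk.charDegree_triv K.D11]
  rfl

/-- A block relation on the coordinates. -/
theorem rel_coord {q : ℕ} [Fact q.Prime] (D : SmallExc.PBlk G q) {g : G} {p : ℕ} [Fact p.Prime]
    (hg : ¬ q ∣ orderOf g) {r : ℂ} (hr : r * r = -(p : ℂ)) {c : IrrCharacter G → ℤ × ℤ}
    (hc : ∀ χ : IrrCharacter G, 2 * (χ : G → ℂ) g = ((c χ).1 : ℂ) + ((c χ).2 : ℂ) * r)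
    {θ : IrrCharacter G} (hθ : θ ∈ D.Y) :
    D.ε * (c θ).1 = ∑ χ ∈ D.X, D.εX χ * (c χ).1 ∧ D.ε * (c θ).2 = ∑ χ ∈ D.X, D.εX χ * (c χ).2 := by
  refine coord_inj hr ?_
  have h := congrArg (fun z : ℂ => 2 * z) (D.rel θ hθ g hg)
  push_cast
  rw [Finset.sum_mul, ← Finset.sum_add_distrib]
  rw [Finset.sum_congr rfl (g := fun χ => 2 * ((D.εX χ : ℂ) * (χ : G → ℂ) g)) fun χ _ => by
    linear_combination -(D.εX χ : ℂ) * hc χ, ← Finset.mul_sum]
  linear_combination h - (D.ε : ℂ) * hc θ

/-- The relation of a block at 5 on vectors. -/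
theorem rel_vec (D : SmallExc.PBlk G 5) {θ : IrrCharacter G} (hθ : θ ∈ D.Y) {L : List (IrrCharacter G)}
    (hL : (D.X.erase trivialIrr).toList = L) :
    Search.Vec.smul D.ε (K.vec θ) =
      (L.map fun χ => Search.Vec.smul (D.εX χ) (K.vec χ)).foldl Search.Vec.add Search.Vec.one := by
  have hy : ¬ 5 ∣ orderOf K.y := by rw [orderOf_mem K.D11 K.hy K.hy1]; norm_num
  have hx : ¬ 5 ∣ orderOf K.x := by rw [orderOf_mem K.D23 K.hx K.hx1]; norm_num
  obtain ⟨h1, h2⟩ := rel_coord D hy K.hr11 K.eq_y hθ
  obtain ⟨h3, h4⟩ := rel_coord D hx K.hr23 K.eq_x hθ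
  have h0 := D.rel_one hθ
  obtain ⟨ht1, ht2⟩ := K.triv_coord
  rw [← Finset.add_sum_erase _ _ D.trivX, SmallExc.PBlk.εX_triv D, one_mul] at h0 h1 h2 h3 h4
  rw [SmallExc.PBlk.charDegree_triv D] at h0
  rw [ht1] at h1 h2
  rw [ht2] at h3 h4
  have hfold : ∀ (l : List (IrrCharacter G)) (v : Search.Vec),
      (l.map fun χ => Search.Vec.smul (D.εX χ) (K.vec χ)).foldl Search.Vec.add v =
      ⟨v.d + (l.map fun χ => D.εX χ * (deg χ : ℤ)).sum, v.a + (l.map fun χ => D.εX χ * (K.cy χ).1).sum,
        v.b + (l.map fun χ => D.εX χ * (K.cy χ).2).sum, v.a' + (l.map fun χ => D.εX χ * (K.cx χ).1).sum,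
        v.b' + (l.map fun χ => D.εX χ * (K.cx χ).2).sum⟩ := by
    intro l
    induction l with
    | nil => intro v; simp
    | cons a l ih =>
      intro v
      rw [List.map_cons, List.foldl_cons, ih]
      simp only [Search.Vec.add, Search.Vec.smul, vec, List.map_cons, List.sum_cons,
        Search.Vec.mk.injEq]
      exact ⟨by ring, by ring, by ring, by ring, by ring⟩
  rw [hfold, ← hL]
  simp only [Finset.sum_map_toList, Search.Vec.smul, vec, Search.Vec.one, Search.Vec.mk.injEq]
  exact ⟨h0, h1, h2, h3, h4⟩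

theorem vec_natAbs {s : ℤ} (hs : s = 1 ∨ s = -1) (χ : IrrCharacter G) :
    (Search.Vec.smul s (K.vec χ)).d.natAbs = deg χ := natAbs_sign_mul hs _

include K in
theorem consist_of {L : List Search.Vec} (h : ∀ u ∈ L, ∃ χ : IrrCharacter G, u.d.natAbs = deg χ) :
    Search.consist L = true := by
  have h11 : ∀ u ∈ L, ∀ w ∈ L, (!(Search.exc11 u.d.natAbs && Search.exc11 w.d.natAbs) ||
      u.d.natAbs == w.d.natAbs) = true := by
    intro u hu w hw
    obtain ⟨χ, hχ⟩ := h u hu
    obtain ⟨χ', hχ'⟩ := h w hw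
    rw [hχ, hχ']
    by_cases hb : Search.exc11 (deg χ) = true ∧ Search.exc11 (deg χ') = true
    · simp [K.deg_Y11 hb.1 hb.2]
    · rw [not_and_or, Bool.not_eq_true, Bool.not_eq_true] at hb
      rcases hb with hb | hb <;> simp [hb]
  have h23 : ∀ u ∈ L, ∀ w ∈ L, (!(Search.exc23 u.d.natAbs && Search.exc23 w.d.natAbs) ||
      u.d.natAbs == w.d.natAbs) = true := by
    intro u hu w hw
    obtain ⟨χ, hχ⟩ := h u hu
    obtain ⟨χ', hχ'⟩ := h w hw
    rw [hχ, hχ']
    by_cases hb : Search.exc23 (deg χ) = true ∧ Search.exc23 (deg χ') = true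
    · simp [K.deg_Y23 hb.1 hb.2]
    · rw [not_and_or, Bool.not_eq_true, Bool.not_eq_true] at hb
      rcases hb with hb | hb <;> simp [hb]
  simp only [Search.consist, List.all_eq_true, Bool.and_eq_true]
  exact fun u hu w hw => ⟨h11 u hu w hw, h23 u hu w hw⟩

include K in
/-- Some character has degree 11, or there are characters of degrees 896, 231 and 2024. -/
theorem five_degrees : (∃ χ : IrrCharacter G, deg χ = 11) ∨
    ((∃ χ : IrrCharacter G, deg χ = 896) ∧ (∃ χ : IrrCharacter G, deg χ = 231) ∧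
      ∃ χ : IrrCharacter G, deg χ = 2024) := by
  have hna := not_comm K.isM23
  obtain ⟨D⟩ := exists_blk K.isM23 5 (m := 2040192) rfl (by norm_num)
  have hdiv : D.e ∈ Nat.divisors 4 := Nat.mem_divisors.2 ⟨D.e_dvd, by norm_num⟩
  rw [show Nat.divisors 4 = {1, 2, 4} by decide] at hdiv
  simp only [Finset.mem_insert, Finset.mem_singleton] at hdiv
  obtain ⟨θ, hθ⟩ := D.Y_nonempty
  have hθ1 := Y_ne_triv D hθ
  obtain ⟨L, hL⟩ : ∃ L, (D.X.erase trivialIrr).toList = L := ⟨_, rfl⟩
  have hlen : L.length + 1 = D.e := by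
    rw [← hL, Finset.length_toList, Finset.card_erase_of_mem D.trivX, D.cardX]
    exact Nat.sub_add_cancel D.e_pos
  have hrel := K.rel_vec D hθ hL
  have hmemL : ∀ χ ∈ L, χ ∈ D.X ∧ χ ≠ trivialIrr := fun χ hχ => by
    rw [← hL, Finset.mem_toList, Finset.mem_erase] at hχ
    exact ⟨hχ.2, hχ.1⟩
  have hU : ∀ χ ∈ L, Search.Vec.smul (D.εX χ) (K.vec χ) ∈ Search.signedVecs 1 := fun χ hχ =>
    K.vec_mem (hmemL χ hχ).2 (D.sign χ (hmemL χ hχ).1) (X_degree_mod D (hmemL χ hχ).1)
  have hmod := Y_degree_mod D hθ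
  rcases hdiv with he | he | he
  · exfalso
    rw [he] at hlen
    rw [List.length_eq_zero_iff.1 (show L.length = 0 by omega)] at hrel
    simp only [List.map_nil, List.foldl_nil] at hrel
    have h : D.ε * (deg θ : ℤ) = 1 := congrArg Search.Vec.d hrel
    have h2 : 2 ≤ deg θ := two_le_degree hna hθ1
    rcases D.hε with e | e <;> rw [e] at h <;> omega
  · exfalso
    rw [he] at hlen hmod
    obtain ⟨a, rfl⟩ := List.length_eq_one_iff.1 (show L.length = 1 by omega)
    simp only [List.map_cons, List.map_nil, List.foldl_cons, List.foldl_nil] at hrel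
    have ha := hU a (by simp)
    have hb : Search.Vec.smul D.ε (K.vec θ) ∈ Search.signedVecs 2 := K.vec_mem hθ1 D.hε (by exact_mod_cast hmod)
    rw [hrel] at hb
    have h := List.all_eq_true.1 Search.two_check _ ha
    rw [List.contains_iff_mem.2 hb, Bool.not_true, Bool.false_or,
      K.consist_of (by
        intro u hu
        simp only [List.mem_cons, List.not_mem_nil, or_false] at hu
        rcases hu with rfl | rfl
        · exact ⟨a, K.vec_natAbs (D.sign a (hmemL a (by simp)).1) a⟩
        · exact ⟨θ, by rw [← hrel]; exact K.vec_natAbs D.hε θ⟩)] at h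
    simp at h
  · rw [he] at hlen hmod
    obtain ⟨a, b, c, rfl⟩ := List.length_eq_three.1 (show L.length = 3 by omega)
    simp only [List.map_cons, List.map_nil, List.foldl_cons, List.foldl_nil] at hrel
    have hε' : -D.ε = 1 ∨ -D.ε = -1 := by rcases D.hε with e | e <;> simp [e]
    have hd : Search.Vec.smul (-D.ε) (K.vec θ) ∈ Search.signedVecs 1 := K.vec_mem hθ1 hε' (by
      obtain ⟨k, hk⟩ := hmod
      push_cast at hk
      exact ⟨-k - 1, by linear_combination -hk⟩)
    have hneg : Search.Vec.smul (-D.ε) (K.vec θ) = Search.Vec.smul (-1) (Search.Vec.smul D.ε (K.vec θ)) := by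
      simp only [Search.Vec.smul, Search.Vec.mk.injEq]
      exact ⟨by ring, by ring, by ring, by ring, by ring⟩
    rw [hneg, hrel] at hd
    have ha := hU a (by simp)
    have hb := hU b (by simp)
    have hc := hU c (by simp)
    have h := Search.four_check ha hb hc
    unfold Search.fourOK at h
    set va := Search.Vec.smul (D.εX a) (K.vec a) with hva
    set vb := Search.Vec.smul (D.εX b) (K.vec b) with hvb
    set vc := Search.Vec.smul (D.εX c) (K.vec c) with hvc
    set vd := Search.Vec.smul (-1) (((Search.Vec.one.add va).add vb).add vc) with hvd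
    have hex : ∀ u ∈ [va, vb, vc, vd], ∃ χ : IrrCharacter G, u.d.natAbs = deg χ := by
      intro u hu
      simp only [List.mem_cons, List.not_mem_nil, or_false] at hu
      rcases hu with rfl | rfl | rfl | rfl
      · exact ⟨a, K.vec_natAbs (D.sign a (hmemL a (by simp)).1) a⟩
      · exact ⟨b, K.vec_natAbs (D.sign b (hmemL b (by simp)).1) b⟩
      · exact ⟨c, K.vec_natAbs (D.sign c (hmemL c (by simp)).1) c⟩
      · exact ⟨θ, by rw [hvd, ← hrel, ← hneg]; exact K.vec_natAbs hε' θ⟩
    rw [List.contains_iff_mem.2 hd, Bool.not_true, Bool.false_or, K.consist_of hex, Bool.not_true,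
      Bool.false_or] at h
    have find : ∀ n : ℕ, (([va, vb, vc, vd] : List Search.Vec).any fun u => u.d.natAbs == n) = true →
        ∃ χ : IrrCharacter G, deg χ = n := fun n hn => by
      obtain ⟨u, hu, hun⟩ := List.any_eq_true.1 hn
      obtain ⟨χ, hχ⟩ := hex u hu
      exact ⟨χ, by rw [← hχ]; exact beq_iff_eq.1 hun⟩
    simp only [Search.wanted, Bool.or_eq_true, Bool.and_eq_true] at h
    rcases h with h | ⟨⟨h1, h2⟩, h3⟩
    · exact Or.inl (find 11 h)
    · exact Or.inr ⟨find 896 h1, find 231 h2, find 2024 h3⟩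

end Ctx

end Cfsg.Agent.H90.MTwentyThree
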