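import Cfsg.Agent.H90.MTwentyThree.Five
import Cfsg.Agent.CharInduce.Ops
import Cfsg.Agent.CharBasic.Virtual

/-!
No character has degree 11: the product with its conjugate has a real value at an element of order 23
which characters of degree at most 120 cannot give.
-/

set_option autoImplicit false
set_option linter.unusedSectionVars false
set_option linter.style.haveILetI false
set_option maxRecDepth 100000

open scoped ComplexConjugate Classical

namespace Cfsg.Agent.H90.MTwentyThree

open CharBasic Subgroup BlockBasic H86 H86.MTwentyTwo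

universe u

theorem small_re_check : (Search.candT.all fun d => Nat.ble 121 d || d == 12 ||
    (Search.kinds 23 11 d).all fun k => decide (k.1 ≤ 0)) = true := by
  decide +kernel

local instance : Fact (Nat.Prime 11) := ⟨by norm_num⟩
local instance : Fact (Nat.Prime 23) := ⟨by norm_num⟩

variable {G : Type u} [Group G] [Fintype G] [IsSimpleGroup G] (K : Ctx G)

namespace Ctx

include K in
theorem no_eleven (ζ : IrrCharacter G) : deg ζ ≠ 11 := by
  intro h11
  have hexc : Search.exc23 (deg ζ) = true := by simp [h11, Search.exc23]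
  have hk := K.kind_x ζ
  rw [h11] at hk
  simp [Search.kinds] at hk
  have hnorm : Complex.normSq ((ζ : G → ℂ) K.x) = 6 := by
    have he := K.eq_x ζ
    have hc := congrArg (conj : ℂ → ℂ) he
    simp only [map_mul, map_add, map_ofNat, map_intCast, conj_root K.hr23] at hc
    have hab : (K.cx ζ).1 = -1 ∧ (K.cx ζ).2 * (K.cx ζ).2 = 1 := by
      rcases hk with h | h <;> rw [h] <;> norm_num
    have h4 : 4 * ((ζ : G → ℂ) K.x * conj ((ζ : G → ℂ) K.x)) = 24 := by
      have hb : ((K.cx ζ).2 : ℂ) * ((K.cx ζ).2 : ℂ) = 1 := by exact_mod_cast hab.2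
      have hr : K.r23 * K.r23 = -23 := by rw [K.hr23]; norm_num
      rw [hab.1] at he hc
      push_cast at he hc
      linear_combination (2 * conj ((ζ : G → ℂ) K.x)) * he + (-1 + ((K.cx ζ).2 : ℂ) * K.r23) * hc -
        (K.r23 * K.r23) * hb - hr
    rw [Complex.mul_conj] at h4
    have h4' : 4 * Complex.normSq ((ζ : G → ℂ) K.x) = 24 := by exact_mod_cast h4
    linarith
  set Φ : G → ℂ := (ζ : G → ℂ) * fun g => conj ((ζ : G → ℂ) g) with hΦ
  have hchar : IsCharacter G Φ := CharInduce.IsChar.mul (IsIrr.isCharacter ζ.2)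
    (CharInduce.IsChar.conj (IsIrr.isCharacter ζ.2))
  obtain ⟨m, hm, hsum⟩ := IsChar.exists_nat_mult hchar
  have hm1 : m trivialIrr = 1 := by
    have h := hm trivialIrr
    rw [classInner_def] at h
    have h' := classInner_irr_self ζ.2
    rw [classInner_def] at h'
    have : ((m trivialIrr : ℕ) : ℂ) = 1 := by
      rw [← h, ← h']
      simp [hΦ, trivialIrr]
    exact_mod_cast this
  have h1 := congrFun hsum 1
  have hx := congrFun hsum K.x
  simp only [hΦ, Pi.mul_apply, Finset.sum_apply, Pi.smul_apply, smul_eq_mul, apply_one_eq_charDegree,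
    Complex.conj_natCast, Complex.mul_conj, hnorm] at h1 hx
  rw [show charDegree (ζ : G → ℂ) = 11 from h11] at h1
  rw [← Finset.add_sum_erase _ _ (Finset.mem_univ trivialIrr), hm1] at h1 hx
  rw [SmallExc.PBlk.charDegree_triv K.D11] at h1
  have h1' : 1 + ∑ ψ ∈ (Finset.univ : Finset (IrrCharacter G)).erase trivialIrr, m ψ * deg ψ = 121 := by
    have hN : ((1 + ∑ ψ ∈ (Finset.univ : Finset (IrrCharacter G)).erase trivialIrr,
        m ψ * deg ψ : ℕ) : ℂ) = ((121 : ℕ) : ℂ) := by
      push_cast
      rw [show (121 : ℂ) = 11 * 11 by norm_num]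
      push_cast at h1
      simp only [deg]
      linear_combination -h1
    exact_mod_cast hN
  have hxre := congrArg Complex.re hx
  rw [show ((trivialIrr : IrrCharacter G) : G → ℂ) K.x = 1 from rfl] at hxre
  simp only [Complex.add_re, Complex.re_sum, Nat.cast_one, one_mul, Complex.one_re,
    Complex.ofReal_re, Complex.mul_re, Complex.natCast_re, Complex.natCast_im, zero_mul, sub_zero] at hxre
  have hle : ∀ ψ ∈ (Finset.univ : Finset (IrrCharacter G)).erase trivialIrr,
      (m ψ : ℝ) * ((ψ : G → ℂ) K.x).re ≤ 0 := by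
    intro ψ hψ
    by_cases h0 : m ψ = 0
    · simp [h0]
    have hψ1 := Finset.ne_of_mem_erase hψ
    have hd : deg ψ ≤ 120 := by
      have hle := Finset.single_le_sum (f := fun ψ => m ψ * deg ψ) (fun _ _ => Nat.zero_le _) hψ
      have : deg ψ ≤ m ψ * deg ψ := Nat.le_mul_of_pos_left _ (Nat.pos_of_ne_zero h0)
      try simp only at hle
      omega
    have hne12 : deg ψ ≠ 12 := fun e => by
      have := K.deg_Y23 hexc (show Search.exc23 (deg ψ) = true by simp [e, Search.exc23])
      omega
    have hc := List.all_eq_true.1 small_re_check (deg ψ) (K.mem_candT hψ1)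
    simp only [Bool.or_eq_true, Nat.ble_eq, beq_iff_eq, show ¬ 121 ≤ deg ψ by omega, hne12, false_or,
      List.all_eq_true, decide_eq_true_eq] at hc
    have ha := hc _ (K.kind_x ψ)
    have hre : 2 * ((ψ : G → ℂ) K.x).re = ((K.cx ψ).1 : ℝ) := by
      have h := congrArg Complex.re (K.eq_x ψ)
      have hr0 : K.r23.re = 0 := by
        have := congrArg Complex.re (conj_root K.hr23)
        rw [Complex.conj_re, Complex.neg_re] at this
        linarith
      simpa [hr0] using h
    have : ((K.cx ψ).1 : ℝ) ≤ 0 := by exact_mod_cast ha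
    exact mul_nonpos_of_nonneg_of_nonpos (Nat.cast_nonneg _) (by linarith)
  have := Finset.sum_nonpos hle
  linarith

include K in
theorem exists_big : (∃ χ : IrrCharacter G, deg χ = 896) ∧ (∃ χ : IrrCharacter G, deg χ = 231) ∧
    ∃ χ : IrrCharacter G, deg χ = 2024 :=
  K.five_degrees.resolve_left fun ⟨χ, hχ⟩ => K.no_eleven χ hχ

end Ctx

end Cfsg.Agent.H90.MTwentyThree
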