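import Cfsg.Agent.H90.MTwentyThree.Search
import Mathlib.Data.Nat.Prime.Basic
import Mathlib.Tactic.IntervalCases
import Mathlib.Tactic.NormNum

/-!
The lists of signed degrees at the prime 11.
-/

set_option autoImplicit false
set_option maxRecDepth 100000
set_option Elab.async false

namespace Cfsg.Agent.H90.MTwentyThree.Search

/-- The possible signed degrees at 11. -/
def degs11 : List ℤ := [23, 45, -230, -252, 276, -483, -736, 1035, 1288, -2760]

/-- The signed degrees left with five orbits, by increasing absolute value. -/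
def degs5 : List ℤ := [23, -230, 276, -483, -736, 1035, 1288, -2760]

/-- The residues of degrees modulo 23. -/
def ok23 (d : ℕ) : Bool :=
  d % 23 == 0 || d % 23 == 1 || d % 23 == 22 || d % 23 == 11 || d % 23 == 12

/-- The value at an element of order 23 of a character of degree `d`, if rational. -/
def xval (d : ℕ) : ℤ := if d % 23 == 1 then 1 else if d % 23 == 22 then -1 else 0

/-- The signed value at an element of order 23. -/
def gval (F : ℤ) : ℤ := if 0 < F then xval F.natAbs else -(xval F.natAbs)

theorem degs11_complete : ((List.range 3194).all fun d => !(Nat.ble 2 d && N % d == 0 && ok23 d) ||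
    ([(d : ℤ), -(d : ℤ)].all fun F => !((F - 1) % 11 == 0 && !(small 11 F)) ||
      degs11.contains F)) = true := by
  decide +kernel

/-- The exceptional signed degrees with five orbits and rational positive signed value. -/
theorem exc5_complete : ((List.range 3194).all fun d =>
    !(Nat.ble 2 d && N % d == 0 && (d % 23 == 0 || d % 23 == 1 || d % 23 == 22)) ||
    ([(d : ℤ), -(d : ℤ)].all fun F => !((F - 5) % 11 == 0 && decide (0 < gval F)) ||
      (F == -160))) = true := by
  decide +kernel

theorem degs11_gval : (degs11.all fun F => F == 45 ||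
    (decide (0 ≤ gval F) && (F == -252 || gval F == 0))) = true := by
  decide +kernel

/-- The possible cofactors of `22` in the centraliser orders, by the power of two. -/
def cof11 (a : ℕ) : List ℕ :=
  ((divProd [9, 5, 7]).filter fun b => b % 3 == 0 || b % 5 == 0).map (2 ^ a * ·)

theorem mem_cof11 {k : ℕ} (h : k ∣ 20160) (h35 : 3 ∣ k ∨ 5 ∣ k) : ∃ a ≤ 6, k ∈ cof11 a := by
  rw [show (20160 : ℕ) = 2 ^ 6 * [9, 5, 7].prod by norm_num, Nat.dvd_mul] at h
  obtain ⟨x, b, hx, hb, rfl⟩ := h
  obtain ⟨a, ha, rfl⟩ := (Nat.dvd_prime_pow Nat.prime_two).1 hx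
  refine ⟨a, ha, List.mem_map.2 ⟨b, List.mem_filter.2 ⟨mem_divProd _ (by simp) b hb, ?_⟩, rfl⟩⟩
  have hco : ∀ q, Nat.Prime q → q ≠ 2 → q ∣ 2 ^ a * b → q ∣ b := fun q hq hq2 hd =>
    (hq.dvd_mul.1 hd).resolve_left fun e =>
      hq2 ((Nat.prime_dvd_prime_iff_eq hq Nat.prime_two).1 (hq.dvd_of_dvd_pow e))
  simp only [Bool.or_eq_true, beq_iff_eq]
  rcases h35 with h3 | h5
  · exact Or.inl (Nat.mod_eq_zero_of_dvd (hco 3 Nat.prime_three (by norm_num) h3))
  · exact Or.inr (Nat.mod_eq_zero_of_dvd (hco 5 Nat.prime_five (by norm_num) h5))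

/-- The leaf test. -/
def leaf11 (c : ℕ) (st : St) : Bool := !(excOK 11 5 2 c st && st.s == -160 && sqNum st == 0)

/-- One centraliser order. -/
def check11 (k : ℕ) : Bool :=
  okOpts (opts 11 degs5 (22 * k)) &&
    go (22 * k) (leaf11 (22 * k)) 4 (opts 11 degs5 (22 * k)) St.init

end Cfsg.Agent.H90.MTwentyThree.Search
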