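import Cfsg.Agent.H90.MTwentyThree.TwentyThree
import Cfsg.Agent.H90.MTwentyThree.Search11

/-!
Degrees and values at an element of order 23.
-/

set_option autoImplicit false
set_option linter.unusedSectionVars false
set_option linter.style.haveILetI false

open scoped ComplexConjugate Classical

namespace Cfsg.Agent.H90.MTwentyThree

open CharBasic Subgroup BlockBasic H86 H86.MTwentyTwo

universe u

variable {G : Type u} [Group G] [Fintype G] [IsSimpleGroup G] [hp : Fact (Nat.Prime 23)]
  (D : SmallExc.PBlk G 23)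

include D in
theorem res23 (hG : IsM23 G) (χ : IrrCharacter G) : Search.ok23 (deg χ) = true := by
  obtain ⟨hC, he⟩ := twentythree hG D
  by_cases h1 : χ ∈ D.X
  · have hm := X_degree_mod D h1
    unfold deg
    simp only [Search.ok23, Bool.or_eq_true, beq_iff_eq]
    rcases D.sign χ h1 with e | e <;> rw [e] at hm <;> omega
  by_cases h2 : χ ∈ D.Y
  · have hm := Y_degree_mod D h2
    rw [he] at hm
    unfold deg
    simp only [Search.ok23, Bool.or_eq_true, beq_iff_eq]
    rcases D.hε with e | e <;> rw [e] at hm <;> omega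
  have hd := Nat.mod_eq_zero_of_dvd (dvd_degree_outside D hC h1 h2)
  simp [Search.ok23, hd]

/-- A rational value at `x` excludes the degrees congruent to `±11`. -/
theorem res23_of_int (hG : IsM23 G) {x : G} (hx : x ∈ (D.P : Subgroup G)) (hx1 : x ≠ 1)
    {χ : IrrCharacter G} {n : ℤ} (hn : (χ : G → ℂ) x = n) :
    deg χ % 23 = 0 ∨ deg χ % 23 = 1 ∨ deg χ % 23 = 22 := by
  obtain ⟨hC, he⟩ := twentythree hG D
  have h := congr_value D (χ := χ) (one_mem (Cent D)) (reg_one (D := D)) hx
  rw [mul_one, hn, apply_one_eq_charDegree, ← Int.cast_natCast, ← Int.cast_sub,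
    memLocalIdeal_intCast_iff D.hM] at h
  have hsq : n ^ 2 ≤ 23 := by
    have h2 := second_orthogonality_self (G := G) x
    rw [centralizer_mem D hx hx1, hC, show Nat.card (D.P : Subgroup G) = 23 from D.card_P] at h2
    simp only [Complex.mul_conj] at h2
    have h3 : ∑ ψ : IrrCharacter G, Complex.normSq ((ψ : G → ℂ) x) = (23 : ℝ) := by exact_mod_cast h2
    have h4 := Finset.single_le_sum (f := fun ψ : IrrCharacter G => Complex.normSq ((ψ : G → ℂ) x))
      (fun ψ _ => Complex.normSq_nonneg _) (Finset.mem_univ χ)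
    rw [h3, hn, Complex.normSq_intCast] at h4
    have h5 : ((n ^ 2 : ℤ) : ℝ) ≤ ((23 : ℤ) : ℝ) := by push_cast; rw [sq]; exact h4
    exact_mod_cast h5
  have hn1 : -4 ≤ n ∧ n ≤ 4 := ⟨by nlinarith, by nlinarith⟩
  have hr := res23 D hG χ
  simp only [Search.ok23, Bool.or_eq_true, beq_iff_eq] at hr
  unfold deg at hr ⊢
  omega

/-- The value at `x`. -/
theorem val23 (hG : IsM23 G) {x : G} (hx : x ∈ (D.P : Subgroup G)) (hx1 : x ≠ 1)
    {χ : IrrCharacter G} (hr : deg χ % 23 = 0 ∨ deg χ % 23 = 1 ∨ deg χ % 23 = 22) :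
    (χ : G → ℂ) x = Search.xval (deg χ) := by
  obtain ⟨hC, he⟩ := twentythree hG D
  by_cases h1 : χ ∈ D.X
  · rw [D.val_P h1 hx hx1]
    have hm := X_degree_mod D h1
    congr 1
    unfold Search.xval deg
    rcases D.sign χ h1 with e | e <;> rw [e] at hm ⊢
    · rw [if_pos (by simp only [beq_iff_eq]; omega)]
    · rw [if_neg (by simp only [beq_iff_eq]; omega), if_pos (by simp only [beq_iff_eq]; omega)]
  by_cases h2 : χ ∈ D.Y
  · exfalso
    have hm := Y_degree_mod D h2
    rw [he] at hm
    unfold deg at hr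
    rcases D.hε with e | e <;> rw [e] at hm <;> omega
  rw [D.vanish hC h1 h2 hx hx1]
  have hd := Nat.mod_eq_zero_of_dvd (dvd_degree_outside D hC h1 h2)
  unfold Search.xval
  simp [hd]

/-- An element of order 23 centralises no nonidentity element outside its subgroup. -/
theorem not_dvd_centralizer (hG : IsM23 G) {y : G} {q : ℕ} (hq : q.Prime) (hne : q ≠ 23)
    (hy : orderOf y = q) : ¬ 23 ∣ Nat.card (centralizer ({y} : Set G)) := by
  intro h
  obtain ⟨⟨w, hw⟩, hwo⟩ := exists_prime_orderOf_dvd_card' (G := ↥(centralizer ({y} : Set G))) 23 h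
  rw [Subgroup.orderOf_mk] at hwo
  haveI : Finite G := finite_of_isM23 hG
  obtain ⟨Q, hQ⟩ := (IsPGroup.of_card (p := 23) (n := 1)
    (by rw [Nat.card_zpowers, hwo, pow_one] : Nat.card (zpowers w) = 23 ^ 1)).exists_le_sylow
  have hQc : Nat.card Q = 23 := by
    rw [H36.card_sylow_eq (card_eq hG) Q (a := 1) (m := 443520) (by norm_num [Search.N])
      (by norm_num), pow_one]
  obtain ⟨D', hD'⟩ := SmallExc.exists_pblk Q hQc
  obtain ⟨hC', -⟩ := twentythree hG D'
  have hwQ : w ∈ (D'.P : Subgroup G) := hD' ▸ hQ (mem_zpowers w)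
  have hw1 : w ≠ 1 := fun e => by rw [e, orderOf_one] at hwo; norm_num at hwo
  have hyC : y ∈ (D'.P : Subgroup G) := by
    rw [← hC', ← centralizer_mem D' hwQ hw1, mem_centralizer_singleton_iff]
    exact (mem_centralizer_singleton_iff.1 hw).symm
  by_cases hy1 : y = 1
  · rw [hy1, orderOf_one] at hy; exact hq.ne_one hy.symm
  · exact hne (hy.symm.trans (orderOf_mem D' hyC hy1))

end Cfsg.Agent.H90.MTwentyThree
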