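import Cfsg.Agent.H90.MTwentyThree.Search
import Mathlib.Data.Nat.Prime.Basic
import Mathlib.Tactic.IntervalCases
import Mathlib.Tactic.NormNum

/-!
The search at the prime 23.
-/

set_option autoImplicit false
set_option maxRecDepth 100000
set_option Elab.async false

namespace Cfsg.Agent.H90.MTwentyThree.Search

/-- The possible signed degrees at 23. -/
def degs23 : List ℤ := [70, -160, 231, -252, -528, 576, -896, 990, -1540, 1680]

theorem degs23_complete : ((List.range 3194).all fun d => !(Nat.ble 2 d && N % d == 0) ||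
    ([(d : ℤ), -(d : ℤ)].all fun F => !((F - 1) % 23 == 0 && !(small 23 F)) ||
      degs23.contains F)) = true := by
  decide +kernel

/-- The cofactors of `46` in the possible centraliser orders, in groups by the power of two. -/
def cof23 (a : ℕ) : List ℕ := (divProd [9, 5, 7, 11]).map (2 ^ a * ·)

theorem mem_cof23 {k : ℕ} (h : k ∣ 221760) : ∃ a ≤ 6, k ∈ cof23 a := by
  rw [show (221760 : ℕ) = 2 ^ 6 * [9, 5, 7, 11].prod by norm_num, Nat.dvd_mul] at h
  obtain ⟨x, b, hx, hb, rfl⟩ := h
  obtain ⟨a, ha, rfl⟩ := (Nat.dvd_prime_pow Nat.prime_two).1 hx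
  exact ⟨a, ha, List.mem_map.2 ⟨b, mem_divProd _ (by simp) b hb, rfl⟩⟩

/-- One centraliser order. -/
def check23 (e t k : ℕ) : Bool :=
  k == 221760 || (okOpts (opts 23 degs23 (46 * k)) &&
    go (46 * k) (fun st => !(excOK 23 e t (46 * k) st)) (e - 1) (opts 23 degs23 (46 * k)) St.init)

end Cfsg.Agent.H90.MTwentyThree.Search
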