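import Cfsg.Agent.H90.MTwentyThree.Basic

/-!
The values at an involution centralising a Sylow subgroup of prime order give a leaf of the search.
-/

set_option autoImplicit false
set_option linter.unusedSectionVars false
set_option linter.style.haveILetI false

open scoped ComplexConjugate Classical

namespace Cfsg.Agent.H90.MTwentyThree

open CharBasic Subgroup BlockBasic H86 H86.MTwentyTwo

universe u

variable {G : Type u} [Group G] [Fintype G] [IsSimpleGroup G] {p : ℕ} [hp : Fact p.Prime]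
  (D : SmallExc.PBlk G p)

theorem small_eq_false {F : ℤ} (h : ¬ H36.BlockDegree.Small p F) : Search.small p F = false := by
  unfold H36.BlockDegree.Small at h
  simp only [Search.small, Bool.or_eq_false_iff, beq_eq_false_iff_ne]
  omega

set_option maxHeartbeats 800000 in
/-- A leaf of the search. -/
theorem search_apply (hG : IsM23 G) (hp11 : 11 ≤ p) {Fs : List ℤ}
    (hFs : ∀ F ∈ signedX D, F ∈ Fs) {z : G} (hzC : z ∈ Cent D) (hz : orderOf z = 2) {c : ℕ}
    (hc : Nat.card (centralizer ({z} : Set G)) = c) {leaf : Search.St → Bool}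
    (hok : Search.okOpts (Search.opts p Fs c) = true)
    (hgo : Search.go c leaf (D.e - 1) (Search.opts p Fs c) Search.St.init = true) :
    ∃ st : Search.St, leaf st = true ∧ Search.excOK p D.e D.t c st = true ∧
      ∃ v : IrrCharacter G → ℤ, (∀ χ : IrrCharacter G, (χ : G → ℂ) z = v χ) ∧ ∀ θ ∈ D.Y,
        st.s = D.ε * (deg θ : ℤ) ∧ (Search.sqNum st : ℚ) = (Search.N : ℚ) * sqSum D v θ := by
  have hna := not_comm hG
  have hN : Nat.card G = Search.N := card_eq hG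
  obtain ⟨v, hv, hv1, hvr⟩ := exists_vals hG hz
  have hzreg : ¬ p ∣ orderOf z := by
    rw [hz]; exact fun h => by have := Nat.le_of_dvd (by norm_num) h; omega
  set h := (centralizer ({z} : Set G)).index with hh
  have hheq : Search.N / c = h := hc ▸ index_centralizer_eq hG z
  set g : IrrCharacter G → ℤ × ℤ := fun χ => (D.εX χ * (deg χ : ℤ), D.εX χ * v χ) with hg
  set X' := D.X.erase trivialIrr with hX'
  have hsq : ∀ χ ∈ D.X, D.εX χ * D.εX χ = 1 := fun χ hχ => by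
    rcases D.sign χ hχ with e | e <;> simp [e]
  have hXdeg := sum_deg_sq_le (D.X ∪ D.Y)
  have hXval := sum_sq_le_centralizer hv (D.X ∪ D.Y)
  rw [Finset.sum_union D.disj] at hXdeg hXval
  rw [hN] at hXdeg
  rw [hc] at hXval
  obtain ⟨θ, hθ⟩ := D.Y_nonempty
  set d := (deg θ : ℤ) with hd
  have hθ' : ∀ θ' ∈ D.Y, (deg θ' : ℤ) = d ∧ v θ' = v θ := fun θ' hθ' => by
    have e := D.agree θ' hθ' θ hθ z hzreg
    rw [hv, hv] at e
    exact ⟨by rw [hd]; exact_mod_cast D.degree_Y hθ' hθ, by exact_mod_cast e⟩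
  rw [Finset.sum_congr rfl (g := fun _ => d ^ 2) (fun θ' h' => by rw [← (hθ' θ' h').1] :
      ∀ θ' ∈ D.Y, (charDegree (θ' : G → ℂ) : ℤ) ^ 2 = d ^ 2), Finset.sum_const, nsmul_eq_mul,
    ← Finset.add_sum_erase _ _ D.trivX, SmallExc.PBlk.charDegree_triv D, card_Y_eq D] at hXdeg
  rw [Finset.sum_congr rfl (g := fun _ => v θ ^ 2) (fun θ' h' => by rw [(hθ' θ' h').2] :
      ∀ θ' ∈ D.Y, v θ' ^ 2 = v θ ^ 2), Finset.sum_const, nsmul_eq_mul,
    ← Finset.add_sum_erase _ _ D.trivX, hv1, card_Y_eq D] at hXval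
  have hopt : ∀ χ ∈ X', g χ ∈ Search.pairs (Search.opts p Fs c) ∧
      ((g χ).1 : ℤ) ∣ (Search.N : ℤ) := by
    intro χ hχ
    obtain ⟨hχ1, hχX⟩ := Finset.mem_erase.1 hχ
    obtain ⟨h4, hlo, hhi⟩ := hvr χ hχ1
    have hs := D.sign χ hχX
    have hdvdN : (g χ).1 ∣ (Search.N : ℤ) := by
      simp only [hg]
      have := Int.natCast_dvd_natCast.2 (deg_dvd hG χ)
      rcases hs with e | e <;> rw [e] <;> simpa using this
    refine ⟨?_, hdvdN⟩
    have hmem : D.εX χ * (deg χ : ℤ) ∈ signedX D :=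
      List.mem_map.2 ⟨χ, Finset.mem_toList.2 hχ, rfl⟩
    refine Search.mem_opts hp11 hheq (hFs _ hmem) ?_ ?_ ?_ ?_ ?_ ?_
    · have := deg_lt hG χ
      rcases hs with e | e <;> rw [e] <;> simpa using this
    · obtain ⟨m, hm⟩ := Int.modEq_iff_dvd.1 (val_X_modEq D hχX hzC hzreg (hv χ)).symm
      exact ⟨D.εX χ * m, by linear_combination D.εX χ * hm + hsq χ hχX⟩
    · rw [mul_mul_mul_comm, hsq χ hχX, one_mul, ← sq]
      have hle : v χ ^ 2 ≤ ∑ χ ∈ X', v χ ^ 2 :=
        Finset.single_le_sum (f := fun χ : IrrCharacter G => v χ ^ 2) (fun _ _ => sq_nonneg _) hχ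
      have h2 : (0 : ℤ) ≤ (D.t : ℤ) * v θ ^ 2 := by positivity
      linarith
    · rcases hs with e | e <;> rw [e] <;> omega
    · rcases hs with e | e <;> rw [e] <;> omega
    · have := dvd_index_mul χ (hv χ)
      rcases hs with e | e <;> rw [e] <;>
        refine Int.emod_eq_zero_of_dvd ?_ <;> simpa using this
  set L := X'.toList.map g with hL'
  have hlen : L.length = D.e - 1 := by
    rw [hL', List.length_map, Finset.length_toList, hX', Finset.card_erase_of_mem D.trivX, D.cardX]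
  set T := D.ε * d with hT
  set w := D.ε * v θ with hw
  have hs : 1 + ∑ χ ∈ X', D.εX χ * (deg χ : ℤ) = T := by
    rw [hT, hd, deg, D.rel_one hθ, ← Finset.add_sum_erase _ _ D.trivX, SmallExc.PBlk.εX_triv D,
      SmallExc.PBlk.charDegree_triv D, Nat.cast_one, mul_one]
  have hsu : 1 + ∑ χ ∈ X', D.εX χ * v χ = w := by
    rw [hw, sign_eq D hzreg (fun χ _ => hv χ) hθ, ← Finset.add_sum_erase _ _ D.trivX,
      SmallExc.PBlk.εX_triv D, hv1, mul_one]
  set SN := (Search.N : ℤ) + ∑ χ ∈ X', (Search.N : ℤ) / (D.εX χ * (deg χ : ℤ)) *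
      (D.εX χ * v χ * (D.εX χ * v χ)) with hSN
  have hst : Search.St.init.addL L = ⟨T, 1 + ∑ χ ∈ X', (deg χ : ℤ) ^ 2, w,
      1 + ∑ χ ∈ X', v χ ^ 2, SN⟩ := by
    rw [hL', Search.addL_map]
    simp only [Search.St.init, hg, Finset.sum_map_toList, Search.St.mk.injEq]
    refine ⟨hs, ?_, hsu, ?_, hSN.symm⟩ <;> congr 1 <;> refine Finset.sum_congr rfl fun χ hχ => ?_
    · rw [mul_mul_mul_comm, hsq χ (Finset.mem_of_mem_erase hχ), one_mul, sq]
    · rw [mul_mul_mul_comm, hsq χ (Finset.mem_of_mem_erase hχ), one_mul, sq]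
  have hεsq : D.ε * D.ε = 1 := by rcases D.hε with e | e <;> simp [e]
  have hθtriv : θ ≠ trivialIrr := fun e => Finset.disjoint_left.1 D.disj D.trivX (e ▸ hθ)
  obtain ⟨hw4, hwlo, hwhi⟩ := hvr θ hθtriv
  have hTN : T ∣ (Search.N : ℤ) := by
    have hdd := Int.natCast_dvd_natCast.2 (deg_dvd hG θ)
    rw [hT]
    rcases D.hε with e | e <;> simpa [e, hd] using hdd
  have hTe : (p : ℤ) ∣ T - D.e := Y_degree_mod D hθ
  have hwe : (p : ℤ) ∣ w - D.e := by
    obtain ⟨m, hm⟩ := Int.modEq_iff_dvd.1 (val_Y_modEq D hθ hzC hzreg (hv θ)).symm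
    exact ⟨D.ε * m, by rw [hw]; linear_combination D.ε * hm + (D.e : ℤ) * hεsq⟩
  have hhw : T ∣ (h : ℤ) * w := by
    rw [hT, hw, mul_left_comm]
    exact mul_dvd_mul_left _ (dvd_index_mul θ (hv θ))
  have hTnat : T.natAbs = deg θ := by
    rw [hT, hd]; rcases D.hε with e | e <;> simp [e]
  have hwnat : w.natAbs = (v θ).natAbs := by
    rw [hw]; rcases D.hε with e | e <;> simp [e]
  have hsmall : Search.small p (-(D.t : ℤ) * T) = false :=
    small_eq_false ((not_small_signed D hna Nat.prime_two (by omega) hzC hz).2 θ hθ)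
  have hdpos : 0 < deg θ := charDegree_pos θ
  have hOK : Search.excOK p D.e D.t c (Search.St.init.addL L) = true := by
    rw [hst]
    simp only [Search.excOK, Bool.and_eq_true, decide_eq_true_eq, beq_iff_eq, hsmall, Bool.not_false,
      hTnat, hwnat, and_true, hheq]
    refine ⟨⟨⟨⟨⟨⟨⟨⟨?_, ?_⟩, ?_⟩, ?_⟩, ?_⟩, ?_⟩, ?_⟩, ?_⟩, ?_⟩
    · omega
    · exact Nat.mod_eq_zero_of_dvd (deg_dvd hG θ)
    · exact Int.emod_eq_zero_of_dvd hTe
    · rw [hT, mul_mul_mul_comm, hεsq, one_mul, ← sq]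
      push_cast at hXdeg
      linarith
    · exact Int.emod_eq_zero_of_dvd hwe
    · omega
    · rw [hT, hw]; rcases D.hε with e | e <;> rw [e] <;> omega
    · exact Int.emod_eq_zero_of_dvd hhw
    · rw [hw, mul_mul_mul_comm, hεsq, one_mul, ← sq]
      linarith
  have hnum : ((Search.sqNum (Search.St.init.addL L) : ℤ) : ℚ) = (Search.N : ℚ) * sqSum D v θ := by
    rw [hst, Search.sqNum, hSN, sqSum, ← Finset.add_sum_erase _ _ D.trivX,
      SmallExc.PBlk.εX_triv D, hv1, SmallExc.PBlk.charDegree_triv D, mul_sub, mul_add]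
    push_cast [Int.cast_sum]
    have hX : ∀ χ ∈ X', (((Search.N : ℤ) / (D.εX χ * (deg χ : ℤ)) : ℤ) : ℚ) *
        ((D.εX χ : ℚ) * v χ * ((D.εX χ : ℚ) * v χ)) =
        (Search.N : ℚ) * ((D.εX χ : ℚ) * (v χ : ℚ) ^ 2 / (charDegree (χ : G → ℂ) : ℚ)) := by
      intro χ hχ
      have h1 : ((D.εX χ : ℚ) * (deg χ : ℚ)) ≠ 0 := by
        have := charDegree_pos χ
        rcases D.sign χ (Finset.mem_of_mem_erase hχ) with e | e <;> simp [e, deg] <;> omega
      rw [Int.cast_div (by simpa [hg] using (hopt χ hχ).2) (by push_cast; exact h1)]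
      push_cast
      have h2 : (D.εX χ : ℚ) * (D.εX χ : ℚ) = 1 := by
        exact_mod_cast hsq χ (Finset.mem_of_mem_erase hχ)
      have h3 : (charDegree (χ : G → ℂ) : ℚ) ≠ 0 := Nat.cast_ne_zero.2 (charDegree_pos χ).ne'
      have h4 : (D.εX χ : ℚ) ≠ 0 := fun e => by rw [e] at h2; simp at h2
      field_simp
    rw [Finset.mul_sum, ← Finset.sum_congr rfl hX]
    have hT0 : (T : ℚ) ≠ 0 := by exact_mod_cast (show T ≠ 0 by omega)
    rw [Int.cast_div hTN hT0]
    have h2 : (D.ε : ℚ) * (D.ε : ℚ) = 1 := by exact_mod_cast hεsq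
    have h3 : (charDegree (θ : G → ℂ) : ℚ) ≠ 0 := Nat.cast_ne_zero.2 (charDegree_pos θ).ne'
    have h4 : (D.ε : ℚ) ≠ 0 := fun e => by rw [e] at h2; simp at h2
    rw [hT, hw, hd]
    push_cast
    field_simp
  have hq : (Search.St.init.addL L).q ≤ (Search.N : ℤ) := by
    rw [hst]
    have h2 : (0 : ℤ) ≤ (D.t : ℤ) * d ^ 2 := by positivity
    push_cast at hXdeg
    linarith
  have hr : (Search.St.init.addL L).r ≤ (c : ℤ) := by
    rw [hst]
    have h2 : (0 : ℤ) ≤ (D.t : ℤ) * v θ ^ 2 := by positivity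
    linarith
  have hall : ∀ o ∈ L, o ∈ Search.pairs (Search.opts p Fs c) := fun o ho => by
    obtain ⟨χ, hχ, rfl⟩ := List.mem_map.1 ho
    exact (hopt χ (Finset.mem_toList.1 hχ)).1
  refine ⟨_, Search.go_sound _ _ _ hok hgo L hlen hall hq hr, hOK, v, hv, fun θ₁ hθ₁ => ?_⟩
  refine ⟨?_, ?_⟩
  · rw [hst]
    show T = _
    rw [(hθ' θ₁ hθ₁).1, hT]
  · rw [hnum, sqSum, sqSum, (hθ' θ₁ hθ₁).2]
    congr 3
    exact congrArg Nat.cast (Nat.cast_injective (R := ℤ) (hθ' θ₁ hθ₁).1.symm)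

end Cfsg.Agent.H90.MTwentyThree
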