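import Cfsg.Agent.H90.MTwentyThree.ThreeData

/-!
Kernel verified instances of the search at an element of order 3.
-/

set_option autoImplicit false
set_option maxRecDepth 100000
set_option Elab.async false

namespace Cfsg.Agent.H90.MTwentyThree.Three

theorem checkB0 : ((centList.take 14).all checkReal) = true := by decide +kernel

end Cfsg.Agent.H90.MTwentyThree.Three
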