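import Cfsg.Agent.H90.MTwentyThree.ThreeCheckA0
import Cfsg.Agent.H90.MTwentyThree.ThreeCheckA1
import Cfsg.Agent.H90.MTwentyThree.ThreeCheckB0
import Cfsg.Agent.H90.MTwentyThree.ThreeCheckB1

/-!
The verified searches at an element of order 3, combined.
-/

set_option autoImplicit false
set_option maxRecDepth 100000

namespace Cfsg.Agent.H90.MTwentyThree.Three

theorem check_pair : (centList.all checkPair) = true := by
  rw [← List.take_append_drop 14 centList, List.all_append, checkA0, checkA1]; rfl

theorem check_real : (centList.all checkReal) = true := by
  rw [← List.take_append_drop 14 centList, List.all_append, checkB0, checkB1]; rfl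

end Cfsg.Agent.H90.MTwentyThree.Three
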