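import Cfsg.Agent.H90.MTwentyThree.ThreeValues
import Cfsg.Agent.H90.MTwentyThree.ThreeCheck

/-!
An element of order 3 commuting with an involution is real with centraliser of order 180.
-/

set_option autoImplicit false
set_option linter.unusedSectionVars false
set_option linter.style.haveILetI false
set_option maxRecDepth 100000

open scoped ComplexConjugate Classical

namespace Cfsg.Agent.H90.MTwentyThree

open CharBasic Subgroup BlockBasic H86 H86.MTwentyTwo

universe u

local instance : Fact (Nat.Prime 11) := ⟨by norm_num⟩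
local instance : Fact (Nat.Prime 23) := ⟨by norm_num⟩

variable {G : Type u} [Group G] [Fintype G] [IsSimpleGroup G]

/-- The order of the centraliser of such an element. -/
theorem three_cent_list (hG : IsM23 G) {t z : G} (ht : orderOf t = 3) (hz : orderOf z = 2)
    (hc : Commute t z) :
    Nat.card (centralizer ({t} : Set G)) ∈ Three.centList ∧
      Nat.card (centralizer ({t} : Set G)) ≤ 40320 := by
  haveI : Fact (Nat.Prime 3) := ⟨Nat.prime_three⟩
  haveI : Finite G := finite_of_isM23 hG
  set c := Nat.card (centralizer ({t} : Set G)) with hcdef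
  have h2 : 2 ∣ c := hz ▸ orderOf_dvd_natCard _ (mem_centralizer_singleton_iff.2 hc.symm.eq)
  have h9 : 9 ∣ c := by
    obtain ⟨P, hP⟩ := (IsPGroup.of_card (p := 3) (n := 1)
      (by rw [Nat.card_zpowers, ht, pow_one] : Nat.card (zpowers t) = 3 ^ 1)).exists_le_sylow
    have hPc : Nat.card (P : Subgroup G) = 9 := by
      rw [show Nat.card (P : Subgroup G) = Nat.card P from rfl,
        H36.card_sylow_eq (card_eq hG) P (a := 2) (m := 1133440) (by norm_num [Search.N]) (by norm_num)]
      norm_num
    haveI : IsMulCommutative (P : Subgroup G) :=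
      IsPGroup.isMulCommutative_of_card_eq_prime_sq (p := 3) (by rw [hPc]; norm_num)
    rw [← hPc]
    refine card_dvd_of_le fun a ha => mem_centralizer_singleton_iff.2 ?_
    exact congrArg Subtype.val (mul_comm' (⟨a, ha⟩ : (P : Subgroup G)) ⟨t, hP (mem_zpowers t)⟩)
  have hN : c ∣ 40320 * (11 * 23) := by
    have h := (centralizer ({t} : Set G)).card_subgroup_dvd_card
    rw [card_eq hG] at h
    exact h
  have h40 : c ∣ 40320 := by
    refine Nat.Coprime.dvd_of_dvd_mul_right (Nat.Coprime.mul_right ?_ ?_) hN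
    · exact ((Fact.out : Nat.Prime 11).coprime_iff_not_dvd.2
        (not_dvd_centralizer11 hG Nat.prime_three (by norm_num) ht)).symm
    · exact ((Fact.out : Nat.Prime 23).coprime_iff_not_dvd.2
        (not_dvd_centralizer hG Nat.prime_three (by norm_num) ht)).symm
  exact ⟨Three.mem_centList (Nat.Coprime.mul_dvd_of_dvd_of_dvd (by norm_num) h2 h9) h40,
    Nat.le_of_dvd (by norm_num) h40⟩

namespace Ctx

variable (K : Ctx G)

include K in
theorem agree_three {t : G} (ht : orderOf t = 3) {χ χ' : IrrCharacter G} (hd : deg χ = deg χ')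
    (h : deg χ = 896 ∨ deg χ = 770) : (χ : G → ℂ) t = (χ' : G → ℂ) t := by
  rcases h with h | h
  · exact K.D11.agree χ ((K.mem_Y11 χ).2 (by rw [h]; norm_num)) χ'
      ((K.mem_Y11 χ').2 (by rw [← hd, h]; norm_num)) t (by rw [ht]; norm_num)
  · exact K.D23.agree χ ((K.mem_Y23 χ).2 (by rw [h]; norm_num)) χ'
      ((K.mem_Y23 χ').2 (by rw [← hd, h]; norm_num)) t (by rw [ht]; norm_num)

/-- The doubled real parts as functions of the degree. -/
theorem fy_eq (χ : IrrCharacter G) : (K.cy χ).1 = Three.fy (deg χ) ∧ (K.cx χ).1 = Three.fx (deg χ) := by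
  have key : ∀ d ∈ degrees, (∀ k ∈ Search.kinds 11 5 d, k.1 = Three.fy d) ∧
      ∀ k ∈ Search.kinds 23 11 d, k.1 = Three.fx d := by decide +kernel
  exact ⟨(key _ (K.deg_mem χ)).1 _ (K.kind_y χ), (key _ (K.deg_mem χ)).2 _ (K.kind_x χ)⟩

include K in
/-- The orthogonality with the known columns, for a rational combination `v` of a column. -/
theorem functionals {t : G} (_ht : orderOf t = 3) {z : G} (hz : orderOf z = 2)
    {v : IrrCharacter G → ℤ}
    (hv : ∀ g : G, orderOf g ≠ 3 → ∑ χ : IrrCharacter G, (χ : G → ℂ) g * (v χ : ℂ) = 0) :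
    List.Forall₂ (fun (f : ℕ → ℤ) (_ : Unit) => ∑ χ : IrrCharacter G, f (deg χ) * v χ = 0)
      Three.fsReal (List.replicate 4 ()) := by
  have h1 := hv 1 (by rw [orderOf_one]; norm_num)
  have h2 := hv z (by rw [hz]; norm_num)
  have h3 := hv K.y (by rw [orderOf_mem K.D11 K.hy K.hy1]; norm_num)
  have h4 := hv K.x (by rw [orderOf_mem K.D23 K.hx K.hx1]; norm_num)
  simp only [apply_one_eq_charDegree] at h1
  simp only [(K.column hz).val] at h2
  have hy' : ∑ χ : IrrCharacter G, (K.cy χ).1 * v χ = 0 := by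
    refine (coord_inj K.hr11 (b := ∑ χ : IrrCharacter G, (K.cy χ).2 * v χ) (b' := 0) ?_).1
    rw [Int.cast_zero, zero_mul, add_zero]
    push_cast
    rw [Finset.sum_mul, ← Finset.sum_add_distrib,
      Finset.sum_congr rfl (g := fun χ : IrrCharacter G => 2 * ((χ : G → ℂ) K.y * (v χ : ℂ))) fun χ _ => by
        rw [← mul_assoc, K.eq_y χ]; ring, ← Finset.mul_sum, h3, mul_zero]
  have hx' : ∑ χ : IrrCharacter G, (K.cx χ).1 * v χ = 0 := by
    refine (coord_inj K.hr23 (b := ∑ χ : IrrCharacter G, (K.cx χ).2 * v χ) (b' := 0) ?_).1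
    rw [Int.cast_zero, zero_mul, add_zero]
    push_cast
    rw [Finset.sum_mul, ← Finset.sum_add_distrib,
      Finset.sum_congr rfl (g := fun χ : IrrCharacter G => 2 * ((χ : G → ℂ) K.x * (v χ : ℂ))) fun χ _ => by
        rw [← mul_assoc, K.eq_x χ]; ring, ← Finset.mul_sum, h4, mul_zero]
  simp only [(K.fy_eq _).1] at hy'
  simp only [(K.fy_eq _).2] at hx'
  unfold Three.fsReal
  exact List.Forall₂.cons (by exact_mod_cast h1) (List.Forall₂.cons (by exact_mod_cast h2)
    (List.Forall₂.cons hy' (List.Forall₂.cons hx' List.Forall₂.nil)))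

include K in
/-- Burnside's count of the involutions inverting `t`. -/
theorem pairs_count {t z : G} (hz : orderOf z = 2) :
    (Nat.card G : ℂ) * (Nat.card {a : G // IsConj z a ∧ IsConj z (a⁻¹ * t)} : ℂ) =
      ((centralizer ({z} : Set G)).index : ℂ) * ((centralizer ({z} : Set G)).index : ℂ) *
        ((∑ χ : IrrCharacter G, (Three.fz (deg χ) : ℂ) * (χ : G → ℂ) t) / (Search.N : ℂ)) := by
  rw [H83.card_pairs_mul_card z z t, Finset.sum_div]
  congr 1
  refine Finset.sum_congr rfl fun χ _ => ?_
  rw [(K.column hz).val χ, map_intCast, apply_one_eq_charDegree, Three.fz, Int.cast_mul, Int.cast_natCast,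
    Nat.cast_div (deg_dvd K.isM23 χ) (Nat.cast_ne_zero.2 (charDegree_pos χ).ne')]
  have hN : ((Search.N : ℕ) : ℂ) ≠ 0 := by norm_num [Search.N]
  have hd : ((deg χ : ℕ) : ℂ) ≠ 0 := Nat.cast_ne_zero.2 (charDegree_pos χ).ne'
  push_cast
  field_simp

include K in
/-- A class different from its inverse does not occur. -/
theorem three_real {t z : G} (ht : orderOf t = 3) (hz : orderOf z = 2) (hc : Commute t z) :
    IsConj t t⁻¹ := by
  by_contra hnr
  obtain ⟨hclist, hc40⟩ := three_cent_list K.isM23 ht hz hc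
  set c := Nat.card (centralizer ({t} : Set G)) with hcdef
  have hex : ∀ χ : IrrCharacter G, ∃ s : ℤ, (χ : G → ℂ) t + conj ((χ : G → ℂ) t) = (s : ℂ) ∧
      (χ ≠ trivialIrr → (3 : ℤ) ∣ 2 * (deg χ : ℤ) - s ∧ s.natAbs ≤ 2 * deg χ) := by
    intro χ
    by_cases h : χ = trivialIrr
    · exact ⟨2, by rw [h, show ((trivialIrr : IrrCharacter G) : G → ℂ) t = 1 from rfl, map_one]; norm_num,
        fun h' => absurd h h'⟩
    · obtain ⟨s, h1, h2⟩ := K.three_sum ht h
      exact ⟨s, h1, fun _ => h2⟩
  choose v hv hvr using hex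
  have hv1 : v trivialIrr = 2 := by
    have h := hv trivialIrr
    rw [show ((trivialIrr : IrrCharacter G) : G → ℂ) t = 1 from rfl, map_one] at h
    norm_num at h
    exact_mod_cast h.symm
  have hinvc : ∀ χ : IrrCharacter G, (χ : G → ℂ) t⁻¹ = conj ((χ : G → ℂ) t) := fun χ =>
    IsChar.inv_apply (IsIrr.isCharacter χ.2) t
  have hsq : ∑ χ : IrrCharacter G, v χ * v χ = 2 * (c : ℤ) := by
    have h1 := second_orthogonality_self (G := G) t
    have h2 := second_orthogonality_not_isConj hnr
    simp only [hinvc, Complex.conj_conj] at h2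
    have h3 : ∑ χ : IrrCharacter G, conj ((χ : G → ℂ) t) * conj ((χ : G → ℂ) t) = 0 := by
      have := congrArg conj h2
      simpa [map_sum] using this
    have h : (∑ χ : IrrCharacter G, (v χ : ℂ) * (v χ : ℂ)) = 2 * (c : ℂ) := by
      rw [Finset.sum_congr rfl (g := fun χ : IrrCharacter G => (χ : G → ℂ) t * (χ : G → ℂ) t +
        conj ((χ : G → ℂ) t) * conj ((χ : G → ℂ) t) + 2 * ((χ : G → ℂ) t * conj ((χ : G → ℂ) t)))
        fun χ _ => by rw [← hv χ]; ring, Finset.sum_add_distrib, Finset.sum_add_distrib, h2, h3,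
        ← Finset.mul_sum, h1]
      ring
    exact_mod_cast h
  have hlin : ∀ g : G, orderOf g ≠ 3 → ∑ χ : IrrCharacter G, (χ : G → ℂ) g * (v χ : ℂ) = 0 := by
    intro g hg
    have h1 := second_orthogonality_not_isConj (g := g) (h := t) fun h => hg (by
      obtain ⟨a, ha⟩ := isConj_iff.1 h
      rw [← ht, ← ha, ← MulAut.conj_apply, MulEquiv.orderOf_eq])
    have h2 := second_orthogonality_not_isConj (g := g) (h := t⁻¹) fun h => hg (by
      obtain ⟨a, ha⟩ := isConj_iff.1 h
      rw [← ht, ← orderOf_inv t, ← ha, ← MulAut.conj_apply, MulEquiv.orderOf_eq])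
    simp only [hinvc, Complex.conj_conj] at h2
    rw [Finset.sum_congr rfl (g := fun χ : IrrCharacter G => (χ : G → ℂ) g * (χ : G → ℂ) t +
      (χ : G → ℂ) g * conj ((χ : G → ℂ) t)) fun χ _ => by rw [← hv χ]; ring,
      Finset.sum_add_distrib, h1, h2, add_zero]
  have hzt : ∑ χ : IrrCharacter G, Three.fz (deg χ) * v χ = 0 := by
    have hempty : IsEmpty {a : G // IsConj z a ∧ IsConj z (a⁻¹ * t)} := ⟨fun ⟨a, ha, hb⟩ => by
      have h2 : ∀ b, IsConj z b → b * b = 1 := fun b hb => by
        obtain ⟨g, rfl⟩ := isConj_iff.1 hb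
        have : z * z = 1 := by rw [← sq, ← hz, pow_orderOf_eq_one]
        calc g * z * g⁻¹ * (g * z * g⁻¹) = g * (z * z) * g⁻¹ := by group
          _ = 1 := by rw [this]; group
      refine hnr (isConj_iff.2 ⟨a, ?_⟩)
      have hb2 := h2 _ hb
      have hai : a⁻¹ = a := inv_eq_of_mul_eq_one_right (h2 a ha)
      rw [hai] at hb2 ⊢
      exact (inv_eq_of_mul_eq_one_right (show t * (a * t * a) = 1 from by
        calc t * (a * t * a) = a⁻¹ * ((a * t) * (a * t)) * a := by group
          _ = 1 := by rw [hb2]; group)).symm⟩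
    have h := K.pairs_count (t := t) hz
    rw [Nat.card_of_isEmpty (α := {a : G // IsConj z a ∧ IsConj z (a⁻¹ * t)}), Nat.cast_zero, mul_zero] at h
    have hne : ((centralizer ({z} : Set G)).index : ℂ) * ((centralizer ({z} : Set G)).index : ℂ) ≠ 0 :=
      mul_ne_zero (Nat.cast_ne_zero.2 index_ne_zero_of_finite) (Nat.cast_ne_zero.2 index_ne_zero_of_finite)
    have h0 := (div_eq_zero_iff.1 ((mul_eq_zero.1 h.symm).resolve_left hne)).resolve_right
      (by norm_num [Search.N])
    have h0' := congrArg conj h0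
    simp only [map_sum, map_mul, map_intCast, map_zero] at h0'
    have : ∑ χ : IrrCharacter G, (Three.fz (deg χ) : ℂ) * (v χ : ℂ) = 0 := by
      rw [Finset.sum_congr rfl (g := fun χ : IrrCharacter G => (Three.fz (deg χ) : ℂ) * (χ : G → ℂ) t +
        (Three.fz (deg χ) : ℂ) * conj ((χ : G → ℂ) t)) fun χ _ => by rw [← hv χ]; ring,
        Finset.sum_add_distrib, h0, h0', add_zero]
    exact_mod_cast this
  have hag : ∀ χ χ' : IrrCharacter G, deg χ = deg χ' → deg χ = 896 ∨ deg χ = 770 → v χ = v χ' := by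
    intro χ χ' hd h
    have e := K.agree_three ht hd h
    have h1 := hv χ
    rw [e, hv χ'] at h1
    exact_mod_cast h1.symm
  have hlow : ∀ χ : IrrCharacter G, ∀ w : ℕ,
      (w = 1 ∨ (w = 2 ∧ (deg χ = 896 ∨ deg χ = 770))) → (w : ℤ) * (v χ * v χ) ≤ 2 * (c : ℤ) := by
    intro χ w hw
    rw [← hsq]
    rcases hw with rfl | ⟨rfl, hw⟩
    · rw [Nat.cast_one, one_mul]
      exact Finset.single_le_sum (f := fun χ => v χ * v χ) (fun χ _ => mul_self_nonneg _) (Finset.mem_univ χ)
    · obtain ⟨χ', hχ', hne⟩ := Finset.exists_mem_ne (s := Finset.univ.filter fun ψ => deg ψ = deg χ)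
        (show 1 < _ by rw [K.card_deg]; rcases hw with e | e <;> rw [e] <;> decide) χ
      have hd : deg χ' = deg χ := (Finset.mem_filter.1 hχ').2
      refine le_trans (le_of_eq ?_) (Finset.sum_le_sum_of_subset_of_nonneg (Finset.subset_univ {χ, χ'})
        fun ψ _ _ => mul_self_nonneg _)
      rw [Finset.sum_pair hne.symm, hag χ χ' hd.symm hw]
      push_cast; ring
  have hmc : 2 * c ≤ 81000 := by omega
  obtain ⟨L, hL, hsum⟩ := K.arrange (os := Three.ordPair) List.mem_cons_self v hag
    (fun s w => w ∈ Three.opts c 2 s) fun χ hχ w hw0 hw => by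
      obtain ⟨h3, hlt⟩ := hvr χ hχ
      refine Three.mem_opts (charDegree_pos χ) hw0 hmc h3 (hlow χ w hw) hlt ?_
      have hi : Search.N / c = (centralizer ({t} : Set G)).index := index_centralizer_eq K.isM23 t
      rw [hi]
      have h1 := H83.omega_class_isIntegral χ.2 t
      have h2 := H83.omega_class_isIntegral χ.2 t⁻¹
      have hcc : centralizer ({t⁻¹} : Set G) = centralizer ({t} : Set G) := by
        ext a
        simp only [mem_centralizer_singleton_iff]
        exact ⟨fun h => by simpa using (Commute.inv_right (show Commute a t⁻¹ from h)).eq,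
          fun h => (Commute.inv_right (show Commute a t from h)).eq⟩
      rw [hcc] at h2
      have h12 := h1.add h2
      rw [← add_div, ← mul_add, hinvc, hv, apply_one_eq_charDegree] at h12
      have hq : ((centralizer ({t} : Set G)).index : ℂ) * (v χ : ℂ) / (charDegree (χ : G → ℂ) : ℂ) =
          algebraMap ℚ ℂ (((centralizer ({t} : Set G)).index : ℚ) * (v χ : ℚ) /
            (charDegree (χ : G → ℂ) : ℚ)) := by simp
      rw [hq, isIntegral_algebraMap_iff (algebraMap ℚ ℂ).injective] at h12
      obtain ⟨k, hk⟩ := IsIntegrallyClosed.isIntegral_iff.1 h12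
      rw [eq_div_iff (Nat.cast_ne_zero.2 (charDegree_pos χ).ne')] at hk
      refine ⟨k, ?_⟩
      have : ((((centralizer ({t} : Set G)).index : ℤ) * v χ : ℤ) : ℚ) =
          (((charDegree (χ : G → ℂ) : ℤ) * k : ℤ) : ℚ) := by
        push_cast
        rw [← hk]
        simp [mul_comm]
      exact_mod_cast this
  rw [← Three.slotsPair_eq] at hL hsum
  have hgo : Three.checkPair c = true := List.all_eq_true.1 Three.check_pair c hclist
  have hF := K.functionals ht hz hlin
  unfold Three.fsReal at hF
  simp only [List.replicate_succ, List.replicate_zero, List.forall₂_cons] at hF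
  obtain ⟨f1, f2, f3, f4, -⟩ := hF
  have hsl : (Three.slotsPair.map fun s => (s, Three.opts c 2 s)).map Prod.fst = Three.slotsPair := by
    rw [List.map_map]; exact List.map_id _
  have hconv : ∀ f : ℕ → ℤ, 2 * f 1 + Three.lin f (Three.slotsPair.zip L) =
      ∑ χ : IrrCharacter G, f (deg χ) * v χ := fun f => by
    rw [Three.lin_eq, ← hsum fun d w => f d * w, hv1]; ring
  have hres := Three.go_sound _ _ _ _ hgo L (List.forall₂_map_left_iff.2 hL)
    (by rw [hsl, Three.sqs_eq, ← hsq, ← hsum fun _ w => w * w, hv1]; ring)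
    (by
      rw [hsl, List.forall₂_map_right_iff]
      unfold Three.fsPair
      simp only [List.forall₂_same, List.mem_cons, List.not_mem_nil, or_false]
      intro f hf
      rw [hconv]
      rcases hf with rfl | rfl | rfl | rfl | rfl
      · exact f1
      · exact f2
      · exact f3
      · exact f4
      · exact hzt)
  simp at hres

include K in
/-- The centraliser has order 180. -/
theorem three_card {t z : G} (ht : orderOf t = 3) (hz : orderOf z = 2) (hc : Commute t z) :
    Nat.card (centralizer ({t} : Set G)) = 180 := by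
  have hreal := K.three_real ht hz hc
  obtain ⟨hclist, hc40⟩ := three_cent_list K.isM23 ht hz hc
  set c := Nat.card (centralizer ({t} : Set G)) with hcdef
  have hcr : ∀ χ : IrrCharacter G, conj ((χ : G → ℂ) t) = (χ : G → ℂ) t := fun χ => by
    rw [← IsChar.inv_apply (IsIrr.isCharacter χ.2) t]
    exact ((isConj_iff_forall_irr _ _).1 hreal χ).symm
  have hex : ∀ χ : IrrCharacter G, ∃ u : ℤ, (χ : G → ℂ) t = (u : ℂ) ∧
      (χ ≠ trivialIrr → (3 : ℤ) ∣ (deg χ : ℤ) - u ∧ u.natAbs ≤ deg χ) := by
    intro χ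
    by_cases h : χ = trivialIrr
    · exact ⟨1, by rw [h, Int.cast_one]; rfl, fun h' => absurd h h'⟩
    · obtain ⟨k, hk1, hk2, hk⟩ := Compute.G22.real_three_value (exists_ne_mul (not_comm K.isM23))
        (χ := χ) (fun e => h (Subtype.ext e)) (n := deg χ) rfl ht (hcr χ)
      exact ⟨(deg χ : ℤ) - 3 * k, hk, fun _ => ⟨⟨k, by ring⟩, by omega⟩⟩
  choose v hv hvr using hex
  have hv1 : v trivialIrr = 1 := by
    have h := hv trivialIrr
    exact Int.cast_injective (α := ℂ) (h.symm.trans Int.cast_one.symm)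
  have hsq : ∑ χ : IrrCharacter G, v χ * v χ = (c : ℤ) := by
    have h := second_orthogonality_self (G := G) t
    simp only [hv, map_intCast] at h
    exact_mod_cast h
  have hlin : ∀ g : G, orderOf g ≠ 3 → ∑ χ : IrrCharacter G, (χ : G → ℂ) g * (v χ : ℂ) = 0 := by
    intro g hg
    have h1 := second_orthogonality_not_isConj (g := g) (h := t) fun h => hg (by
      obtain ⟨a, ha⟩ := isConj_iff.1 h
      rw [← ht, ← ha, ← MulAut.conj_apply, MulEquiv.orderOf_eq])
    simp only [hv, map_intCast] at h1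
    exact h1
  have hag : ∀ χ χ' : IrrCharacter G, deg χ = deg χ' → deg χ = 896 ∨ deg χ = 770 → v χ = v χ' := by
    intro χ χ' hd h
    have e := K.agree_three ht hd h
    rw [hv χ, hv χ'] at e
    exact_mod_cast e
  have hlow : ∀ χ : IrrCharacter G, ∀ w : ℕ,
      (w = 1 ∨ (w = 2 ∧ (deg χ = 896 ∨ deg χ = 770))) → (w : ℤ) * (v χ * v χ) ≤ (c : ℤ) := by
    intro χ w hw
    rw [← hsq]
    rcases hw with rfl | ⟨rfl, hw⟩
    · rw [Nat.cast_one, one_mul]
      exact Finset.single_le_sum (f := fun χ => v χ * v χ) (fun χ _ => mul_self_nonneg _) (Finset.mem_univ χ)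
    · obtain ⟨χ', hχ', hne⟩ := Finset.exists_mem_ne (s := Finset.univ.filter fun ψ => deg ψ = deg χ)
        (show 1 < _ by rw [K.card_deg]; rcases hw with e | e <;> rw [e] <;> decide) χ
      have hd : deg χ' = deg χ := (Finset.mem_filter.1 hχ').2
      refine le_trans (le_of_eq ?_) (Finset.sum_le_sum_of_subset_of_nonneg (Finset.subset_univ {χ, χ'})
        fun ψ _ _ => mul_self_nonneg _)
      rw [Finset.sum_pair hne.symm, hag χ χ' hd.symm hw]
      push_cast; ring
  obtain ⟨L, hL, hsum⟩ := K.arrange (os := Three.ordReal) (by simp) v hag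
    (fun s w => w ∈ Three.opts c 1 s) fun χ hχ w hw0 hw => by
      obtain ⟨h3, hlt⟩ := hvr χ hχ
      refine Three.mem_opts (charDegree_pos χ) hw0 (by omega) (by rw [Nat.cast_one, one_mul]; exact h3)
        (by rw [Nat.cast_one, one_mul]; exact hlow χ w hw) (by rw [one_mul]; exact hlt) ?_
      have hi : Search.N / c = (centralizer ({t} : Set G)).index := index_centralizer_eq K.isM23 t
      rw [hi]
      exact dvd_index_mul χ (hv χ)
  rw [← Three.slotsReal_eq] at hL hsum
  have hgo : Three.checkReal c = true := List.all_eq_true.1 Three.check_real c hclist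
  have hF := K.functionals ht hz hlin
  unfold Three.fsReal at hF
  simp only [List.replicate_succ, List.replicate_zero, List.forall₂_cons] at hF
  obtain ⟨f1, f2, f3, f4, -⟩ := hF
  have hsl : (Three.slotsReal.map fun s => (s, Three.opts c 1 s)).map Prod.fst = Three.slotsReal := by
    rw [List.map_map]; exact List.map_id _
  have hconv : ∀ f : ℕ → ℤ, f 1 + Three.lin f (Three.slotsReal.zip L) =
      ∑ χ : IrrCharacter G, f (deg χ) * v χ := fun f => by
    rw [Three.lin_eq, ← hsum fun d w => f d * w, hv1]; ring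
  have hres := Three.go_sound _ _ _ _ hgo L (List.forall₂_map_left_iff.2 hL)
    (by rw [hsl, Three.sqs_eq, ← hsq, ← hsum fun _ w => w * w, hv1]; ring)
    (by
      rw [hsl, List.forall₂_map_right_iff]
      unfold Three.fsReal
      simp only [List.forall₂_same, List.mem_cons, List.not_mem_nil, or_false]
      intro f hf
      rw [hconv]
      rcases hf with rfl | rfl | rfl | rfl
      · exact f1
      · exact f2
      · exact f3
      · exact f4)
  rw [hsl, hconv, Bool.or_eq_true, decide_eq_true_eq, beq_iff_eq] at hres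
  refine hres.resolve_left fun hneg => ?_
  have h := K.pairs_count (t := t) hz
  rw [Finset.sum_congr rfl (g := fun χ : IrrCharacter G => ((Three.fz (deg χ) * v χ : ℤ) : ℂ))
    fun χ _ => by rw [hv χ, Int.cast_mul], ← Int.cast_sum, ← mul_div_assoc,
    eq_div_iff (show ((Search.N : ℕ) : ℂ) ≠ 0 by norm_num [Search.N]), card_eq K.isM23] at h
  set m := Nat.card {a : G // IsConj z a ∧ IsConj z (a⁻¹ * t)}
  set i := (centralizer ({z} : Set G)).index with hi
  set Z := ∑ χ : IrrCharacter G, Three.fz (deg χ) * v χ with hZ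
  have h' : (Search.N : ℤ) * m * Search.N = (i : ℤ) * i * Z := by exact_mod_cast h
  have hipos : (0 : ℤ) < (i : ℤ) := by
    exact_mod_cast Nat.pos_of_ne_zero index_ne_zero_of_finite
  have : (0 : ℤ) ≤ (i : ℤ) * i * Z := by rw [← h']; positivity
  have := mul_neg_of_pos_of_neg (mul_pos hipos hipos) hneg
  linarith

end Ctx

end Cfsg.Agent.H90.MTwentyThree
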