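import Cfsg.Agent.H90.MTwentyThree.Search
import Mathlib.Tactic.Linarith
import Mathlib.Algebra.Order.BigOperators.Group.List

/-!
A search over the values at an element of order 3, pruned by the orthogonality with known columns.
-/

set_option autoImplicit false
set_option maxRecDepth 100000

namespace Cfsg.Agent.H90.MTwentyThree.Three

open Search (N)

/-- Some characters with one value: degree and number. -/
structure Slot where
  /-- Degree. -/
  d : ℕ
  /-- Number of characters. -/
  w : ℕ

/-- A weighted linear combination of values. -/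
def lin (f : ℕ → ℤ) : List (Slot × ℤ) → ℤ
  | [] => 0
  | (s, v) :: l => (s.w : ℤ) * (f s.d * v) + lin f l

/-- The weighted square sum. -/
def sqs : List (Slot × ℤ) → ℤ
  | [] => 0
  | (s, v) :: l => (s.w : ℤ) * (v * v) + sqs l

/-- The weighted norm of a functional. -/
def nrm (f : ℕ → ℤ) : List Slot → ℤ
  | [] => 0
  | s :: l => (s.w : ℤ) * (f s.d * f s.d) + nrm f l

/-- A lower bound for squares. -/
def minSq : List ℤ → ℤ
  | [] => 1000000000
  | a :: l => min (a * a) (minSq l)

theorem minSq_le : ∀ {l : List ℤ} {a : ℤ}, a ∈ l → minSq l ≤ a * a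
  | b :: l, a, h => by
    rcases List.mem_cons.1 h with rfl | h
    · exact min_le_left _ _
    · exact le_trans (min_le_right _ _) (minSq_le h)

/-- A lower bound for the remaining square sum. -/
def low : List (Slot × List ℤ) → ℤ
  | [] => 0
  | (s, o) :: l => (s.w : ℤ) * minSq o + low l

/-- The search. -/
def go (C : ℤ) (fs : List (ℕ → ℤ)) (z : ℕ → ℤ) (leaf : ℤ → Bool) :
    List (Slot × List ℤ) → ℤ → List ℤ → ℤ → Bool
  | [], R, Fs, Z => !(R == C && Fs.all (· == 0)) || leaf Z
  | (s, o) :: l, R, Fs, Z =>
    decide (C < R + low ((s, o) :: l)) ||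
      (List.zipWith (fun f F => decide ((C - R) * nrm f (s :: l.map Prod.fst) < F * F)) fs Fs).any id ||
      o.all fun v => go C fs z leaf l (R + (s.w : ℤ) * (v * v))
        (List.zipWith (fun f F => F + (s.w : ℤ) * (f s.d * v)) fs Fs) (Z + (s.w : ℤ) * (z s.d * v))

theorem quad (f : ℕ → ℤ) : ∀ (L : List (Slot × ℤ)) (X Y : ℤ),
    0 ≤ X * X * sqs L + 2 * X * Y * lin f L + Y * Y * nrm f (L.map Prod.fst)
  | [], X, Y => by simp [sqs, lin, nrm]
  | (s, v) :: L, X, Y => by
    have h := quad f L X Y
    have h' : (0 : ℤ) ≤ (s.w : ℤ) * ((X * v + Y * f s.d) * (X * v + Y * f s.d)) :=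
      mul_nonneg (Int.natCast_nonneg _) (mul_self_nonneg _)
    simp only [sqs, lin, nrm, List.map_cons]
    linarith

theorem sqs_nonneg : ∀ L : List (Slot × ℤ), 0 ≤ sqs L
  | [] => le_rfl
  | (s, v) :: L => add_nonneg (mul_nonneg (Int.natCast_nonneg _) (mul_self_nonneg _)) (sqs_nonneg L)

theorem nrm_nonneg (f : ℕ → ℤ) : ∀ L : List Slot, 0 ≤ nrm f L
  | [] => le_rfl
  | s :: L => add_nonneg (mul_nonneg (Int.natCast_nonneg _) (mul_self_nonneg _)) (nrm_nonneg f L)

theorem lin_eq_zero (f : ℕ → ℤ) : ∀ L : List (Slot × ℤ), nrm f (L.map Prod.fst) = 0 → lin f L = 0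
  | [], _ => rfl
  | (s, v) :: L, h => by
    simp only [nrm, List.map_cons] at h
    have h1 : (0 : ℤ) ≤ (s.w : ℤ) * (f s.d * f s.d) :=
      mul_nonneg (Int.natCast_nonneg _) (mul_self_nonneg _)
    have h2 := nrm_nonneg f (L.map Prod.fst)
    have e1 : (s.w : ℤ) * (f s.d * f s.d) = 0 := by linarith
    rw [lin, lin_eq_zero f L (by linarith)]
    rcases mul_eq_zero.1 e1 with e | e
    · rw [e, zero_mul, zero_add]
    · rw [mul_self_eq_zero.1 e, zero_mul, mul_zero, zero_add]

theorem cauchy (f : ℕ → ℤ) (L : List (Slot × ℤ)) :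
    lin f L * lin f L ≤ sqs L * nrm f (L.map Prod.fst) := by
  have h := quad f L (nrm f (L.map Prod.fst)) (-lin f L)
  rcases (nrm_nonneg f (L.map Prod.fst)).eq_or_lt with e | e
  · rw [lin_eq_zero f L e.symm, ← e]; simp
  · by_contra hlt
    have := mul_lt_mul_of_pos_left (not_le.1 hlt) e
    nlinarith

/-- Soundness of the search. -/
theorem go_sound {C : ℤ} {fs : List (ℕ → ℤ)} {z : ℕ → ℤ} {leaf : ℤ → Bool} :
    ∀ (its : List (Slot × List ℤ)) (R : ℤ) (Fs : List ℤ) (Z : ℤ), go C fs z leaf its R Fs Z = true →
      ∀ L : List ℤ, List.Forall₂ (fun (p : Slot × List ℤ) v => v ∈ p.2) its L →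
        R + sqs ((its.map Prod.fst).zip L) = C →
        List.Forall₂ (fun f F => F + lin f ((its.map Prod.fst).zip L) = 0) fs Fs →
        leaf (Z + lin z ((its.map Prod.fst).zip L)) = true
  | [], R, Fs, Z, h, L, hL, hR, hF => by
    cases hL
    simp only [List.map_nil, List.zip_nil_right, sqs, lin, add_zero] at hR hF ⊢
    have hall : Fs.all (· == 0) = true := by
      rw [List.all_eq_true]
      intro F hFm
      clear h
      induction hF with
      | nil => simp at hFm
      | cons hab _ ih =>
        rcases List.mem_cons.1 hFm with rfl | hm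
        · exact beq_iff_eq.2 hab
        · exact ih hm
    rw [go, hR, hall] at h
    simpa using h
  | (s, o) :: its, R, Fs, Z, h, L, hL, hR, hF => by
    cases hL with
    | cons hv hrest =>
      rename_i v L'
      simp only [List.map_cons, List.zip_cons_cons, sqs, lin] at hR hF ⊢
      simp only [go, Bool.or_eq_true, decide_eq_true_eq, List.any_eq_true, List.all_eq_true, id] at h
      rcases h with (h | ⟨b, hb, hbt⟩) | h
      · exfalso
        have h1 : minSq o ≤ v * v := minSq_le hv
        have h2 : low its ≤ sqs ((its.map Prod.fst).zip L') := by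
          clear h hR hF
          induction hrest with
          | nil => simp [low, sqs]
          | cons hab _ ih =>
            simp only [low, List.map_cons, List.zip_cons_cons, sqs]
            exact add_le_add (mul_le_mul_of_nonneg_left (minSq_le hab) (Int.natCast_nonneg _)) ih
        simp only [low] at h
        have := mul_le_mul_of_nonneg_left h1 (Int.natCast_nonneg s.w)
        linarith
      · exfalso
        have hlen : (its.map Prod.fst).length ≤ L'.length := by
          rw [List.length_map, hrest.length_eq]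
        clear hv hrest
        induction hF with
        | nil => simp at hb
        | @cons f F fs' Fs' hab _ ih =>
          simp only [List.zipWith_cons_cons, List.mem_cons] at hb
          rcases hb with rfl | hb
          · simp only [decide_eq_true_eq] at hbt
            have hc := cauchy f ((s, v) :: (its.map Prod.fst).zip L')
            simp only [lin, sqs, List.map_cons, List.map_fst_zip hlen] at hc
            have hFF : F * F = ((s.w : ℤ) * (f s.d * v) + lin f ((its.map Prod.fst).zip L')) *
                ((s.w : ℤ) * (f s.d * v) + lin f ((its.map Prod.fst).zip L')) := by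
              rw [show F = -((s.w : ℤ) * (f s.d * v) + lin f ((its.map Prod.fst).zip L')) by linarith]
              ring
            have hCR : C - R = (s.w : ℤ) * (v * v) + sqs ((its.map Prod.fst).zip L') := by linarith
            rw [hCR, hFF] at hbt
            linarith
          · exact ih hb
      · have := go_sound its _ _ _ (h v hv) L' hrest (by linarith) (by
          clear h hR
          induction hF with
          | nil => simp
          | cons hab _ ih =>
            simp only [List.zipWith_cons_cons]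
            exact List.Forall₂.cons (by linarith) ih)
        rwa [add_assoc] at this

/-- The multiples of `g` up to 285, with signs. -/
def mults (g : ℕ) : List ℤ :=
  let l := ((List.range (285 / g + 1)).map fun j => g * j)
  l.map (fun n : ℕ => (n : ℤ)) ++ (l.filter fun n => !(n == 0)).map (fun n : ℕ => -(n : ℤ))

/-- The possible values: `m = 1` for a real class, `m = 2` for the sum with the inverse. -/
def opts (c m : ℕ) (s : Slot) : List ℤ :=
  (mults (s.d / Nat.gcd s.d (N / c))).filter fun v =>
    ((m : ℤ) * s.d - v) % 3 == 0 && decide ((s.w : ℤ) * (v * v) ≤ (m : ℤ) * c) &&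
      decide (v.natAbs ≤ m * s.d)

theorem mem_opts {c m : ℕ} {s : Slot} {v : ℤ} (hd : 0 < s.d) (hw : 0 < s.w) (hmc : m * c ≤ 81000)
    (h3 : (3 : ℤ) ∣ (m : ℤ) * s.d - v) (hsq : (s.w : ℤ) * (v * v) ≤ (m : ℤ) * c)
    (hlt : v.natAbs ≤ m * s.d) (hdvd : (s.d : ℤ) ∣ ((N / c : ℕ) : ℤ) * v) : v ∈ opts c m s := by
  set h := N / c with hh
  set g := s.d / Nat.gcd s.d h with hg
  have h0 : 0 < Nat.gcd s.d h := Nat.gcd_pos_of_pos_left h hd
  have hgv : g ∣ v.natAbs := by
    have h1 : s.d ∣ h * v.natAbs := by
      have := Int.natAbs_dvd_natAbs.2 hdvd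
      rwa [Int.natAbs_natCast, Int.natAbs_mul, Int.natAbs_natCast] at this
    have hcop : Nat.Coprime g (h / Nat.gcd s.d h) := Nat.coprime_div_gcd_div_gcd h0
    refine hcop.dvd_of_dvd_mul_left ?_
    refine Nat.dvd_of_mul_dvd_mul_right h0 ?_
    rw [Nat.div_mul_cancel (Nat.gcd_dvd_left s.d h), mul_right_comm,
      Nat.div_mul_cancel (Nat.gcd_dvd_right s.d h)]
    exact h1
  have hg0 : 0 < g := Nat.div_pos (Nat.gcd_le_left h hd) h0
  have hn : v.natAbs ≤ 285 := by
    by_contra hge
    have h1 : (286 : ℤ) * 286 ≤ v * v := by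
      rw [← Int.natAbs_mul_self' v]
      exact_mod_cast Nat.mul_le_mul (show 286 ≤ v.natAbs by omega) (show 286 ≤ v.natAbs by omega)
    have h2 : (1 : ℤ) * (v * v) ≤ (s.w : ℤ) * (v * v) :=
      mul_le_mul_of_nonneg_right (by exact_mod_cast hw) (mul_self_nonneg _)
    have h3 : ((m : ℤ) * c) ≤ 81000 := by exact_mod_cast hmc
    linarith
  obtain ⟨j, hj⟩ := hgv
  have hmem : v.natAbs ∈ (List.range (285 / g + 1)).map fun j => g * j := by
    refine List.mem_map.2 ⟨j, List.mem_range.2 (Nat.lt_succ_of_le ?_), hj.symm⟩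
    rw [Nat.le_div_iff_mul_le hg0, mul_comm, ← hj]
    exact hn
  simp only [opts, List.mem_filter, Bool.and_eq_true, beq_iff_eq, decide_eq_true_eq]
  refine ⟨?_, ⟨Int.emod_eq_zero_of_dvd h3, hsq⟩, hlt⟩
  simp only [mults, List.mem_append, List.mem_map, List.mem_filter]
  rcases Int.natAbs_eq v with e | e
  · exact Or.inl ⟨v.natAbs, List.mem_map.1 hmem, e.symm⟩
  · by_cases hv0 : v.natAbs = 0
    · exact Or.inl ⟨v.natAbs, List.mem_map.1 hmem, by omega⟩
    · exact Or.inr ⟨v.natAbs, ⟨List.mem_map.1 hmem, by simpa using hv0⟩, e.symm⟩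

end Cfsg.Agent.H90.MTwentyThree.Three
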