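import Cfsg.Agent.H90.MTwentyThree.Column
import Cfsg.Agent.H90.MTwentyThree.ThreeSearch

/-!
The instances of the search at an element of order 3.
-/

set_option autoImplicit false
set_option maxRecDepth 100000
set_option Elab.async false

namespace Cfsg.Agent.H90.MTwentyThree.Three

open Search (N kinds)

/-- The doubled real part at an element of order 11. -/
def fy (d : ℕ) : ℤ := ((kinds 11 5 d).headD (0, 0)).1

/-- The doubled real part at an element of order 23. -/
def fx (d : ℕ) : ℤ := ((kinds 23 11 d).headD (0, 0)).1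

/-- The weight in the class constant at two involutions. -/
def fz (d : ℕ) : ℤ := ((N / d : ℕ) : ℤ) * (Col.colVal d * Col.colVal d)

/-- The functionals for a class different from its inverse. -/
def fsPair : List (ℕ → ℤ) := [fun d => (d : ℤ), Col.colVal, fy, fx, fz]

/-- The functionals for a real class. -/
def fsReal : List (ℕ → ℤ) := [fun d => (d : ℤ), Col.colVal, fy, fx]

/-- The slots for a class different from its inverse. -/
def slotsPair : List Slot :=
  [⟨45, 1⟩, ⟨45, 1⟩, ⟨1035, 1⟩, ⟨896, 2⟩, ⟨230, 1⟩, ⟨990, 1⟩, ⟨990, 1⟩, ⟨22, 1⟩, ⟨770, 2⟩,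
    ⟨2024, 1⟩, ⟨231, 1⟩, ⟨231, 1⟩, ⟨231, 1⟩, ⟨253, 1⟩]

/-- The slots for a real class. -/
def slotsReal : List Slot :=
  [⟨45, 1⟩, ⟨45, 1⟩, ⟨896, 2⟩, ⟨1035, 1⟩, ⟨230, 1⟩, ⟨990, 1⟩, ⟨990, 1⟩, ⟨770, 2⟩, ⟨2024, 1⟩,
    ⟨231, 1⟩, ⟨231, 1⟩, ⟨231, 1⟩, ⟨22, 1⟩, ⟨253, 1⟩]

/-- No class different from its inverse. -/
def checkPair (c : ℕ) : Bool :=
  go (2 * c) fsPair fz (fun _ => false) (slotsPair.map fun s => (s, opts c 2 s)) 4
    (fsPair.map fun f => 2 * f 1) (2 * fz 1)

/-- A real class has centraliser of order 180. -/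
def checkReal (c : ℕ) : Bool :=
  go c fsReal fz (fun Z => decide (Z < 0) || c == 180) (slotsReal.map fun s => (s, opts c 1 s)) 1
    (fsReal.map fun f => f 1) (fz 1)

/-- The possible orders of the centraliser. -/
def centList : List ℕ := (Search.divProd [64, 5, 7]).map (18 * ·)

theorem mem_centList {c : ℕ} (h18 : 18 ∣ c) (h : c ∣ 40320) : c ∈ centList := by
  obtain ⟨k, rfl⟩ := h18
  refine List.mem_map.2 ⟨k, Search.mem_divProd _ (by simp) _ ?_, rfl⟩
  exact Nat.dvd_of_mul_dvd_mul_left (show 0 < 18 by norm_num) h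

end Cfsg.Agent.H90.MTwentyThree.Three
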