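import Cfsg.Agent.H90.MTwentyThree.Degrees
import Cfsg.Agent.H90.MTwentyThree.ThreeData
import Cfsg.Agent.Compute.G22.Char

/-!
Values at an element of order 3 and their arrangement in slots.
-/

set_option autoImplicit false
set_option linter.unusedSectionVars false
set_option linter.style.haveILetI false
set_option maxRecDepth 100000

open scoped ComplexConjugate Classical

namespace Cfsg.Agent.H90.MTwentyThree

open CharBasic Subgroup BlockBasic H86 H86.MTwentyTwo H81.SimpleDegree

universe u

namespace Three

open Search (N)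

/-- The degrees in the order of the slots for a class different from its inverse. -/
def ordPair : List ℕ := [45, 1035, 896, 230, 990, 22, 770, 2024, 231, 253]

/-- The degrees in the order of the slots for a real class. -/
def ordReal : List ℕ := [45, 896, 1035, 230, 990, 770, 2024, 231, 22, 253]

/-- The slots of one degree. -/
def blockOf (d : ℕ) : List Slot :=
  if d = 896 then [⟨896, 2⟩] else if d = 770 then [⟨770, 2⟩]
  else List.replicate (degrees.count d) ⟨d, 1⟩

theorem slotsPair_eq : slotsPair = ordPair.flatMap blockOf := rfl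

theorem slotsReal_eq : slotsReal = ordReal.flatMap blockOf := rfl

theorem ord_facts : ∀ os ∈ [ordPair, ordReal], os.Nodup ∧ (∀ d ∈ degrees, d = 1 ∨ d ∈ os) ∧ 1 ∉ os := by
  decide +kernel

theorem deg_pos_of_mem : ∀ d ∈ degrees, 0 < d := by decide +kernel

/-- A sum over slots. -/
def tot (φ : ℕ → ℤ → ℤ) (L : List (Slot × ℤ)) : ℤ :=
  (L.map fun p => (p.1.w : ℤ) * φ p.1.d p.2).sum

theorem lin_eq (f : ℕ → ℤ) : ∀ L, lin f L = tot (fun d v => f d * v) L
  | [] => rfl
  | (s, v) :: L => by simp [lin, tot, lin_eq f L]

theorem sqs_eq : ∀ L, sqs L = tot (fun _ v => v * v) L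
  | [] => rfl
  | (s, v) :: L => by simp [sqs, tot, sqs_eq L]

theorem tot_flatMap (φ : ℕ → ℤ → ℤ) (B : ℕ → List Slot) (g : ℕ → List ℤ)
    (hlen : ∀ d, (B d).length = (g d).length) : ∀ os : List ℕ,
    tot φ ((os.flatMap B).zip (os.flatMap g)) = (os.map fun d => tot φ ((B d).zip (g d))).sum
  | [] => rfl
  | d :: os => by
    rw [List.flatMap_cons, List.flatMap_cons, List.zip_append (hlen d), List.map_cons, List.sum_cons,
      ← tot_flatMap φ B g hlen os]
    simp [tot]

theorem forall₂_flatMap {P : Slot → ℤ → Prop} (B : ℕ → List Slot) (g : ℕ → List ℤ) : ∀ os : List ℕ,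
    (∀ d ∈ os, List.Forall₂ P (B d) (g d)) → List.Forall₂ P (os.flatMap B) (os.flatMap g)
  | [], _ => List.Forall₂.nil
  | d :: os, h => List.rel_append (h d List.mem_cons_self)
      (forall₂_flatMap B g os fun e he => h e (List.mem_cons_of_mem _ he))

theorem forall₂_replicate {P : Slot → ℤ → Prop} (s : Slot) : ∀ l : List ℤ, (∀ v ∈ l, P s v) →
    List.Forall₂ P (List.replicate l.length s) l
  | [], _ => List.Forall₂.nil
  | v :: l, h => List.Forall₂.cons (h v List.mem_cons_self)
      (forall₂_replicate s l fun w hw => h w (List.mem_cons_of_mem _ hw))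

theorem tot_replicate (φ : ℕ → ℤ → ℤ) (s : Slot) : ∀ l : List ℤ,
    tot φ ((List.replicate l.length s).zip l) = (l.map fun v => (s.w : ℤ) * φ s.d v).sum
  | [] => rfl
  | v :: l => by
    rw [List.length_cons, List.replicate_succ, List.zip_cons_cons, List.map_cons, List.sum_cons,
      ← tot_replicate φ s l]
    simp [tot]

end Three

local instance : Fact (Nat.Prime 11) := ⟨by norm_num⟩
local instance : Fact (Nat.Prime 23) := ⟨by norm_num⟩

variable {G : Type u} [Group G] [Fintype G] [IsSimpleGroup G]

namespace Ctx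

variable (K : Ctx G)

include K in
theorem deg_mem (χ : IrrCharacter G) : deg χ ∈ degrees := by
  have h : deg χ ∈ (Finset.univ : Finset (IrrCharacter G)).val.map deg :=
    Multiset.mem_map_of_mem _ (Finset.mem_univ χ)
  rwa [K.degs, Multiset.mem_coe] at h

include K in
theorem card_deg (d : ℕ) :
    ((Finset.univ : Finset (IrrCharacter G)).filter fun χ => deg χ = d).card = degrees.count d := by
  have h := congrArg (Multiset.count d) K.degs
  rw [Multiset.count_map, Multiset.coe_count] at h
  rw [← h]
  show Multiset.card (Multiset.filter (fun χ => deg χ = d) (Finset.univ : Finset (IrrCharacter G)).val) = _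
  simp only [eq_comm (a := d)]

include K in
theorem eq_triv {χ : IrrCharacter G} (h : deg χ = 1) : χ = trivialIrr := by
  by_contra hne
  have : 2 ≤ deg χ := two_le_degree (not_comm K.isM23) hne
  omega

include K in
/-- The values arranged in slots. -/
theorem arrange {os : List ℕ} (hos : os ∈ [Three.ordPair, Three.ordReal]) (v : IrrCharacter G → ℤ)
    (hag : ∀ χ χ' : IrrCharacter G, deg χ = deg χ' → deg χ = 896 ∨ deg χ = 770 → v χ = v χ')
    (P : Three.Slot → ℤ → Prop)
    (hP : ∀ χ : IrrCharacter G, χ ≠ trivialIrr → ∀ w : ℕ, 0 < w →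
      (w = 1 ∨ (w = 2 ∧ (deg χ = 896 ∨ deg χ = 770))) → P ⟨deg χ, w⟩ (v χ)) :
    ∃ L : List ℤ, List.Forall₂ P (os.flatMap Three.blockOf) L ∧
      ∀ φ : ℕ → ℤ → ℤ, Three.tot φ ((os.flatMap Three.blockOf).zip L) + φ 1 (v trivialIrr) =
        ∑ χ : IrrCharacter G, φ (deg χ) (v χ) := by
  obtain ⟨hnd, hcov, h1⟩ := Three.ord_facts os hos
  let S : ℕ → Finset (IrrCharacter G) := fun d => Finset.univ.filter fun χ => deg χ = d
  let g : ℕ → List ℤ := fun d =>
    if d = 896 ∨ d = 770 then [if h : (S d).Nonempty then v h.choose else 0] else (S d).toList.map v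
  have hlen : ∀ d, (Three.blockOf d).length = (g d).length := by
    intro d
    by_cases h8 : d = 896
    · simp [g, Three.blockOf, h8]
    by_cases h7 : d = 770
    · simp [g, Three.blockOf, h7]
    simp only [g, Three.blockOf, h8, h7, or_self, if_false, List.length_replicate,
      List.length_map, Finset.length_toList]
    exact (K.card_deg d).symm
  have hne : ∀ d, d = 896 ∨ d = 770 → (S d).Nonempty := by
    intro d hd
    rw [← Finset.card_pos]
    show 0 < (Finset.univ.filter fun χ => deg χ = d).card
    rw [K.card_deg]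
    rcases hd with rfl | rfl <;> decide
  refine ⟨os.flatMap g, Three.forall₂_flatMap _ _ os fun d hd => ?_, fun φ => ?_⟩
  · by_cases h : d = 896 ∨ d = 770
    · have hm : deg (hne d h).choose = d := (Finset.mem_filter.1 (hne d h).choose_spec).2
      have hne1 : (hne d h).choose ≠ trivialIrr := fun e => by
        rw [e, K.deg_triv] at hm; exact h1 (hm ▸ hd)
      have hb : Three.blockOf d = [⟨d, 2⟩] := by
        rcases h with rfl | rfl <;> rfl
      have hg : g d = [v (hne d h).choose] := by
        simp only [g, if_pos h, dif_pos (hne d h)]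
      rw [hb, hg]
      refine List.Forall₂.cons ?_ List.Forall₂.nil
      have := hP _ hne1 2 (by norm_num) (Or.inr ⟨rfl, by rw [hm]; exact h⟩)
      rwa [hm] at this
    · obtain ⟨h8, h7⟩ := not_or.1 h
      have hb : Three.blockOf d = List.replicate (g d).length ⟨d, 1⟩ := by
        rw [← hlen]
        simp [Three.blockOf, h8, h7]
      rw [hb]
      refine Three.forall₂_replicate _ _ fun w hw => ?_
      simp only [g, if_neg h, List.mem_map, Finset.mem_toList] at hw
      obtain ⟨χ, hχ, rfl⟩ := hw
      have hd' : deg χ = d := (Finset.mem_filter.1 hχ).2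
      have := hP χ (fun e => by rw [e, K.deg_triv] at hd'; exact h1 (hd' ▸ hd)) 1 Nat.one_pos (Or.inl rfl)
      rwa [hd'] at this
  · rw [Three.tot_flatMap φ _ _ hlen, ← List.sum_toFinset _ hnd,
      ← Finset.add_sum_erase _ _ (Finset.mem_univ trivialIrr), add_comm, K.deg_triv]
    congr 1
    rw [← Finset.sum_fiberwise_of_maps_to (t := os.toFinset) (g := deg) (fun χ hχ => List.mem_toFinset.2
      ((hcov _ (K.deg_mem χ)).resolve_left fun e => Finset.ne_of_mem_erase hχ (K.eq_triv e)))]
    refine Finset.sum_congr rfl fun d hd => ?_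
    rw [List.mem_toFinset] at hd
    have hfil : ((Finset.univ.erase trivialIrr).filter fun χ : IrrCharacter G => deg χ = d) = S d := by
      ext χ
      simp only [S, Finset.mem_filter, Finset.mem_erase, Finset.mem_univ, and_true, true_and,
        and_iff_right_iff_imp]
      intro hχd e
      rw [e, K.deg_triv] at hχd
      exact h1 (hχd ▸ hd)
    rw [hfil]
    by_cases h : d = 896 ∨ d = 770
    · have hm : deg (hne d h).choose = d := (Finset.mem_filter.1 (hne d h).choose_spec).2
      have hb : Three.blockOf d = [⟨d, 2⟩] := by rcases h with rfl | rfl <;> rfl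
      rw [hb]
      simp only [g, if_pos h, dif_pos (hne d h), List.zip_cons_cons, List.zip_nil_right, Three.tot,
        List.map_cons, List.map_nil, List.sum_cons, List.sum_nil, add_zero]
      rw [Finset.sum_congr rfl (g := fun _ => φ d (v (hne d h).choose)) fun χ hχ => by
        have hd' : deg χ = d := (Finset.mem_filter.1 hχ).2
        rw [hd', hag χ (hne d h).choose (hd'.trans hm.symm) (by rw [hd']; exact h)],
        Finset.sum_const, nsmul_eq_mul]
      congr 1
      show ((2 : ℕ) : ℤ) = ((Finset.univ.filter fun χ => deg χ = d).card : ℤ)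
      rw [K.card_deg]
      rcases h with rfl | rfl <;> rfl
    · obtain ⟨h8, h7⟩ := not_or.1 h
      have hb : Three.blockOf d = List.replicate (g d).length ⟨d, 1⟩ := by
        rw [← hlen]
        simp [Three.blockOf, h8, h7]
      rw [hb, Three.tot_replicate]
      simp only [g, if_neg h, List.map_map, Finset.sum_map_toList, Function.comp, Nat.cast_one, one_mul]
      exact Finset.sum_congr rfl fun χ hχ => by rw [(Finset.mem_filter.1 hχ).2]

include K in
/-- The sum of the values at an element of order 3 and at its inverse. -/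
theorem three_sum {t : G} (ht : orderOf t = 3) {χ : IrrCharacter G} (_hχ : χ ≠ trivialIrr) :
    ∃ s : ℤ, (χ : G → ℂ) t + conj ((χ : G → ℂ) t) = (s : ℂ) ∧
      (3 : ℤ) ∣ 2 * (deg χ : ℤ) - s ∧ s.natAbs ≤ 2 * deg χ := by
  obtain ⟨μ, hμ, -, hval⟩ := exists_eigenvalues (exists_ne_mul (not_comm K.isM23)) χ (deg χ) rfl t
  have hv := hval 1
  simp only [pow_one] at hv
  have hc : ∀ i, μ i ^ 3 = 1 := fun i => by have := hμ i; rwa [ht] at this
  set S := Finset.univ.filter fun i => μ i ≠ 1 with hS
  have hcard : S.card ≤ deg χ := by simpa using S.card_le_univ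
  have hre : ∀ i, μ i + conj (μ i) = if i ∈ S then -1 else 2 := by
    intro i
    by_cases h : μ i = 1
    · rw [if_neg (by simp [hS, h]), h, map_one]; norm_num
    · rw [if_pos (by simp [hS, h])]
      have hz : μ i ^ 2 + μ i + 1 = 0 := mul_left_cancel₀ (sub_ne_zero.2 h)
        (by linear_combination hc i)
      have hconj : conj (μ i) = μ i ^ 2 := by
        have h1 : conj (μ i) * μ i = 1 := by
          rw [Complex.conj_mul', Complex.norm_eq_one_of_pow_eq_one (hc i) (by norm_num)]; simp
        have h0 : μ i ≠ 0 := fun e => by simp [e] at hz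
        exact mul_right_cancel₀ h0 (by linear_combination h1 - hc i)
      rw [hconj]
      linear_combination hz
  refine ⟨2 * (deg χ : ℤ) - 3 * S.card, ?_, ⟨S.card, by ring⟩, by omega⟩
  rw [hv, map_sum, ← Finset.sum_add_distrib, Finset.sum_congr rfl fun i _ => hre i,
    Finset.sum_ite, Finset.sum_const, Finset.sum_const, Finset.filter_univ_mem, nsmul_eq_mul,
    nsmul_eq_mul, show (Finset.univ.filter fun i => i ∉ S) = Finset.univ \ S by ext; simp,
    Finset.card_univ_sdiff, Fintype.card_fin, Nat.cast_sub hcard]
  push_cast; ring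

end Ctx

end Cfsg.Agent.H90.MTwentyThree
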