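import Cfsg.Agent.H90.MTwentyThree.SearchApply
import Cfsg.Agent.H90.MTwentyThree.Check23

/-!
In a simple group of order 10200960 a Sylow 23-subgroup is self-centralising, with eleven orbits.
-/

set_option autoImplicit false
set_option linter.unusedSectionVars false
set_option linter.style.haveILetI false
set_option maxRecDepth 100000

open scoped ComplexConjugate Classical

namespace Cfsg.Agent.H90.MTwentyThree

open CharBasic Subgroup BlockBasic H86 H86.MTwentyTwo

universe u

theorem eleven_coSize : ((Search.divProd [128, 9, 5, 7]).all fun L =>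
    !(L % 23 == 1 && L % 2 == 1) || L == 1) = true := by
  decide +kernel

theorem twentytwo_coSize : ((Search.divProd [64, 9, 5, 7]).all fun L =>
    !(L % 23 == 12) || (L % 2 == 0 && L < 20160) || L == 35 || L == 20160) = true := by
  decide +kernel

theorem two_degs : (Search.degs23.all fun F => !(Search.N % (F + 1).natAbs == 0)) = true := by
  decide +kernel

theorem sylow_seven_arith : ((Search.divProd [64, 9]).all fun n =>
    !(n % 7 == 1) || n == 1 || !(576 / n % 23 == 1)) = true := by
  decide +kernel

theorem mem_degs23 {d : ℕ} {F : ℤ} (hF : F = d ∨ F = -d) (hd2 : 2 ≤ d) (hd : d < 3194)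
    (hdvd : d ∣ Search.N) (h23 : (23 : ℤ) ∣ F - 1) (hs : ¬ H36.BlockDegree.Small 23 F) :
    F ∈ Search.degs23 := by
  have h := List.all_eq_true.1 Search.degs23_complete d (List.mem_range.2 hd)
  have h0 : (Nat.ble 2 d && (Search.N % d == 0)) = true := by
    simp only [Bool.and_eq_true, Nat.ble_eq, beq_iff_eq]
    exact ⟨hd2, Nat.mod_eq_zero_of_dvd hdvd⟩
  rw [h0, Bool.not_true, Bool.false_or, List.all_eq_true] at h
  have h1 := h F (by rcases hF with rfl | rfl <;> simp)
  have hs' : Search.small 23 F = false := by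
    unfold H36.BlockDegree.Small at hs
    simp only [Search.small, Bool.or_eq_false_iff, beq_eq_false_iff_ne]
    omega
  have h2 : ((F - 1) % 23 == 0 && !(Search.small 23 F)) = true := by
    rw [hs', Bool.not_false, Bool.and_true, beq_iff_eq]
    exact Int.emod_eq_zero_of_dvd h23
  rw [h2, Bool.not_true, Bool.false_or] at h1
  exact List.contains_iff_mem.1 h1

variable {G : Type u} [Group G]
variable [Fintype G] [IsSimpleGroup G]

section Block

variable [hp : Fact (Nat.Prime 23)] (D : SmallExc.PBlk G 23)

theorem no_involution23 (hG : IsM23 G) (he : D.e = 11 ∨ D.e = 22) {z : G} (hzC : z ∈ Cent D)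
    (hz : orderOf z = 2) : False := by
  haveI : Finite G := finite_of_isM23 hG
  set c := Nat.card (centralizer ({z} : Set G)) with hc
  obtain ⟨k, hk⟩ := mul_dvd_card_centralizer D Nat.prime_two (by norm_num) hzC hz
  have hcN : c ∣ Search.N := card_eq hG ▸ card_subgroup_dvd_card _
  have hk' : k ∣ 221760 := by
    refine Nat.dvd_of_mul_dvd_mul_left (show 0 < 23 * 2 by norm_num) ?_
    rw [← hk]
    exact hcN.trans (dvd_of_eq (by norm_num [Search.N]))
  have hz1 : z ≠ 1 := fun e => by rw [e, orderOf_one] at hz; norm_num at hz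
  have hkne : k ≠ 221760 := fun e => card_centralizer_ne hG hz1 (by rw [hk, e]; rfl)
  have hFs : ∀ F ∈ signedX D, F ∈ Search.degs23 := by
    intro F hF
    have hns := (not_small_signed D (not_comm hG) Nat.prime_two (by norm_num) hzC hz).1 F hF
    obtain ⟨χ, hχ, hχ1, rfl⟩ := mem_signedX D hF
    exact mem_degs23 (by rcases D.sign χ hχ with e | e <;> simp [e])
      (two_le_degree (not_comm hG) hχ1) (deg_lt hG χ) (deg_dvd hG χ) (X_degree_mod D hχ) hns
  have ht : D.e * D.t = 22 := D.e_mul_t
  rcases he with he | he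
  · have ht' : D.t = 2 := by rw [he] at ht; omega
    have hchk := Search.check23_eleven hk'
    simp only [Search.check23, beq_eq_false_iff_ne.2 hkne, Bool.false_or, Bool.and_eq_true] at hchk
    rw [show 46 * k = 23 * 2 * k by ring] at hchk
    obtain ⟨st, hleaf, hok, -⟩ := search_apply D hG (by norm_num) hFs hzC hz hk hchk.1
      (leaf := fun st => !(Search.excOK 23 11 2 (23 * 2 * k) st)) (he ▸ hchk.2)
    rw [he, ht'] at hok
    simp [hok] at hleaf
  · have ht' : D.t = 1 := by rw [he] at ht; omega
    have hchk := Search.check23_twentytwo hk'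
    simp only [Search.check23, beq_eq_false_iff_ne.2 hkne, Bool.false_or, Bool.and_eq_true] at hchk
    rw [show 46 * k = 23 * 2 * k by ring] at hchk
    obtain ⟨st, hleaf, hok, -⟩ := search_apply D hG (by norm_num) hFs hzC hz hk hchk.1
      (leaf := fun st => !(Search.excOK 23 22 1 (23 * 2 * k) st)) (he ▸ hchk.2)
    rw [he, ht'] at hok
    simp [hok] at hleaf

/-- A centraliser of order `805` is impossible. -/
theorem no_thirtyfive (hG : IsM23 G) (he : D.e = 22) (hL : coSize D = 35) : False := by
  haveI : Finite G := finite_of_isM23 hG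
  haveI h7 : Fact (Nat.Prime 7) := ⟨by norm_num⟩
  obtain ⟨hprod, -⟩ := sylow_arith D (m := 443520) (by rw [card_eq hG]; rfl)
  rw [he, hL] at hprod
  have hn : Nat.card (Sylow 23 G) = 576 := by omega
  set C := Cent D with hC
  have hCcard : Nat.card C = 805 := by rw [hC, card_cent D, hL]
  let W : Sylow 7 C := default
  have hWcard : Nat.card W = 7 := by
    rw [H36.card_sylow_eq hCcard W (a := 1) (m := 115) (by norm_num) (by norm_num), pow_one]
  have huniq : Subsingleton (Sylow 7 C) := by
    rw [← Finite.card_le_one_iff_subsingleton]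
    have hd : Nat.card (Sylow 7 C) ∣ 115 := by
      have := W.card_dvd_index
      rwa [show (W : Subgroup C).index = 115 by
        have h := (W : Subgroup C).card_mul_index
        rw [hWcard, hCcard] at h; omega] at this
    have hm : Nat.card (Sylow 7 C) % 7 = 1 := Eq.trans (card_sylow_modEq_one 7 C) (by norm_num)
    have hle := Nat.le_of_dvd (by norm_num) hd
    interval_cases hh : Nat.card (Sylow 7 C) <;> omega
  set W' : Subgroup G := (W : Subgroup C).map C.subtype with hW'
  have hW'card : Nat.card W' = 7 := by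
    rw [hW', ← Nat.card_congr (Subgroup.equivMapOfInjective _ _ C.subtype_injective).toEquiv, hWcard]
  have hW'le : W' ≤ C := map_subtype_le _
  have hW'uniq : ∀ U : Subgroup G, U ≤ C → Nat.card U = 7 → U = W' := by
    intro U hU hUc
    have hUc' : Nat.card (U.subgroupOf C) = 7 := by
      rw [Nat.card_congr (subgroupOfEquivOfLe hU).toEquiv, hUc]
    obtain ⟨Q, hQ⟩ := (IsPGroup.of_card (p := 7) (n := 1) (by rw [hUc', pow_one])).exists_le_sylow
    rw [Subsingleton.elim Q W] at hQ
    have he' : U.subgroupOf C = (W : Subgroup C) :=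
      eq_of_le_of_card_ge hQ (by rw [hWcard, hUc'])
    rw [hW', ← he', subgroupOf_map_subtype, inf_eq_left.2 hU]
  have hNC : ∀ g ∈ normalizer ((D.P : Subgroup G) : Set G), ∀ a ∈ C, g * a * g⁻¹ ∈ C := by
    intro g hg a ha
    refine mem_centralizer_iff.2 fun w hw => ?_
    have hw' : g⁻¹ * w * g ∈ (D.P : Subgroup G) := by
      have := (mem_normalizer_iff.1 (inv_mem hg) w).1 hw
      rwa [inv_inv] at this
    have hc : (g⁻¹ * w * g) * a = a * (g⁻¹ * w * g) := mem_centralizer_iff.1 ha _ hw'
    calc w * (g * a * g⁻¹) = g * ((g⁻¹ * w * g) * a) * g⁻¹ := by group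
      _ = g * (a * (g⁻¹ * w * g)) * g⁻¹ := by rw [hc]
      _ = g * a * g⁻¹ * w := by group
  have hle : normalizer ((D.P : Subgroup G) : Set G) ≤ normalizer (W' : Set G) := by
    intro g hg
    rw [mem_normalizer_iff]
    have hmap : W'.map (MulAut.conj g).toMonoidHom = W' := by
      refine hW'uniq _ ?_ ?_
      · rintro _ ⟨a, ha, rfl⟩
        exact hNC g hg a (hW'le ha)
      · rw [← Nat.card_congr (Subgroup.equivMapOfInjective _ _ (MulAut.conj g).injective).toEquiv,
          hW'card]
    intro a
    constructor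
    · intro ha
      rw [← hmap]
      exact ⟨a, ha, rfl⟩
    · intro ha
      have ha' : g * a * g⁻¹ ∈ W'.map (MulAut.conj g).toMonoidHom := hmap.symm ▸ ha
      obtain ⟨b, hb, hbe⟩ := ha'
      have : b = a := (MulAut.conj g).injective hbe
      exact this ▸ hb
  set r := (normalizer ((D.P : Subgroup G) : Set G)).relIndex (normalizer (W' : Set G)) with hr
  have hr1 : r % 23 = 1 := relIndex_normalizer_mod D.P _ hle
  have hmul : r * (normalizer (W' : Set G)).index = 576 := by
    rw [hr, relIndex_mul_index hle, show ((D.P : Subgroup G) : Set G) = (D.P : Set G) from rfl,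
      ← Sylow.card_eq_index_normalizer, hn]
  obtain ⟨Q, hQ⟩ := (IsPGroup.of_card (p := 7) (n := 1) (by rw [hW'card, pow_one])).exists_le_sylow
  have hQcard : Nat.card Q = 7 := by
    rw [H36.card_sylow_eq (card_eq hG) Q (a := 1) (m := 1457280) (by norm_num [Search.N]) (by norm_num),
      pow_one]
  have hQW : W' = (Q : Subgroup G) := eq_of_le_of_card_ge hQ (by rw [hW'card, hQcard])
  have hn7 : (normalizer (W' : Set G)).index % 7 = 1 := by
    rw [hQW, show ((Q : Subgroup G) : Set G) = (Q : Set G) from rfl,
      ← Sylow.card_eq_index_normalizer]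
    exact Eq.trans (card_sylow_modEq_one 7 G) (by norm_num)
  have hne1 : (normalizer (W' : Set G)).index ≠ 1 := by
    intro h1
    rw [index_eq_one, normalizer_eq_top_iff] at h1
    rcases h1.eq_bot_or_eq_top with e | e
    · rw [e, card_bot] at hW'card; norm_num at hW'card
    · rw [e, card_top, card_eq hG] at hW'card; norm_num [Search.N] at hW'card
  set n7 := (normalizer (W' : Set G)).index with hn7'
  have hmem : n7 ∈ Search.divProd [64, 9] := Search.mem_divProd _ (by simp) _ ⟨r, by
    simp only [List.prod_cons, List.prod_nil]; rw [mul_comm n7 r, hmul]; norm_num⟩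
  have h := List.all_eq_true.1 sylow_seven_arith n7 hmem
  have hdiv : 576 / n7 = r := Nat.div_eq_of_eq_mul_left (by omega) hmul.symm
  simp [hn7, hdiv, hr1, hne1] at h

omit hp in
/-- A Sylow 23-subgroup is self-centralising with eleven orbits. -/
theorem twentythree (hG : IsM23 G) [Fact (Nat.Prime 23)] (D : SmallExc.PBlk G 23) :
    Cent D = (D.P : Subgroup G) ∧ D.e = 11 := by
  haveI : Finite G := finite_of_isM23 hG
  haveI h2 : Fact (Nat.Prime 2) := ⟨Nat.prime_two⟩
  have hna := not_comm hG
  obtain ⟨hprod, hn1⟩ := sylow_arith D (m := 443520) (by rw [card_eq hG]; rfl)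
  set n := Nat.card (Sylow 23 G) with hn
  have hn2 : n ≠ 1 := card_sylow_ne_one D hG (by norm_num [Search.N])
  have hdiv : D.e ∈ Nat.divisors 22 := Nat.mem_divisors.2 ⟨D.e_dvd, by norm_num⟩
  have he : D.e = 1 ∨ D.e = 2 ∨ D.e = 11 ∨ D.e = 22 := by
    rw [show Nat.divisors 22 = {1, 2, 11, 22} by decide] at hdiv
    simpa using hdiv
  have hdata := H36.BlockDegree.exists_data hna D.P D.card_P (r := D.e) rfl (card_cent D)
  obtain ⟨L, T, hlen, hF, hT2, hTd, -, -, hsum, hsq, -⟩ := hdata
  have heven : 2 ∣ coSize D → D.e = 11 ∨ D.e = 22 → False := fun hev he' => by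
    obtain ⟨z, hzC, hz⟩ := exists_mem_cent D hev
    exact no_involution23 D hG he' hzC hz
  have hmod : D.e = 11 ∨ D.e = 22 → (D.e * coSize D) % 23 = 11 := fun _ => by
    have h : (n * (D.e * coSize D)) % 23 = 443520 % 23 := by rw [← mul_assoc, hprod]
    rw [Nat.mul_mod, hn1, one_mul, Nat.mod_mod] at h
    exact h
  rcases he with he | he | he | he
  · exfalso
    rw [he] at hlen
    have : L = [] := List.length_eq_zero_iff.1 (by omega)
    rw [this, List.sum_nil, add_zero] at hsum
    rw [← hsum] at hT2
    norm_num at hT2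
  · exfalso
    rw [he] at hlen hprod hsq
    have hL1 : coSize D ≠ 1 := fun h1 => by rw [h1] at hprod; omega
    obtain ⟨F, rfl⟩ := List.length_eq_one_iff.1 (show L.length = 1 by omega)
    obtain ⟨hF2, hFd, hF23, hFs, χ, hχ⟩ := hF F (by simp)
    simp only [List.sum_cons, List.sum_nil, add_zero] at hsum
    have hdeg : deg χ = F.natAbs := H84.charDegree_of_eq hχ
    have hmem := mem_degs23 (Int.natAbs_eq F) hF2 (hdeg ▸ deg_lt hG χ)
      (card_eq hG ▸ hFd) (by exact_mod_cast hF23) (hFs hL1)
    have h := List.all_eq_true.1 two_degs F hmem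
    rw [show F + 1 = T by omega, Nat.mod_eq_zero_of_dvd (card_eq hG ▸ hTd)] at h
    simp at h
  · refine ⟨cent_eq_of_coSize D ?_, he⟩
    by_contra hne
    have hm := hmod (Or.inl he)
    rw [he] at hm hprod
    have hmem : coSize D ∈ Search.divProd [128, 9, 5, 7] := Search.mem_divProd _ (by simp) _
      ⟨n, by simp only [List.prod_cons, List.prod_nil]; nlinarith⟩
    have h := List.all_eq_true.1 eleven_coSize (coSize D) hmem
    have hm1 : coSize D % 23 = 1 := by omega
    rcases Nat.mod_two_eq_zero_or_one (coSize D) with hev | hodd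
    · exact heven (Nat.dvd_of_mod_eq_zero hev) (Or.inl he)
    · simp [hm1, hodd] at h
      exact hne h
  · exfalso
    have hm := hmod (Or.inr he)
    rw [he] at hm hprod
    have hmem : coSize D ∈ Search.divProd [64, 9, 5, 7] := Search.mem_divProd _ (by simp) _
      ⟨n, by simp only [List.prod_cons, List.prod_nil]; nlinarith⟩
    have h := List.all_eq_true.1 twentytwo_coSize (coSize D) hmem
    have hm1 : coSize D % 23 = 12 := by omega
    simp [hm1] at h
    rcases h with (h | h) | h
    · exact heven (Nat.dvd_of_mod_eq_zero h.1) (Or.inr he)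
    · exact no_thirtyfive D hG he h
    · rw [h] at hprod; omega

end Block

end Cfsg.Agent.H90.MTwentyThree
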